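import Mathlib
import Cfsg.Agent.BpField.PSU
import Cfsg.Agent.CpAut.Psl
import Cfsg.Agent.BpTab.Base
import Cfsg.Agent.S0249
import Cfsg.Agent.TwoFusion.SLTwoFacts
import Cfsg.Agent.LieClassical.Order72
import Cfsg.Agent.BpLin.SemiRing
import Cfsg.Agent.BpLieP.Base
import Cfsg.Agent.BpLieP.Main
import Cfsg.Agent.BpTab.Rows
import Cfsg.Agent.S0283
import Cfsg.Agent.BpRee.Main
import Cfsg.Agent.CpAutRee.Ree
import Cfsg.Agent.Walter.Final
import Cfsg.Agent.S0319
import Cfsg.Agent.BpExc.FixRel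
import Cfsg.Agent.BpExc.NChev
import Cfsg.Agent.PreUniq.BnRP
import Cfsg.Agent.PreUniq.RPBase
import Cfsg.Agent.BpExc.Asm
import Cfsg.Agent.BpExc.Pair
import Cfsg.Agent.BpExc.LangFr
import Cfsg.Agent.BpExc.TowChev
import Cfsg.Agent.BpExc.Emb
import Cfsg.Agent.S1049
import Cfsg.Agent.BpExc.FamTwSix
import Cfsg.Agent.BpExc.EmbSplit
import Cfsg.Agent.BpExc.RowsUntw
import Cfsg.Agent.CpAut.RgdTwD4
import Cfsg.Agent.BpTri.Panel
import Cfsg.Agent.FixBN.FieldNode
import Cfsg.Agent.BpHecke.RankTwo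
import Cfsg.Agent.FixOdd.TwOf
import Cfsg.Agent.FixBN.FieldRGD
import Cfsg.Agent.OddHalf.Table.AutRGD
import Cfsg.Agent.FixBN.OutSplit
import Cfsg.Agent.FixBN.TwGood
import Cfsg.Agent.Schreier.Cases
import Cfsg.Agent.BpExc.EmbInst
import Cfsg.Agent.BpExc.Sig
import Cfsg.Agent.BpTwo.Two
import Cfsg.Prelude.Def_LieTwisted
import Cfsg.Agent.BpSpor.Inn.Base
import Cfsg.Agent.UGT.End.MEleven
import Cfsg.Agent.BpSpor.RowAll
import Cfsg.Agent.Cit.Eleven
import Cfsg.Agent.OddHalf.Table.OutMTwelve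
import Cfsg.Agent.Schreier.MTwelve
import Cfsg.Agent.MTwelveType.SylowModel
import Cfsg.Agent.J4Type.Aut22
import Cfsg.Agent.SporadicA.MathieuRecog
import Cfsg.Agent.UGT.MTwentyThree.Aut
import Cfsg.Agent.Omega.TwoF.MathieuRK
import Cfsg.Agent.KFacts.M24Two.Out
import Cfsg.Prelude.Def_Spor_Mathieu
import Cfsg.Agent.S0364
import Cfsg.Agent.S0365
import Cfsg.Agent.OddHalf.D4.Spor.J1Out
import Cfsg.Agent.SporadicB.J1.Main
import Cfsg.Agent.OddHalf.D8.RowJ3
import Cfsg.Agent.S1625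
import Cfsg.Agent.KFacts.J4.SheetJ4
import Cfsg.Agent.S1703
import Cfsg.Agent.KFacts.CoTwo.QuotInst
import Cfsg.Agent.Schreier.CoTwoStab
import Cfsg.Agent.Co2Type.CardCo2
import Cfsg.Agent.UGT.End.McLOuter
import Cfsg.Agent.TypeM.FactsMcL
import Cfsg.Agent.Schreier.McLaughlin
import Cfsg.Agent.KFacts.ON.Aut
import Cfsg.Agent.S1699
import Cfsg.Agent.TypeM.OutLyFin
import Cfsg.Agent.S1702
import Cfsg.Agent.OddHalf.Table.OutFi22
import Cfsg.Agent.S1696
import Cfsg.Agent.KFacts.HN.Sheet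
import Cfsg.Agent.S1701
import Cfsg.Agent.KFacts.Th.Main
import Cfsg.Agent.S1700
import Cfsg.Agent.BpSpor.Row.J2
import Cfsg.Agent.BpSpor.Row.Co1
import Cfsg.Agent.BpSpor.Row.Co3
import Cfsg.Agent.BpSpor.Row.HS
import Cfsg.Agent.BpSpor.Row.Suz
import Cfsg.Agent.BpSpor.Row.He
import Cfsg.Agent.BpSpor.Row.Ru
import Cfsg.Agent.BpSpor.Row.Fi23
import Cfsg.Agent.BpSpor.Row.Fi24
import Cfsg.Agent.BpSpor.Row.B
import Cfsg.Agent.BpSpor.Row.M
import Cfsg.Agent.BpSpor.Row.Tits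
import Cfsg.Agent.BpSpor.PairList
import Cfsg.Agent.BpAlt.Row
import Cfsg.Agent.BpCl.Rows
import Cfsg.Agent.BpRed.Final
import Cfsg.Agent.BpTri.Nodes
import Cfsg.Agent.BpTri.Min
import Cfsg.Agent.FixOdd.Defs
import Cfsg.Agent.FixBN.TraceSys
import Cfsg.Agent.FixBN.OfBN
import Cfsg.Agent.BpHecke.Norm
import Cfsg.Agent.ClassicalGeometry.OrthAut3
import Cfsg.Agent.AutOrth.Final
import Cfsg.Agent.BpTri.Six
import Cfsg.Agent.FixOdd.Gates
import Cfsg.Agent.FixOdd.Smith
import Cfsg.Agent.BpGate.Main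
import Cfsg.Agent.S0320
import Cfsg.Agent.FixBN.ChevGood
import Cfsg.Agent.S0296
import Cfsg.Agent.S1082
import Cfsg.Agent.Schreier.Assembly
import Cfsg.Agent.S0205
import Cfsg.Agent.S1727

-- merged: Cfsg.Agent.BpField.PSL
section

/-!
# S1332, `PSL_n(F)`: automorphisms of field type (helper70)

* `good_field` : an automorphism `lift (cj A * fld σ)` of prime order, `σ ≠ 1`: the fixed points are good, all primes `ℓ`;
* `exists_gl` : an automorphism of odd prime order is of field type or `lift (cj A)` with `A ^ p` scalar;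
* `bpS_of_lin` : `BpS p (PSL_n(F))` from the linear automorphisms.
-/

set_option autoImplicit false

namespace Cfsg.Agent.BpField.PSL

open Matrix Cfsg Cfsg.Agent.BpTab
open Cfsg.Agent.ClassicalGeometry.AutPSL.Auto Cfsg.Agent.ClassicalGeometry.AutPSL.Main
open Cfsg.Agent.CpAut.Psl Cfsg.Agent.CpAut.Fix

variable {F : Type*} [Field F] [Fintype F]

/-- `PSL_n(E)` is simple or `SL_n(E)` is solvable. -/
theorem simple_or_solvable {E : Type*} [Field E] [Finite E] {n : ℕ} (hn : 2 ≤ n) :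
    IsSimpleGroup (Matrix.ProjectiveSpecialLinearGroup (Fin n) E) ∨
      Group.IsSolvable (Matrix.SpecialLinearGroup (Fin n) E) := by
  have : Fintype E := Fintype.ofFinite E
  rcases hn.eq_or_lt with h2 | h3
  · subst h2
    by_cases h4 : 3 < Fintype.card E
    · exact Or.inl (TwoFusion.SLTwoFacts.isSimpleGroup_psl h4)
    · right
      have h5 : 1 < Fintype.card E := Fintype.one_lt_card
      refine Cfsg.Agent.LieClassical.Order72.isSolvable_of_card_dvd ?_
      rw [Cfsg.Agent.ClassicalGeometry.PSL2Basic.card_SL2]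
      rcases (show Fintype.card E = 2 ∨ Fintype.card E = 3 by omega) with h6 | h6 <;> rw [h6] <;> norm_num
  · exact Or.inl (S0249.result n h3)

/-- **Field type.** -/
theorem good_field {n : ℕ} (hn : 2 ≤ n) {p : ℕ} (hp : p.Prime) {A : GL (Fin n) F} {σ : F ≃+* F} (hσ : σ ≠ 1)
    (hα : (lift (cj A * fld σ)) ^ p = 1) {ℓ : ℕ} (hℓ : ℓ.Prime) :
    Good ℓ ↥(fixedSubgroup (lift (cj A * fld σ))) := by
  have : Nontrivial (Fin n) := Fin.nontrivial_iff_two_le.2 hn
  have : Fact ℓ.Prime := ⟨hℓ⟩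
  obtain ⟨-, B, hB⟩ := exists_conj hp hα hσ
  have e : ↥(fixedSubgroup (lift (cj A * fld σ))) ≃* ↥(fixedSubgroup (lift (fld σ) :
      MulAut (Matrix.ProjectiveSpecialLinearGroup (Fin n) F))) := by
    refine MulEquiv.trans (MulEquiv.subgroupCongr ?_) (fixedConj (lift (cj B)) (lift (fld σ))).symm
    rw [hB, map_mul, map_mul, map_inv]
  exact (Sett.good (sett (Fin n) σ) hℓ (simple_or_solvable hn)).congr e.symm

/-- Automorphisms of odd prime order: of field type, or linear with `A ^ p` scalar. -/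
theorem exists_gl {n : ℕ} (hn : 2 ≤ n) {p : ℕ} (hp : p.Prime) (hp2 : p ≠ 2)
    {x : MulAut (Matrix.ProjectiveSpecialLinearGroup (Fin n) F)} (hx : orderOf x = p) :
    (∀ ℓ : ℕ, ℓ.Prime → Good ℓ ↥(fixedSubgroup x)) ∨
      ∃ A : GL (Fin n) F, x = lift (cj A) ∧ ∃ r : F, r ≠ 0 ∧ (A : Matrix (Fin n) (Fin n) F) ^ p = r • 1 := by
  have : Nontrivial (Fin n) := Fin.nontrivial_iff_two_le.2 hn
  have hx' : x ^ p = 1 := by rw [← hx]; exact pow_orderOf_eq_one x
  obtain ⟨A, σ, rfl⟩ := exists_of_odd hn (hp.odd_of_ne_two hp2) hx'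
  by_cases hσ : σ = 1
  · right
    subst hσ
    rw [map_one, mul_one] at hx'
    refine ⟨A, by rw [map_one, mul_one], ?_⟩
    have h1 : lift (cj (A ^ p) * fld (1 : F ≃+* F)) = lift (fld (1 : F ≃+* F)) := by
      rw [map_one, mul_one, map_pow, map_pow, hx', map_one]
    obtain ⟨⟨r, hr⟩, -⟩ := injective_aux h1
    refine ⟨r, scalar_ne_zero hr, ?_⟩
    rw [← Units.val_pow_eq_pow_val, ← hr, smul_one_eq_diagonal]
    rfl
  · left
    intro ℓ hℓ
    exact good_field hn hp hσ hx' hℓ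

/-- `BpS p (PSL_n(F))` from the linear automorphisms. -/
theorem bpS_of_lin {n : ℕ} (hn : 2 ≤ n) {p : ℕ} (hp : p.Prime) (hp2 : p ≠ 2)
    (h : ∀ (A : GL (Fin n) F) (r : F), r ≠ 0 → (A : Matrix (Fin n) (Fin n) F) ^ p = r • 1 →
      Good p ↥(fixedSubgroup (lift (cj A)))) :
    BpS p (Matrix.ProjectiveSpecialLinearGroup (Fin n) F) := by
  intro x hx
  rcases exists_gl hn hp hp2 hx with h1 | ⟨A, rfl, r, hr, hA⟩
  · exact h1 p hp
  · exact h A r hr hA

end Cfsg.Agent.BpField.PSL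

end

-- merged: Cfsg.Agent.BpField.Cent
section

/-!
# The centralizer ring of a matrix with `A ^ p` scalar is semisimple (helper70)

* `CR A` : the centralizer of `A` in the matrix ring; `exists_equiv` : it is the ring of endomorphisms of the
  `F[X]`-module defined by `A`;
* `isSemisimpleRing` : `A ^ p = r • 1`, `r ≠ 0`, `p ≠ 0` in `F`: `CR A` is a semisimple ring.
-/

set_option autoImplicit false

namespace Cfsg.Agent.BpField.Cent

open Matrix Polynomial Module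

variable {F : Type*} [Field F] {n : ℕ}

/-- The centralizer ring. -/
abbrev CR (A : Matrix (Fin n) (Fin n) F) : Subring (Matrix (Fin n) (Fin n) F) := Subring.centralizer {A}

theorem mem_CR {A T : Matrix (Fin n) (Fin n) F} : T ∈ CR A ↔ A * T = T * A := by
  rw [Subring.mem_centralizer_iff]
  constructor
  · intro h
    exact h A rfl
  · rintro h _ rfl
    exact h

/-- The endomorphism of the `F[X]`-module. -/
noncomputable def toEnd (A : Matrix (Fin n) (Fin n) F) (T : ↥(CR A)) : Module.End F[X] (AEval' (toLin' A)) :=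
  LinearMap.ofAEval (toLin' A) ((AEval'.of (toLin' A)).toLinearMap ∘ₗ toLin' T.1) (by
    intro m
    change AEval'.of (toLin' A) (toLin' T.1 (toLin' A m)) = (X : F[X]) • AEval'.of (toLin' A) (toLin' T.1 m)
    rw [AEval'.X_smul_of, toLin'_apply, toLin'_apply, toLin'_apply, toLin'_apply, mulVec_mulVec, mulVec_mulVec,
      mem_CR.1 T.2])

theorem toEnd_of (A : Matrix (Fin n) (Fin n) F) (T : ↥(CR A)) (v : Fin n → F) :
    toEnd A T (AEval'.of (toLin' A) v) = AEval'.of (toLin' A) (T.1 *ᵥ v) := by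
  change AEval'.of (toLin' A) (toLin' T.1 ((AEval'.of (toLin' A)).symm (AEval'.of (toLin' A) v))) = _
  rw [LinearEquiv.symm_apply_apply, toLin'_apply]

theorem exists_equiv (A : Matrix (Fin n) (Fin n) F) :
    Nonempty (↥(CR A) ≃+* Module.End F[X] (AEval' (toLin' A))) := by
  have hsurj : ∀ w : AEval' (toLin' A), ∃ v, AEval'.of (toLin' A) v = w := fun w =>
    ⟨(AEval'.of (toLin' A)).symm w, LinearEquiv.apply_symm_apply _ _⟩
  let f : ↥(CR A) →+* Module.End F[X] (AEval' (toLin' A)) :=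
    { toFun := toEnd A
      map_one' := by
        apply LinearMap.ext
        intro w
        obtain ⟨v, rfl⟩ := hsurj w
        rw [toEnd_of]
        change AEval'.of (toLin' A) ((1 : Matrix (Fin n) (Fin n) F) *ᵥ v) = _
        rw [one_mulVec]
        rfl
      map_mul' := by
        intro S T
        apply LinearMap.ext
        intro w
        obtain ⟨v, rfl⟩ := hsurj w
        rw [Module.End.mul_apply, toEnd_of, toEnd_of, toEnd_of, mulVec_mulVec]
        rfl
      map_zero' := by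
        apply LinearMap.ext
        intro w
        obtain ⟨v, rfl⟩ := hsurj w
        rw [toEnd_of]
        change AEval'.of (toLin' A) ((0 : Matrix (Fin n) (Fin n) F) *ᵥ v) = _
        rw [zero_mulVec, map_zero]
        rfl
      map_add' := by
        intro S T
        apply LinearMap.ext
        intro w
        obtain ⟨v, rfl⟩ := hsurj w
        rw [LinearMap.add_apply, toEnd_of, toEnd_of, toEnd_of, ← map_add, ← add_mulVec]
        rfl }
  have hf : ∀ T v, f T (AEval'.of (toLin' A) v) = AEval'.of (toLin' A) (T.1 *ᵥ v) := toEnd_of A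
  refine ⟨RingEquiv.ofBijective f ⟨?_, ?_⟩⟩
  · intro S T h
    apply Subtype.ext
    apply Matrix.ext_of_mulVec_single
    intro i
    apply (AEval'.of (toLin' A)).injective
    rw [← hf, ← hf, h]
  · intro g
    let t : (Fin n → F) →ₗ[F] (Fin n → F) :=
      (AEval'.of (toLin' A)).symm.toLinearMap ∘ₗ (g.restrictScalars F) ∘ₗ (AEval'.of (toLin' A)).toLinearMap
    have ht : ∀ v, AEval'.of (toLin' A) (t v) = g (AEval'.of (toLin' A) v) := by
      intro v
      change AEval'.of (toLin' A) ((AEval'.of (toLin' A)).symm (g (AEval'.of (toLin' A) v))) = _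
      rw [LinearEquiv.apply_symm_apply]
    have hT : ∀ v, LinearMap.toMatrix' t *ᵥ v = t v := fun v => LinearMap.toMatrix'_mulVec t v
    refine ⟨⟨LinearMap.toMatrix' t, mem_CR.2 ?_⟩, ?_⟩
    · apply Matrix.ext_of_mulVec_single
      intro i
      rw [← mulVec_mulVec, ← mulVec_mulVec, hT, hT]
      apply (AEval'.of (toLin' A)).injective
      rw [ht, ← toLin'_apply A, ← toLin'_apply A]
      have h1 := AEval'.X_smul_of (toLin' A) (t (Pi.single i 1))
      have h2 := AEval'.X_smul_of (toLin' A) (Pi.single i (1 : F))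
      rw [← h1, ← h2, ht, map_smul]
    · apply LinearMap.ext
      intro w
      obtain ⟨v, rfl⟩ := hsurj w
      rw [hf]
      change AEval'.of (toLin' A) (LinearMap.toMatrix' t *ᵥ v) = _
      rw [hT, ht]

/-- **The centralizer ring is semisimple.** -/
theorem isSemisimpleRing {A : Matrix (Fin n) (Fin n) F} {p : ℕ} (hp : (p : F) ≠ 0) {r : F} (hr : r ≠ 0)
    (hA : A ^ p = r • 1) : IsSemisimpleRing ↥(CR A) := by
  have h1 : Module.End.IsSemisimple (toLin' A) := by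
    refine Module.End.isSemisimple_of_squarefree_aeval_eq_zero (p := X ^ p - C r)
      (separable_X_pow_sub_C r hp hr).squarefree ?_
    rw [map_sub, map_pow, aeval_X, aeval_C, sub_eq_zero]
    have h2 : toLin' A ^ p = toLin' (A ^ p) := (map_pow (toLinAlgEquiv' (R := F) (n := Fin n)) A p).symm
    rw [h2, hA]
    apply LinearMap.ext
    intro v
    rw [toLin'_apply, smul_mulVec, one_mulVec]
    rfl
  have h3 : IsSemisimpleModule F[X] (AEval' (toLin' A)) := h1
  have h4 : Module.Finite F[X] (AEval' (toLin' A)) := AEval.instFinitePolynomial (toLin' A)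
  have h5 := IsSemisimpleRing.moduleEnd F[X] (AEval' (toLin' A))
  obtain ⟨e⟩ := exists_equiv A
  exact RingEquiv.isSemisimpleRing (R := Module.End F[X] (AEval' (toLin' A))) (S := ↥(CR A)) e.symm

end Cfsg.Agent.BpField.Cent

end

-- merged: Cfsg.Agent.BpField.RowPSL
section

/-!
# S1332, the row `PSL_n(F)`, `p` odd and not the characteristic (helper70)

* `good_fixed_cj`, `good_lin` : the fixed points of `cj A` on `SL_n(F)`, `PSL_n(F)`, `A ^ p` scalar;
* `bpS` : `BpS p (PSL_n(F))`, `p` odd, `p ≠ 0` in `F`.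
-/

set_option autoImplicit false

namespace Cfsg.Agent.BpField

open Matrix Cfsg Cfsg.Agent.BpTab

/-- A group embedded in a good group as the kernel of a homomorphism to a commutative group. -/
theorem good_of_embed {p : ℕ} [Fact p.Prime] {G H A : Type*} [Group G] [Finite G] [Group H] [CommGroup A]
    (hG : Good p G) (f : G →* A) (g : H →* G) (hg : Function.Injective g) (hr : g.range = f.ker) : Good p H := by
  have h1 : Good p ↥f.ker := hG.subnormal (inferInstance : f.ker.Normal).isSubnormal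
  have h2 : Finite H := Finite.of_injective g hg
  refine h1.congr ?_
  rw [← hr]
  exact (MonoidHom.ofInjective hg).symm

namespace PSL

open Cfsg.Agent.BpField.Cent
open Cfsg.Agent.ClassicalGeometry.AutPSL.Auto

variable {F : Type*} [Field F] {n : ℕ}

theorem mem_fixed_iff {A : GL (Fin n) F} {g : Matrix.SpecialLinearGroup (Fin n) F} :
    g ∈ fixedSubgroup (cj A) ↔ (g : Matrix (Fin n) (Fin n) F) ∈ CR (A : Matrix (Fin n) (Fin n) F) := by
  rw [mem_CR]
  have h1 : (A : Matrix (Fin n) (Fin n) F) * ((A⁻¹ : GL (Fin n) F) : Matrix (Fin n) (Fin n) F) = 1 := A.mul_inv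
  have h2 : ((A⁻¹ : GL (Fin n) F) : Matrix (Fin n) (Fin n) F) * (A : Matrix (Fin n) (Fin n) F) = 1 := A.inv_mul
  have h3 : g ∈ fixedSubgroup (cj A) ↔ (A : Matrix (Fin n) (Fin n) F) * g * ((A⁻¹ : GL (Fin n) F) :
      Matrix (Fin n) (Fin n) F) = g := by
    rw [← coe_cj]
    exact Subtype.ext_iff
  rw [h3]
  constructor
  · intro h
    calc (A : Matrix (Fin n) (Fin n) F) * g = (A : Matrix (Fin n) (Fin n) F) * g *
          (((A⁻¹ : GL (Fin n) F) : Matrix (Fin n) (Fin n) F) * (A : Matrix (Fin n) (Fin n) F)) := by rw [h2, mul_one]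
      _ = g * (A : Matrix (Fin n) (Fin n) F) := by rw [← mul_assoc, h]
  · intro h
    rw [h, mul_assoc, h1, mul_one]

/-- the determinant of a unit of the centralizer ring -/
def dt (A : Matrix (Fin n) (Fin n) F) : (↥(CR A))ˣ →* Fˣ :=
  Units.map ((Matrix.detMonoidHom (n := Fin n) (R := F)).comp ((CR A).subtype : ↥(CR A) →* Matrix (Fin n) (Fin n) F))

theorem coe_dt (A : Matrix (Fin n) (Fin n) F) (u : (↥(CR A))ˣ) :
    ((dt A u : Fˣ) : F) = ((u : ↥(CR A)) : Matrix (Fin n) (Fin n) F).det := rfl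

/-- the fixed points of `cj A` as units of the centralizer ring -/
def emb (A : GL (Fin n) F) : ↥(fixedSubgroup (cj A)) →* (↥(CR (A : Matrix (Fin n) (Fin n) F)))ˣ where
  toFun g :=
    { val := ⟨(g.1 : Matrix (Fin n) (Fin n) F), mem_fixed_iff.1 g.2⟩
      inv := ⟨((g⁻¹ : ↥(fixedSubgroup (cj A))).1 : Matrix (Fin n) (Fin n) F), mem_fixed_iff.1 (g⁻¹).2⟩
      val_inv := by
        apply Subtype.ext
        change (g.1 : Matrix (Fin n) (Fin n) F) * ((g⁻¹ : ↥(fixedSubgroup (cj A))).1 : Matrix (Fin n) (Fin n) F) = 1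
        rw [← Matrix.SpecialLinearGroup.coe_mul, ← Subgroup.coe_mul, mul_inv_cancel]
        rfl
      inv_val := by
        apply Subtype.ext
        change ((g⁻¹ : ↥(fixedSubgroup (cj A))).1 : Matrix (Fin n) (Fin n) F) * (g.1 : Matrix (Fin n) (Fin n) F) = 1
        rw [← Matrix.SpecialLinearGroup.coe_mul, ← Subgroup.coe_mul, inv_mul_cancel]
        rfl }
  map_one' := by
    apply Units.ext
    rfl
  map_mul' a b := by
    apply Units.ext
    rfl

theorem coe_emb (A : GL (Fin n) F) (g : ↥(fixedSubgroup (cj A))) :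
    (((emb A g : (↥(CR (A : Matrix (Fin n) (Fin n) F)))ˣ) : ↥(CR (A : Matrix (Fin n) (Fin n) F))) :
      Matrix (Fin n) (Fin n) F) = g.1 := rfl

variable [Finite F]

theorem good_fixed_cj {ℓ : ℕ} [Fact ℓ.Prime] (A : GL (Fin n) F) {p : ℕ} (hp : (p : F) ≠ 0) {r : F} (hr : r ≠ 0)
    (hA : (A : Matrix (Fin n) (Fin n) F) ^ p = r • 1) : Good ℓ ↥(fixedSubgroup (cj A)) := by
  have h1 := isSemisimpleRing hp hr hA
  have h2 : Finite (Matrix (Fin n) (Fin n) F) := inferInstanceAs (Finite (Fin n → Fin n → F))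
  have h3 : Good ℓ (↥(CR (A : Matrix (Fin n) (Fin n) F)))ˣ := BpLin.good_units _
  refine good_of_embed h3 (dt (A : Matrix (Fin n) (Fin n) F)) (emb A) ?_ ?_
  · intro a b h
    apply Subtype.ext
    apply Subtype.ext
    rw [← coe_emb, ← coe_emb, h]
  · ext u
    constructor
    · rintro ⟨g, rfl⟩
      rw [MonoidHom.mem_ker]
      apply Units.ext
      rw [coe_dt, coe_emb, Units.val_one]
      exact g.1.2
    · intro hu
      rw [MonoidHom.mem_ker] at hu
      have h4 : ((u : ↥(CR (A : Matrix (Fin n) (Fin n) F))) : Matrix (Fin n) (Fin n) F).det = 1 := by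
        rw [← coe_dt, hu, Units.val_one]
      refine ⟨⟨⟨((u : ↥(CR (A : Matrix (Fin n) (Fin n) F))) : Matrix (Fin n) (Fin n) F), h4⟩,
        mem_fixed_iff.2 (u : ↥(CR (A : Matrix (Fin n) (Fin n) F))).2⟩, ?_⟩
      apply Units.ext
      rfl

/-- **Linear automorphisms.** -/
theorem good_lin {ℓ : ℕ} [Fact ℓ.Prime] (A : GL (Fin n) F) {p : ℕ} (hp : (p : F) ≠ 0) {r : F} (hr : r ≠ 0)
    (hA : (A : Matrix (Fin n) (Fin n) F) ^ p = r • 1) : Good ℓ ↥(fixedSubgroup (lift (cj A))) :=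
  BpLin.good_fixed_quotient_center (α := cj A) (fun _ => rfl) (good_fixed_cj A hp hr hA)

end PSL

/-- **`BpS p (PSL_n(F))`, `p` odd, not the characteristic.** -/
theorem PSL.bpS {F : Type*} [Field F] [Fintype F] {n : ℕ} (hn : 2 ≤ n) {p : ℕ} (hp : p.Prime) (hp2 : p ≠ 2)
    (hpF : (p : F) ≠ 0) : BpS p (Matrix.ProjectiveSpecialLinearGroup (Fin n) F) := by
  have : Fact p.Prime := ⟨hp⟩
  exact PSL.bpS_of_lin hn hp hp2 fun A r hr hA => PSL.good_lin A hpF hr hA

end Cfsg.Agent.BpField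

end

-- merged: Cfsg.Agent.BpField.RowPSU
section

/-!
# S1332, the row `PSU_n(q)`, `p` odd and not the characteristic (helper70)

* `good_lin` : the fixed points of `toAut A 1` on `PSU_n(q)`, `A ^ p` scalar;
* `bpS` : `BpS p (PSU_n(q))`, `p` odd, `p ≠ 0` in `F`.
-/

set_option autoImplicit false

namespace Cfsg.Agent.BpField.PSU

open Matrix Cfsg Cfsg.Agent.BpTab Cfsg.Agent.BpField.Cent Cfsg.Agent.BpLin
open Cfsg.Agent.LieClassical.HermBasic Cfsg.Agent.LieClassical.HermSiegel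
open Cfsg.Agent.ClassicalGeometry.PSUAutCount (toAut gm gm_mul gm_one semiConj gm_mul_inv gm_inv_mul gm_inv_mulVec)
open Cfsg.Agent.ClassicalGeometry.UnitAutBasic (pr pr_surjective)

variable {F : Type*} [Field F] [Fintype F] {n q : ℕ}

/-- the conjugation as a ring homomorphism -/
def cj (hF : Fintype.card F = q ^ 2) : F →+* F := (conj hF : F ≃+* F)

theorem cj_apply (hF : Fintype.card F = q ^ 2) (x : F) : cj hF x = x ^ q := rfl

theorem cj_cj (hF : Fintype.card F = q ^ 2) (x : F) : cj hF (cj hF x) = x := pow_q_pow_q hF x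

theorem gm_mul_cst (hF : Fintype.card F = q ^ 2) (A : GU n F q) : gm A * cst (cj hF) (gm A) = 1 :=
  (mem_GU_iff_cst hF (cj_apply hF) (A : GL (Fin n) F)).1 A.2

theorem cst_gm (hF : Fintype.card F = q ^ 2) (A : GU n F q) : cst (cj hF) (gm A) = gm A⁻¹ := by
  calc cst (cj hF) (gm A) = gm A⁻¹ * gm A * cst (cj hF) (gm A) := by rw [gm_inv_mul, one_mul]
    _ = gm A⁻¹ := by rw [mul_assoc, gm_mul_cst, mul_one]

theorem cst_mem (hF : Fintype.card F = q ^ 2) (A : GU n F q) {T : Matrix (Fin n) (Fin n) F} (hT : T ∈ CR (gm A)) :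
    cst (cj hF) T ∈ CR (gm A) := by
  rw [mem_CR] at hT ⊢
  have h1 := congrArg (cst (cj hF)) hT
  rw [cst_mul, cst_mul, cst_gm] at h1
  calc gm A * cst (cj hF) T = gm A * (cst (cj hF) T * gm A⁻¹) * gm A := by
        rw [mul_assoc (gm A), mul_assoc (cst (cj hF) T), gm_inv_mul, mul_one]
    _ = gm A * (gm A⁻¹ * cst (cj hF) T) * gm A := by rw [h1]
    _ = cst (cj hF) T * gm A := by rw [← mul_assoc, gm_mul_inv, one_mul]

/-- The adjoint involution of the centralizer ring. -/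
def adj (hF : Fintype.card F = q ^ 2) (A : GU n F q) : RInv ↥(CR (gm A)) where
  toFun T := ⟨cst (cj hF) T.1, cst_mem hF A T.2⟩
  map_add' a b := Subtype.ext (cst_add (cj hF) a.1 b.1)
  map_mul' a b := Subtype.ext (cst_mul (cj hF) a.1 b.1)
  invol' a := Subtype.ext (cst_cst (cj_cj hF) a.1)

theorem coe_adj (hF : Fintype.card F = q ^ 2) (A : GU n F q) (T : ↥(CR (gm A))) :
    ((adj hF A T : ↥(CR (gm A))) : Matrix (Fin n) (Fin n) F) = cst (cj hF) T.1 := rfl

theorem good_U {ℓ : ℕ} [Fact ℓ.Prime] (hF : Fintype.card F = q ^ 2) (A : GU n F q) {p : ℕ} (hp : (p : F) ≠ 0) {c : F}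
    (hc : c ≠ 0) (hA : gm A ^ p = c • 1) : Good ℓ ↥(adj hF A).U := by
  have h1 := isSemisimpleRing hp hc hA
  have h2 : Finite (Matrix (Fin n) (Fin n) F) := inferInstanceAs (Finite (Fin n → Fin n → F))
  refine good_unitary (adj hF A) ?_
  intro e he _ _ he0
  obtain ⟨a, ha⟩ := exists_not_fixed hF
  have hz : (a • 1 : Matrix (Fin n) (Fin n) F) ∈ CR (gm A) := by
    rw [mem_CR, Matrix.mul_smul, Matrix.smul_mul, mul_one, one_mul]
  refine ⟨⟨a • 1, hz⟩, ?_, ?_⟩
  · rw [Subring.mem_center_iff]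
    intro g
    apply Subtype.ext
    change g.1 * (a • 1) = (a • 1) * g.1
    rw [Matrix.mul_smul, Matrix.smul_mul, mul_one, one_mul]
  · intro h
    have h3 := congrArg Subtype.val h
    change cst (cj hF) (a • 1) * e.1 = (a • 1) * e.1 at h3
    rw [cst_smul, cst_one, Matrix.smul_mul, Matrix.smul_mul, one_mul, ← sub_eq_zero, ← sub_smul] at h3
    rcases smul_eq_zero.1 h3 with h4 | h4
    · exact ha (sub_eq_zero.1 h4)
    · exact he0 (Subtype.ext h4)

omit [Fintype F] in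
theorem mem_fixed_iff {A : GU n F q} {g : SU n F q} : g ∈ fixedSubgroup (semiConj A 1) ↔ mat g ∈ CR (gm A) := by
  rw [mem_CR]
  have h1 : g ∈ fixedSubgroup (semiConj A 1) ↔ ∀ x, gm A *ᵥ act g (gm A⁻¹ *ᵥ x) = act g x := by
    constructor
    · intro h x
      have h2 : semiConj A 1 g = g := h
      rw [← Cfsg.Agent.Schreier.PSU.act_semiConj_one', h2]
    · intro h
      change semiConj A 1 g = g
      apply ext_act
      intro x
      rw [Cfsg.Agent.Schreier.PSU.act_semiConj_one', h]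
  rw [h1]
  constructor
  · intro h
    apply Matrix.ext_of_mulVec_single
    intro i
    have h2 := h (gm A *ᵥ (Pi.single i 1))
    rw [gm_inv_mulVec] at h2
    rw [← mulVec_mulVec, ← mulVec_mulVec]
    exact h2
  · intro h x
    rw [act_def, act_def, mulVec_mulVec, mulVec_mulVec, h, mul_assoc, gm_mul_inv, mul_one]

/-- fixed points as unitary elements of the centralizer ring -/
def emb (hF : Fintype.card F = q ^ 2) (A : GU n F q) : ↥(fixedSubgroup (semiConj A 1)) →* ↥(adj hF A).U where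
  toFun g :=
    ⟨{ val := ⟨mat g.1, mem_fixed_iff.1 g.2⟩
       inv := ⟨mat (g⁻¹ : ↥(fixedSubgroup (semiConj A 1))).1, mem_fixed_iff.1 (g⁻¹).2⟩
       val_inv := by
        apply Subtype.ext
        change mat g.1 * mat (g⁻¹ : ↥(fixedSubgroup (semiConj A 1))).1 = 1
        have h : mat (g.1 * (g⁻¹ : ↥(fixedSubgroup (semiConj A 1))).1) = 1 := by
          rw [← Subgroup.coe_mul, mul_inv_cancel]
          rfl
        exact h
       inv_val := by
        apply Subtype.ext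
        change mat (g⁻¹ : ↥(fixedSubgroup (semiConj A 1))).1 * mat g.1 = 1
        have h : mat ((g⁻¹ : ↥(fixedSubgroup (semiConj A 1))).1 * g.1) = 1 := by
          rw [← Subgroup.coe_mul, inv_mul_cancel]
          rfl
        exact h }, by
      rw [RInv.mem_U]
      apply Subtype.ext
      change mat g.1 * cst (cj hF) (mat g.1) = 1
      have h := (mem_GU_iff_cst hF (cj_apply hF)
        ((g.1.1 : Matrix.SpecialLinearGroup (Fin n) F) : GL (Fin n) F)).1 ?_
      · exact h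
      · exact fun u v => (LieClassical.SUBasic.mem_SU_iff _).1 g.1.2 u v⟩
  map_one' := by
    apply Subtype.ext
    apply Units.ext
    rfl
  map_mul' a b := by
    apply Subtype.ext
    apply Units.ext
    rfl

theorem coe_emb (hF : Fintype.card F = q ^ 2) (A : GU n F q) (g : ↥(fixedSubgroup (semiConj A 1))) :
    ((((emb hF A g : ↥(adj hF A).U) : (↥(CR (gm A)))ˣ) : ↥(CR (gm A))) : Matrix (Fin n) (Fin n) F) = mat g.1 := rfl

theorem good_fixed_semiConj {ℓ : ℕ} [Fact ℓ.Prime] (hF : Fintype.card F = q ^ 2) (A : GU n F q) {p : ℕ}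
    (hp : (p : F) ≠ 0) {c : F} (hc : c ≠ 0) (hA : gm A ^ p = c • 1) :
    Good ℓ ↥(fixedSubgroup (semiConj A 1)) := by
  have h2 : Finite (Matrix (Fin n) (Fin n) F) := inferInstanceAs (Finite (Fin n → Fin n → F))
  refine good_of_embed (good_U hF A hp hc hA) ((PSL.dt (gm A)).comp (adj hF A).U.subtype) (emb hF A) ?_ ?_
  · intro a b h
    apply Subtype.ext
    apply mat_injective
    rw [← coe_emb hF, ← coe_emb hF, h]
  · ext u
    constructor
    · rintro ⟨g, rfl⟩
      rw [MonoidHom.mem_ker]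
      apply Units.ext
      change (mat g.1).det = 1
      exact Matrix.SpecialLinearGroup.det_coe _
    · intro hu
      rw [MonoidHom.mem_ker] at hu
      have h4 : (((u : (↥(CR (gm A)))ˣ) : ↥(CR (gm A))) : Matrix (Fin n) (Fin n) F).det = 1 :=
        congrArg Units.val hu
      have h5 : (((u : (↥(CR (gm A)))ˣ) : ↥(CR (gm A))) : Matrix (Fin n) (Fin n) F) *
          cst (cj hF) (((u : (↥(CR (gm A)))ˣ) : ↥(CR (gm A))) : Matrix (Fin n) (Fin n) F) = 1 :=
        congrArg Subtype.val u.2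
      let g₀ : Matrix.SpecialLinearGroup (Fin n) F := ⟨_, h4⟩
      have h6 : g₀ ∈ SU n F q := by
        rw [LieClassical.SUBasic.mem_SU_iff]
        exact (mem_GU_iff_cst hF (cj_apply hF) (g₀ : GL (Fin n) F)).2 h5
      refine ⟨⟨⟨g₀, h6⟩, mem_fixed_iff.2 ((u : (↥(CR (gm A)))ˣ) : ↥(CR (gm A))).2⟩, ?_⟩
      apply Subtype.ext
      apply Units.ext
      rfl

/-- **Linear automorphisms.** -/
theorem good_lin {ℓ : ℕ} [Fact ℓ.Prime] (hF : Fintype.card F = q ^ 2) (A : GU n F q) {p : ℕ}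
    (hp : (p : F) ≠ 0) {c : F} (hc : c ≠ 0) (hA : gm A ^ p = c • 1) :
    Good ℓ ↥(fixedSubgroup (toAut A 1)) :=
  good_fixed_of_lift (π := pr n F q) (α := semiConj A 1) pr_surjective
    (fun g hg => (QuotientGroup.eq_one_iff g).1 hg) (fun _ => rfl) (good_fixed_semiConj hF A hp hc hA)

/-- **`BpS p (PSU_n(q))`, `p` odd, not the characteristic.** -/
theorem bpS (hF : Fintype.card F = q ^ 2) (hn : 3 ≤ n) (h32 : ¬ (n = 3 ∧ q = 2)) {p : ℕ} (hp : p.Prime)
    (hp2 : p ≠ 2) (hpF : (p : F) ≠ 0) : BpS p (PSU n F q) := by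
  have : Fact p.Prime := ⟨hp⟩
  refine bpS_of_lin hF hn h32 hp hp2 fun A c hc hA => good_lin hF A hpF ?_ hA
  rintro rfl
  rw [zero_mul] at hc
  exact zero_ne_one hc

end Cfsg.Agent.BpField.PSU

end

-- merged: Cfsg.Agent.BpField.Rows
section

/-!
# S1332, the rows `PSL`, `PSU` for all odd primes (helper70)

* `bpS_psu_char` : `BpS p (PSU_n(q))`, `p` odd the characteristic (outer automorphisms of order `p` are of field type);
* `bpS_psl`, `bpS_psu` : all odd primes; `psl`, `psu` : the rows `Row p IsPSL`, `Row p IsPSU` of `BpTab.Rows`.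
-/

set_option autoImplicit false

namespace Cfsg.Agent.BpField.Rows

open Matrix Cfsg Cfsg.Agent.BpTab
open Cfsg.Agent.CpAut.Fix (not_comm_quot)
open Cfsg.Agent.ClassicalGeometry.PSUAutCount (toAut)

universe u

/-- The characteristic. -/
theorem charP_of_cast {F : Type*} [Field F] {p : ℕ} (hp : p.Prime) (h : (p : F) = 0) : CharP F p := by
  obtain ⟨r, hr⟩ := CharP.exists F
  have h1 : r ∣ p := (CharP.cast_eq_zero_iff F r p).1 h
  rcases (Nat.dvd_prime hp).1 h1 with h2 | h2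
  · exact absurd h2 (CharP.char_ne_one F r)
  · rwa [← h2]

/-- **`PSU_n(q)`, `p` the characteristic.** -/
theorem bpS_psu_char {F : Type} [Field F] [Fintype F] {p : ℕ} (hp : p.Prime) (hp2 : p ≠ 2) [CharP F p] {n q : ℕ}
    (hF : Fintype.card F = q ^ 2) (hn : 3 ≤ n) (h32 : ¬ (n = 3 ∧ q = 2)) : BpS p (PSU n F q) := by
  have : Fact p.Prime := ⟨hp⟩
  have hsimple := S0283.result hF n hn h32
  have hfilt : KFacts.RgdFilt.HasFilt p (PSU n F q) :=
    KFacts.RgdLieCharP.hasFilt_of_lie (Or.inr (Or.inr (Or.inl ⟨F, inferInstance, inferInstance, inferInstance, n, q, hF,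
      hn, h32, ⟨MulEquiv.refl _⟩⟩)))
  refine BpLieP.Base.bpS_of_filt hfilt not_comm_quot ?_
  intro x hx hno
  have hx' : x ^ p = 1 := by rw [← hx]; exact pow_orderOf_eq_one x
  obtain ⟨A, ρ, rfl⟩ := ClassicalGeometry.PSUAutMain.exists_toAut hF hn h32 x
  have hρ : ρ ≠ 1 := by
    rintro rfl
    exact hno (CpAutU.Desc.inner_of_lin hF hn hx')
  exact PSU.good_field hF hn hp hp2 hρ hx' hp

/-- **`PSU_n(q)`, all odd primes.** -/
theorem bpS_psu {F : Type} [Field F] [Fintype F] {p : ℕ} (hp : p.Prime) (hp2 : p ≠ 2) {n q : ℕ}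
    (hF : Fintype.card F = q ^ 2) (hn : 3 ≤ n) (h32 : ¬ (n = 3 ∧ q = 2)) : BpS p (PSU n F q) := by
  by_cases h : (p : F) = 0
  · have := charP_of_cast hp h
    exact bpS_psu_char hp hp2 hF hn h32
  · exact PSU.bpS hF hn h32 hp hp2 h

/-- **`PSL_n(q)`, all odd primes.** -/
theorem bpS_psl {F : Type} [Field F] [Fintype F] {p : ℕ} (hp : p.Prime) (hp2 : p ≠ 2) {n : ℕ} (hn : 2 ≤ n)
    (h4 : n = 2 → 4 ≤ Fintype.card F) : BpS p (Matrix.ProjectiveSpecialLinearGroup (Fin n) F) := by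
  by_cases h : (p : F) = 0
  · have := charP_of_cast hp h
    exact BpLieP.Psl.bpS_psl hp hp2 hn h4
  · exact PSL.bpS hn hp hp2 h

/-- **The row `PSL`.** -/
theorem psl {p : ℕ} [hp : Fact p.Prime] (hp2 : p ≠ 2) : Row.{u} p fun X _ => IsPSL X := by
  rintro X _ _ ⟨F, iF, iF', n, hn, h4, ⟨e⟩⟩
  exact (bpS_psl hp.out hp2 hn h4).congr e.symm

/-- **The row `PSU`.** -/
theorem psu {p : ℕ} [hp : Fact p.Prime] (hp2 : p ≠ 2) : Row.{u} p fun X _ => IsPSU X := by
  rintro X _ _ ⟨F, iF, iF', n, q, hF, hn, h32, ⟨e⟩⟩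
  exact (bpS_psu hp.out hp2 hF hn h32).congr e.symm

end Cfsg.Agent.BpField.Rows

end

-- merged: Cfsg.Agent.BpRee.Row
section

/-!
# The row `²G₂(q)` of S1332

`ree` : every automorphism of odd prime order `p` (`p = 3` allowed) of a small Ree group has a `Good p` centralizer.
-/

set_option autoImplicit false

namespace Cfsg.Agent.BpRee.RRow

open Subgroup Cfsg Cfsg.Agent.BpTab
open Cfsg.Agent.Walter Cfsg.Agent.Walter.Types
open Cfsg.Agent.CpAutRee.Ree (exists_conj cent_conj pow_mod_eight)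

universe u

theorem isJR {K : Type} [Field K] [Fintype K] {m : ℕ} (hm : 1 ≤ m) (hK : Fintype.card K = 3 ^ (2 * m + 1)) :
    IsSimpleGroup ↥(Cfsg.Lie.twistedG2 K (3 ^ m)) ∧ (∃ a b : ↥(Cfsg.Lie.twistedG2 K (3 ^ m)), a * b ≠ b * a) ∧
      IsJR ↥(Cfsg.Lie.twistedG2 K (3 ^ m)) := by
  classical
  have h2 : Fact (Nat.Prime 2) := ⟨Nat.prime_two⟩
  obtain ⟨hsimp, hc⟩ := Cfsg.Agent.S1073.result hm hK
  have hna : ∃ a b : ↥(Cfsg.Lie.twistedG2 K (3 ^ m)), a * b ≠ b * a := by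
    by_contra hcon
    push Not at hcon
    exact hc ⟨⟨hcon⟩⟩
  obtain ⟨a, haH, ha1, ha2⟩ := Cfsg.Agent.S1157.exists_involution hK
  obtain ⟨⟨e⟩, hS⟩ := Cfsg.Agent.S1152.result hK a haH ha1 ha2
  have hao : orderOf a = 2 := orderOf_eq_prime (by rw [sq, ha2]) ha1
  have hq8 := pow_mod_eight m
  have hq27 : 27 ≤ 3 ^ (2 * m + 1) := by
    calc 27 = 3 ^ 3 := by norm_num
      _ ≤ 3 ^ (2 * m + 1) := Nat.pow_le_pow_right (by norm_num) (by omega)
  refine ⟨hsimp, hna, ⟨default, hS default⟩, K, inferInstance, inferInstance, Or.inl (by rw [hK, hq8]),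
    by rw [hK]; omega, ?_⟩
  intro t ht
  obtain ⟨g, rfl⟩ := exists_conj hna hS hao ht
  obtain ⟨f⟩ := cent_conj a g
  exact ⟨f.symm.trans e⟩

/-- **The row `ree` of S1332**, for every odd prime `p`. -/
theorem ree (p : ℕ) [Fact p.Prime] (hp2 : p ≠ 2) : Row.{u} p fun X _ => Lie.IsoRee X := by
  intro X _ _ h
  obtain ⟨K, i1, i2, m, hm, hK, ⟨e⟩⟩ := h
  obtain ⟨hs, hna, hJ⟩ := isJR hm hK
  have hB : AutFacts.Bender ↥(Cfsg.Lie.twistedG2 K (3 ^ m)) := Final.benderThm.{0} _ hs hna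
  exact (bpS hJ hB hna p hp2).congr e.symm

end Cfsg.Agent.BpRee.RRow

end

-- merged: Cfsg.Agent.BpExc.TitsGood
section

/-!
# Groups with an irreducible (B, N)-pair are good

Let `G` be a finite group with an irreducible (B, N)-pair, `B` solvable, `U ≠ 1` a subgroup of `B` normalised by `B`
and `core(B) ∩ U = 1`. Then every normal subgroup `V` of `G` centralises the normal closure of `U`, or `G / V` is
solvable (`normal_cases`); `G / ⟨U^G⟩` is solvable (`isSolvable_quotient`). Hence `Good p G` for all primes `p`.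
No simplicity, no restriction on the parameters, is used.
-/

set_option autoImplicit false

namespace Cfsg.Agent.BpExc.TitsGood

open Subgroup Cfsg Cfsg.Agent.BpTab

variable {G : Type*} [Group G]

/-- Tits: a normal subgroup of a group with an irreducible (B, N)-pair lies in `B` or `H B = G`. -/
theorem dichotomy (P : BNPair G) (hirr : P.Irreducible) (H : Subgroup G) [H.Normal] : H ≤ P.B ∨ H ⊔ P.B = ⊤ := by
  obtain ⟨J, hJ, hHJ⟩ : ∃ J ⊆ P.S, H ⊔ P.B = P.parabolic J :=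
    ⟨_, Set.inter_subset_left, LieExceptional.BNPairCore.eq_parabolic le_sup_right⟩
  rcases J.eq_empty_or_nonempty with rfl | hJne
  · left
    have : P.parabolic ∅ = P.B := by
      show P.B ⊔ Subgroup.closure ∅ = P.B
      rw [Subgroup.closure_empty, sup_bot_eq]
    rw [← this, ← hHJ]
    exact le_sup_left
  · right
    rcases (P.S \ J).eq_empty_or_nonempty with hemp | hne
    · have hJS : J = P.S := Set.Subset.antisymm hJ (Set.sdiff_eq_empty.1 hemp)
      rw [hHJ, hJS, eq_top_iff, ← P.sup_eq_top]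
      refine sup_le le_sup_left ?_
      rw [← P.closure_sup]
      exact sup_le le_sup_right (le_trans inf_le_left le_sup_left)
    · exfalso
      obtain ⟨s, hs, s', hs', h⟩ := hirr J hJ hJne hne
      exact h (Cfsg.Agent.S0319.commute_of_normal P H hJ hHJ hs hs')

/-- `H B = G` and `B` solvable imply `G / H` solvable -/
theorem isSolvable_of_sup_eq_top {H B : Subgroup G} [H.Normal] (hB : Group.IsSolvable B) (h : H ⊔ B = ⊤) :
    Group.IsSolvable (G ⧸ H) := by
  have hsurj : Function.Surjective ((QuotientGroup.mk' H).comp B.subtype) := by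
    intro q
    obtain ⟨g, rfl⟩ := QuotientGroup.mk'_surjective H q
    have hg : g ∈ H ⊔ B := by rw [h]; trivial
    obtain ⟨x, hx, b, hb, hxb⟩ := (Subgroup.mem_sup_of_normal_left).1 hg
    refine ⟨⟨b, hb⟩, ?_⟩
    have h1 : (QuotientGroup.mk' H) x = 1 := (QuotientGroup.eq_one_iff x).2 hx
    rw [← hxb, map_mul, h1, one_mul]
    rfl
  exact Group.isSolvable_of_surjective hsurj

variable (P : BNPair G) (hirr : P.Irreducible) (hsolv : Group.IsSolvable P.B) {U : Subgroup G}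

include hirr hsolv

/-- the quotient by the normal closure of `U` is solvable -/
theorem isSolvable_quotient (hU : U ≠ ⊥) (hcore : P.B.normalCore ⊓ U = ⊥) :
    Group.IsSolvable (G ⧸ normalClosure (U : Set G)) := by
  rcases dichotomy P hirr (normalClosure (U : Set G)) with h | h
  · exfalso
    apply hU
    rw [eq_bot_iff, ← hcore]
    exact le_inf (le_trans (subset_normalClosure (s := (U : Set G))) (normal_le_normalCore.2 h)) le_rfl
  · exact isSolvable_of_sup_eq_top hsolv h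

/-- a normal subgroup centralises `⟨U^G⟩` or has a solvable quotient -/
theorem normal_cases (hUn : ∀ b ∈ P.B, ∀ u ∈ U, b * u * b⁻¹ ∈ U) (hcore : P.B.normalCore ⊓ U = ⊥) (V : Subgroup G)
    [hV : V.Normal] : V ≤ centralizer (normalClosure (U : Set G) : Set G) ∨ Group.IsSolvable (G ⧸ V) := by
  rcases dichotomy P hirr V with h | h
  · left
    have h1 : ⁅V, U⁆ = ⊥ := by
      rw [eq_bot_iff, ← hcore]
      refine le_inf ?_ ?_
      · exact (commutator_mono (normal_le_normalCore.2 h) le_rfl).trans (commutator_le_left _ _)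
      · rw [commutator_le]
        intro v hv u hu
        rw [commutatorElement_def]
        exact mul_mem (hUn v (h hv) u hu) (inv_mem hu)
    rw [commutator_comm, commutator_eq_bot_iff_le_centralizer] at h1
    have h2 : normalClosure (U : Set G) ≤ centralizer (V : Set G) := normalClosure_le_normal h1
    rw [← commutator_eq_bot_iff_le_centralizer, commutator_comm, commutator_eq_bot_iff_le_centralizer]
    exact h2
  · exact Or.inr (isSolvable_of_sup_eq_top hsolv h)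

/-- every perfect subgroup lies in `⟨U^G⟩` -/
theorem perfect_le [Finite G] (hU : U ≠ ⊥) (hcore : P.B.normalCore ⊓ U = ⊥) {L : Subgroup G} (hL : ⁅L, L⁆ = L) :
    L ≤ normalClosure (U : Set G) :=
  perfect_le_of_solvable (isSolvable_quotient P hirr hsolv hU hcore) hL

/-- every perfect subgroup centralises every normal subgroup with nonsolvable quotient -/
theorem perfect_cases [Finite G] (hU : U ≠ ⊥) (hUn : ∀ b ∈ P.B, ∀ u ∈ U, b * u * b⁻¹ ∈ U)
    (hcore : P.B.normalCore ⊓ U = ⊥) (V : Subgroup G) [hV : V.Normal] {L : Subgroup G} (hL : ⁅L, L⁆ = L) :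
    ⁅L, V⁆ = ⊥ ∨ L ≤ V := by
  rcases normal_cases P hirr hsolv hUn hcore V with h | h
  · left
    rw [commutator_comm, commutator_eq_bot_iff_le_centralizer]
    exact h.trans (centralizer_le (perfect_le P hirr hsolv hU hcore hL))
  · exact Or.inr (perfect_le_of_solvable h hL)

/-- **Groups with an irreducible (B, N)-pair are good** for all primes. -/
theorem good [Finite G] {p : ℕ} [hp : Fact p.Prime] (hU : U ≠ ⊥) (hUn : ∀ b ∈ P.B, ∀ u ∈ U, b * u * b⁻¹ ∈ U)
    (hcore : P.B.normalCore ⊓ U = ⊥) : Good p G := by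
  have := Lib.Cores.pPrimeCore_normal (G := G) p
  rcases perfect_cases P hirr hsolv hU hUn hcore (pPrimeCore p G) pLayer_perfect with h | h
  · exact h
  · refine good_of_none fun K hK => ?_
    have h1 : K ≤ pPrimeCore p G := le_trans (le_sSup hK) h
    have h2 : p ∣ Nat.card (pPrimeCore p G) := (Lib.PComponents.prime_dvd_card_pcomp hK).trans (card_dvd_of_le h1)
    exact (Nat.Prime.coprime_iff_not_dvd hp.out).1 (Lib.Cores.pPrimeCore_coprime (G := G) p).symm h2

end Cfsg.Agent.BpExc.TitsGood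

end

-- merged: Cfsg.Agent.BpExc.TitsRed
section

/-!
# Groups with a (B, N)-pair are good: the reducible case (S1332-EXC (h), helper58)

`P` a (B,N)-pair of the finite group `G`, `B` solvable, `U ≤ B` normalised by `B`, `core(B) ∩ U = 1`, `Xs s ≤ U` for
`s ∈ S` with `s ∈ ⟨(Xs s)^G⟩ B`; if `s`, `t` commute modulo `B`, `s` normalises the normal closure of `Xs t` in `B`.
Then `Good p G` for all primes `p`.
-/

set_option autoImplicit false

namespace Cfsg.Agent.BpExc.TitsRed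

open Subgroup Cfsg Cfsg.Agent.BpTab

variable {G : Type*} [Group G]

/-- the normal closure in `B` -/
def Rt (B Z : Subgroup G) : Subgroup G := closure {g | ∃ b ∈ B, ∃ x ∈ Z, g = b * x * b⁻¹}

theorem le_Rt (B Z : Subgroup G) : Z ≤ Rt B Z := fun x hx => subset_closure ⟨1, one_mem _, x, hx, by group⟩

theorem Rt_le {B Z K : Subgroup G} (hZ : Z ≤ K) (hB : ∀ b ∈ B, ∀ x ∈ K, b * x * b⁻¹ ∈ K) : Rt B Z ≤ K := by
  unfold Rt
  rw [closure_le]
  rintro g ⟨b, hb, x, hx, rfl⟩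
  exact hB b hb x (hZ hx)

theorem Rt_conj {B Z : Subgroup G} {b : G} (hb : b ∈ B) {x : G} (hx : x ∈ Rt B Z) : b * x * b⁻¹ ∈ Rt B Z := by
  have h1 : Rt B Z ≤ (Rt B Z).comap (MulAut.conj b).toMonoidHom := by
    conv_lhs => unfold Rt
    rw [closure_le]
    rintro g ⟨c, hc, x, hx, rfl⟩
    show b * (c * x * c⁻¹) * b⁻¹ ∈ Rt B Z
    exact subset_closure ⟨b * c, mul_mem hb hc, x, hx, by group⟩
  exact h1 hx

theorem Rt_le_normalizer (B Z : Subgroup G) : B ≤ normalizer (Rt B Z : Set G) := by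
  intro b hb
  rw [mem_normalizer_iff]
  intro x
  refine ⟨fun hx => Rt_conj hb hx, fun hx => ?_⟩
  have h1 := Rt_conj (inv_mem hb) hx
  have h2 : b⁻¹ * (b * x * b⁻¹) * b⁻¹⁻¹ = x := by group
  rwa [h2] at h1

theorem Rt_le_normalClosure (B Z : Subgroup G) : Rt B Z ≤ normalClosure (Z : Set G) := by
  refine Rt_le (subset_normalClosure) fun b _ x hx => ?_
  exact (normalClosure_normal (s := (Z : Set G))).conj_mem x hx b

/-- the normal closure in `G` is contained in a subgroup absorbing the conjugates of `Rt` -/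
theorem normalClosure_le_of {B Z K : Subgroup G} (h : ∀ g : G, ∀ x ∈ Rt B Z, g * x * g⁻¹ ∈ K) :
    normalClosure (Z : Set G) ≤ K := by
  unfold normalClosure
  rw [closure_le]
  intro y hy
  rw [Group.mem_conjugatesOfSet_iff] at hy
  obtain ⟨x, hx, hxy⟩ := hy
  rw [isConj_iff] at hxy
  obtain ⟨g, rfl⟩ := hxy
  exact h g x (le_Rt B Z hx)

variable (P : BNPair G)

/-- the intersection of two standard parabolic subgroups of disjoint types -/
theorem parabolic_inf {J K : Set G} (hJ : J ⊆ P.S) (hK : K ⊆ P.S) (hd : J ∩ K = ∅) :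
    P.parabolic J ⊓ P.parabolic K = P.B := by
  have h1 : P.B ≤ P.parabolic J ⊓ P.parabolic K := le_inf le_sup_left le_sup_left
  rw [LieExceptional.BNPairCore.eq_parabolic h1]
  have h2 : P.S ∩ ((P.parabolic J ⊓ P.parabolic K : Subgroup G) : Set G) = ∅ := by
    rw [Set.eq_empty_iff_forall_notMem]
    rintro s ⟨hs, h3, h4⟩
    have h5 := (LieExceptional.BNPairCore.mem_parabolic_gen_iff hJ hs).1 h3
    have h6 := (LieExceptional.BNPairCore.mem_parabolic_gen_iff hK hs).1 h4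
    have : s ∈ J ∩ K := ⟨h5, h6⟩
    rw [hd] at this
    exact this
  rw [h2]
  show P.B ⊔ closure ∅ = P.B
  rw [Subgroup.closure_empty, sup_bot_eq]

/-- The data. -/
structure Dat (U : Subgroup G) (Xs : G → Subgroup G) : Prop where
  solv : Group.IsSolvable P.B
  U_le : U ≤ P.B
  norm : ∀ b ∈ P.B, ∀ u ∈ U, b * u * b⁻¹ ∈ U
  core : P.B.normalCore ⊓ U = ⊥
  le : ∀ s ∈ P.S, Xs s ≤ U
  gen : ∀ s ∈ P.S, s ∈ normalClosure (Xs s : Set G) ⊔ P.B
  comm : ∀ s ∈ P.S, ∀ t ∈ P.S, s ≠ t → s * t * s⁻¹ * t⁻¹ ∈ P.B → ∀ x ∈ Rt P.B (Xs t), s * x * s⁻¹ ∈ Rt P.B (Xs t)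

variable {P} {U : Subgroup G} {Xs : G → Subgroup G} (D : Dat P U Xs)

include D

/-- A normal subgroup contained in `B` centralises the normal closure of `U`. -/
theorem Dat.commutator_eq_bot {V : Subgroup G} [V.Normal] (hV : V ≤ P.B) : ⁅V, normalClosure (U : Set G)⁆ = ⊥ := by
  have h1 : ⁅V, U⁆ = ⊥ := by
    rw [eq_bot_iff, ← D.core]
    refine le_inf ?_ ?_
    · exact (commutator_mono (normal_le_normalCore.2 hV) le_rfl).trans (commutator_le_left _ _)
    · rw [commutator_le]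
      intro v hv u hu
      rw [commutatorElement_def]
      exact mul_mem (D.norm v (hV hv) u hu) (inv_mem hu)
  rw [commutator_comm, commutator_eq_bot_iff_le_centralizer] at h1
  rw [commutator_comm, commutator_eq_bot_iff_le_centralizer]
  exact normalClosure_le_normal h1

/-- The key structure: for a normal subgroup `V` there is a normal subgroup `D'` such that `G / V D'` is solvable and
`[V, D']` centralises `D'`. -/
theorem Dat.exists_compl (V : Subgroup G) [hV : V.Normal] : ∃ D' : Subgroup G, D'.Normal ∧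
    (∀ _ : (V ⊔ D').Normal, Group.IsSolvable (G ⧸ (V ⊔ D'))) ∧ ⁅⁅V, D'⁆, D'⁆ = ⊥ := by
  set J : Set G := P.S ∩ ((V ⊔ P.B : Subgroup G) : Set G) with hJdef
  have hJ : J ⊆ P.S := Set.inter_subset_left
  have hVJ : V ⊔ P.B = P.parabolic J := LieExceptional.BNPairCore.eq_parabolic le_sup_right
  set J' : Set G := P.S \ J with hJ'
  have hJ'S : J' ⊆ P.S := Set.sdiff_subset
  have hcomm : ∀ s ∈ J, ∀ t ∈ J', s * t * s⁻¹ * t⁻¹ ∈ P.B := fun s hs t ht =>
    Cfsg.Agent.S0319.commute_of_normal P V hJ hVJ hs ht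
  -- `G = P_{J'} V`
  have hGV : V ⊔ P.parabolic J' = ⊤ := by
    rw [eq_top_iff, ← LieExceptional.BNPairCore.parabolic_S_eq_top (P := P)]
    refine sup_le (le_trans (le_sup_left : P.B ≤ P.parabolic J') le_sup_right) ?_
    rw [closure_le]
    intro s hs
    by_cases hsJ : s ∈ J
    · have h1 : V ⊔ P.B ≤ V ⊔ P.parabolic J' := sup_le_sup_left (le_sup_left : P.B ≤ P.parabolic J') V
      exact h1 hsJ.2
    · exact mem_sup_right ((le_sup_right : closure J' ≤ P.parabolic J') (subset_closure ⟨hs, hsJ⟩))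
  -- `V` normalises `Rt`
  have hnorm : ∀ t ∈ J', P.parabolic J ≤ normalizer (Rt P.B (Xs t) : Set G) := by
    intro t ht
    refine sup_le (Rt_le_normalizer _ _) ?_
    rw [closure_le]
    intro s hs
    have hst : s ≠ t := by
      rintro rfl
      exact ht.2 hs
    have h1 := D.comm s (hJ hs) t (hJ'S ht) hst (hcomm s hs t ht)
    show s ∈ normalizer _
    rw [mem_normalizer_iff]
    intro x
    refine ⟨h1 x, fun hx => ?_⟩
    -- `s⁻¹ = (s s)⁻¹ s`
    have h2 := h1 _ hx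
    have h3 : s * s ∈ P.B := P.sq_mem s (hJ hs)
    have h4 := Rt_conj (inv_mem h3) h2
    have h5 : (s * s)⁻¹ * (s * (s * x * s⁻¹) * s⁻¹) * (s * s)⁻¹⁻¹ = x := by group
    rwa [h5] at h4
  set D' : Subgroup G := normalClosure {x | ∃ t ∈ J', x ∈ Xs t} with hD'
  have hD'le : D' ≤ P.parabolic J' := by
    rw [hD']
    unfold normalClosure
    rw [closure_le]
    intro y hy
    rw [Group.mem_conjugatesOfSet_iff] at hy
    obtain ⟨x, ⟨t, ht, hx⟩, hxy⟩ := hy
    rw [isConj_iff] at hxy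
    obtain ⟨g, rfl⟩ := hxy
    have hg : g ∈ V ⊔ P.parabolic J' := by rw [hGV]; trivial
    rw [sup_comm] at hg
    obtain ⟨g', hg', v, hv, rfl⟩ := (mem_sup_of_normal_right).1 hg
    have hvJ : v ∈ P.parabolic J := by rw [← hVJ]; exact mem_sup_left hv
    have h1 := (mem_normalizer_iff.1 (hnorm t ht hvJ) x).1 (le_Rt _ _ hx)
    have h2 : Rt P.B (Xs t) ≤ P.parabolic J' := by
      refine Rt_le (((D.le t (hJ'S ht)).trans D.U_le).trans le_sup_left) (fun b hb x hx => ?_)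
      exact mul_mem (mul_mem ((le_sup_left : P.B ≤ P.parabolic J') hb) hx)
        (inv_mem ((le_sup_left : P.B ≤ P.parabolic J') hb))
    have h3 : g' * v * x * (g' * v)⁻¹ = g' * (v * x * v⁻¹) * g'⁻¹ := by group
    rw [h3]
    exact mul_mem (mul_mem hg' (h2 h1)) (inv_mem hg')
  have hD'U : D' ≤ normalClosure (U : Set G) := by
    refine normalClosure_le_normal ?_
    rintro x ⟨t, ht, hx⟩
    exact subset_normalClosure (D.le t (hJ'S ht) hx)
  have hD'n : D'.Normal := normalClosure_normal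
  refine ⟨D', hD'n, fun hn => ?_, ?_⟩
  · refine TitsGood.isSolvable_of_sup_eq_top (B := P.B) D.solv ?_
    rw [eq_top_iff, ← LieExceptional.BNPairCore.parabolic_S_eq_top (P := P)]
    refine sup_le le_sup_right ?_
    rw [closure_le]
    intro s hs
    by_cases hsJ : s ∈ J
    · exact (sup_le_sup_right (le_sup_left : V ≤ V ⊔ D') P.B) hsJ.2
    · have h1 : normalClosure (Xs s : Set G) ≤ D' :=
        normalClosure_mono fun x hx => ⟨s, ⟨hs, hsJ⟩, hx⟩
      exact (sup_le_sup_right (h1.trans (le_sup_right : D' ≤ V ⊔ D')) P.B) (D.gen s hs)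
  · have hVD : V ⊓ D' ≤ P.B := by
      rw [← parabolic_inf P hJ hJ'S (by rw [hJ']; exact Set.inter_sdiff_self J P.S)]
      refine inf_le_inf ?_ hD'le
      rw [← hVJ]; exact le_sup_left
    rw [eq_bot_iff, ← D.commutator_eq_bot (V := V ⊓ D') hVD]
    exact commutator_mono (le_inf (commutator_le_left _ _) (commutator_le_right _ _)) hD'U

/-- **Groups with a (B, N)-pair (possibly reducible) are good.** -/
theorem Dat.good [Finite G] {p : ℕ} [hp : Fact p.Prime] : Good p G := by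
  have hVn := Lib.Cores.pPrimeCore_normal (G := G) p
  obtain ⟨D', hD'n, hs, hcomm⟩ := D.exists_compl (pPrimeCore p G)
  rw [good_iff]
  intro K hK
  obtain ⟨hsub, -, hpe⟩ := Intrinsic.Charac.isPComponent_iff.mp hK
  have hKp : ⁅K, K⁆ = K := ClassificationK.PCompTransport.isPComponent_perfect p hK
  have h1 : K ≤ pPrimeCore p G ⊔ D' := perfect_le_of_solvable (hs inferInstance) hKp
  -- the elements of order a power of `p` lie in `D'`
  have h2 : K ≤ D' := by
    rw [← hpe]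
    refine (closure_le _).mpr ?_
    rintro y ⟨hy, n, hn⟩
    obtain ⟨v, hv, d, hd, e⟩ := (mem_sup_of_normal_left).1 (h1 hy)
    have h3 : (QuotientGroup.mk y : G ⧸ D') = QuotientGroup.mk v := by
      rw [← e, QuotientGroup.mk_mul, (QuotientGroup.eq_one_iff d).2 hd, mul_one]
    have h4 : (QuotientGroup.mk y : G ⧸ D') ^ p ^ n = 1 := by
      rw [← QuotientGroup.mk_pow, hn, QuotientGroup.mk_one]
    have h5 : (QuotientGroup.mk y : G ⧸ D') ^ Nat.card (pPrimeCore p G) = 1 := by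
      rw [h3, ← QuotientGroup.mk_pow]
      have h6 : (⟨v, hv⟩ : pPrimeCore p G) ^ Nat.card (pPrimeCore p G) = 1 := pow_card_eq_one'
      have h7 : v ^ Nat.card (pPrimeCore p G) = 1 := congrArg Subtype.val h6
      rw [h7, QuotientGroup.mk_one]
    have h6 := pow_gcd_eq_one.mpr ⟨h5, h4⟩
    rw [Nat.Coprime.pow_right n (Lib.Cores.pPrimeCore_coprime (G := G) p), pow_one] at h6
    exact (QuotientGroup.eq_one_iff y).1 h6
  -- three subgroups
  have h3 : ⁅⁅pPrimeCore p G, K⁆, K⁆ = ⊥ := by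
    rw [eq_bot_iff, ← hcomm]
    exact commutator_mono (commutator_mono le_rfl h2) h2
  rw [commutator_comm]
  exact Lib.ComponentSolvable.commutator_eq_bot_of_perfect (Subgroup.isPerfect_iff.mpr hKp) h3

end Cfsg.Agent.BpExc.TitsRed

end

-- merged: Cfsg.Agent.BpExc.FixGood
section

/-!
# Groups with relative root data are good (S1332-EXC (h), helper58)

`D : Rel R S G ι`, `G` finite, `T` solvable, `CommZ`, an element of `G` mapping `S⁺` to `S⁻`: then `Good l G` for all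
primes `l` (`good`). For the fixed points of a frame automorphism: `good_fixed`.
-/

set_option autoImplicit false
set_option linter.unusedSectionVars false

namespace Cfsg.Agent.BpExc.FixGood

open CoxeterSystem Cfsg.Agent.ChevalleyStructure.CoxeterGeom Cfsg.Agent.Tits.Roots Cfsg.Agent.Tits.Core
  Cfsg.Agent.Tits.Exchange Cfsg.Agent.Nodes.Reps Cfsg.Agent.Nodes.BNOf Cfsg.Agent.Nodes.StabComb
  Cfsg.Agent.Nodes.Comb Cfsg.Agent.Nodes.Bruhat Cfsg.Agent.Nodes.OppDec Cfsg.Agent.Nodes.Slope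
  Cfsg.Agent.Nodes.NormalForm Cfsg.Agent.Nodes.SubComb Cfsg.Agent.Nodes.Coroot
  Cfsg.Agent.ChevalleyStructure.AbstractBN Cfsg.Agent.BpExc.Zc Cfsg.Agent.BpExc.RelBN Cfsg.Agent.BpExc.SubBN
  Cfsg.Agent.BpExc.FixRel Cfsg.Agent.BpExc.TitsRed
open scoped commutatorElement

variable {I W Y : Type*} [Fintype I] [DecidableEq I] [Group W] [Group Y] {M : CoxeterMatrix I}
  {cs : CoxeterSystem M W} {A : I → I → ℤ} {h : IsCartan M A} {p : ℕ} {T : Subgroup Y} {n : I → Y}
  {X : (I → ℤ) → Subgroup Y}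

section Rel

variable {R : RGD cs h p T n X} {S : Set (I → ℤ)} {G : Subgroup Y} {ι : Type*} (D : Rel R S G ι) [Finite W]
  (hZ : CommZ cs h X) (hS : ZClosed cs h S)

include D

/-- different walls are disjoint -/
theorem disj {i j : ι} (hij : i ≠ j) {a : I → ℤ} (ha : a ∈ cl S (D.f i)) : a ∉ cl S (D.f j) := by
  intro haj
  apply hij
  apply D.injc
  have key : ∀ {i j : ι} {a : I → ℤ}, a ∈ cl S (D.f i) → a ∈ cl S (D.f j) → cl S (D.f i) ⊆ cl S (D.f j) := by
    intro i j a ha haj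
    rw [← D.NgS_w j]
    rcases D.cases (D.w j) (D.k j) (D.rp j) (D.kG j) (D.wS j) i with h1 | h1
    · exfalso
      exact ((D.root a ha.1).act (D.w j)).not_pos_neg (h1 a ha) (D.wneg j a haj)
    · intro b hb
      exact ⟨⟨hb.1, hb.2.1⟩, h1 b hb⟩
  exact Set.Subset.antisymm (key ha haj) (key haj ha)

theorem pos_of_ne {i j : ι} (hij : i ≠ j) {a : I → ℤ} (ha : a ∈ cl S (D.f i)) : 0 < D.f j a := by
  rcases (D.fpos j a ha.1 ha.2.1).eq_or_lt with h1 | h1
  · exact absurd ⟨ha.1, ha.2.1, h1.symm⟩ (disj D hij ha)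
  · exact h1

/-- commuting reflections: `w j` preserves the wall `i` -/
theorem map_wall {i j : ι} (hij : i ≠ j) (hc : D.w i * D.w j = D.w j * D.w i) {a : I → ℤ}
    (ha : a ∈ cl S (D.f i)) : rep cs h (D.w j) a ∈ cl S (D.f i) := by
  have h1 := D.w_cl i ha
  have ha' : -rep cs h (D.w i) a ∈ cl S (D.f i) :=
    ⟨D.neg _ h1.1, neg_nonneg.2 h1.2.1, by rw [map_neg, h1.2.2, neg_zero]⟩
  have h2 := D.w_cp j (a := a) ⟨ha.1, ha.2.1, pos_of_ne D hij ha⟩
  have h3 := D.w_cp j (a := -rep cs h (D.w i) a) ⟨ha'.1, ha'.2.1, pos_of_ne D hij ha'⟩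
  have h4 : rep cs h (D.w i) (rep cs h (D.w j) a) = -rep cs h (D.w j) (-rep cs h (D.w i) a) := by
    rw [map_neg, neg_neg, ← rep_mul_apply, ← rep_mul_apply, hc]
  rw [← D.NgS_w i]
  refine ⟨⟨h2.1, h2.2.1⟩, ?_⟩
  rw [h4]
  exact neg_nonpos.2 h3.2.1

include hZ hS

/-- commuting reflections: the root groups commute -/
theorem commute_root {i j : ι} (hij : i ≠ j) (hc : D.w i * D.w j = D.w j * D.w i) {a b : I → ℤ}
    (ha : a ∈ cl S (D.f i)) (hb : b ∈ cl S (D.f j)) {u v : Y} (hu : u ∈ X a) (hv : v ∈ X b) : u * v = v * u := by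
  have hne : a ≠ b := by
    rintro rfl
    exact disj D hij ha hb
  have hne' : a ≠ -b := by
    rintro rfl
    exact (hS.root _ ha.1).not_pos_neg ha.2.1 (neg_nonpos.2 hb.2.1)
  have h1 := hZ a b (hS.root a ha.1) (hS.root b hb.1) hne hne' u hu v hv
  have h2 : {z | ZB cs h a b z} = ∅ := by
    ext z
    simp only [Set.mem_ofPred_eq, Set.mem_empty_iff_false, iff_false]
    intro hz
    have hzS : z ∈ S := hS.btw a ha.1 b hb.1 z hz
    have hz0 : 0 ≤ z := hz.nonneg' ha.2.1 hb.2.1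
    obtain ⟨m, l, hm, hl, e1⟩ := hz.map (D.f i)
    have h3 : 0 < D.f i z := by
      rw [e1, ha.2.2, mul_zero, zero_add]
      exact mul_pos hl (pos_of_ne D (Ne.symm hij) hb)
    have h4 := D.w_cp i (a := z) ⟨hzS, hz0, h3⟩
    have h5 : ZB cs h (rep cs h (D.w i) a) (rep cs h (D.w i) b) (rep cs h (D.w i) z) := by
      obtain ⟨hr, m, l, hm, hl, e⟩ := hz
      exact ⟨hr.act _, m, l, hm, hl, by rw [e, map_add, map_smul, map_smul]⟩
    obtain ⟨m, l, hm, hl, e2⟩ := h5.map (D.f j)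
    have h6 := map_wall D (Ne.symm hij) hc.symm hb
    rw [h6.2.2, mul_zero, add_zero] at e2
    have h7 := D.w_cl i ha
    have h8 : -rep cs h (D.w i) a ∈ cl S (D.f i) :=
      ⟨D.neg _ h7.1, neg_nonneg.2 h7.2.1, by rw [map_neg, h7.2.2, neg_zero]⟩
    have h9 := pos_of_ne D hij h8
    rw [map_neg] at h9
    have h10 := D.fpos j _ h4.1 h4.2.1
    rw [e2] at h10
    nlinarith
  rw [h2, Sup_empty, Subgroup.mem_bot, commutatorElement_eq_one_iff_mul_comm] at h1
  exact h1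

theorem commute_Sup {i j : ι} (hij : i ≠ j) (hc : D.w i * D.w j = D.w j * D.w i) {u v : Y}
    (hu : u ∈ RGD.Sup X (cl S (D.f i))) (hv : v ∈ RGD.Sup X (cl S (D.f j))) : u * v = v * u := by
  have h1 : RGD.Sup X (cl S (D.f i)) ≤ Subgroup.centralizer (RGD.Sup X (cl S (D.f j)) : Set Y) := by
    refine RGD.Sup_le fun a ha => ?_
    intro x hx
    rw [Subgroup.mem_centralizer_iff]
    have h2 : RGD.Sup X (cl S (D.f j)) ≤ Subgroup.centralizer {x} := by
      refine RGD.Sup_le fun b hb => ?_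
      intro y hy
      rw [Subgroup.mem_centralizer_singleton_iff]
      exact (commute_root D hZ hS hij hc ha hb hx hy).symm
    intro y hy
    exact Subgroup.mem_centralizer_singleton_iff.1 (h2 hy)
  exact ((Subgroup.mem_centralizer_iff.1 (h1 hu)) v hv).symm

omit hZ hS in
theorem kk_injective : Function.Injective D.kk := by
  intro i j e
  have h1 : D.k i = D.k j := congrArg Subtype.val e
  refine D.inj (rp_unique R (D.rp i) ?_)
  rw [h1]
  exact D.rp j

omit hZ hS D in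
/-- the root group attached to a reflection -/
def Xs (D : Rel R S G ι) (s : ↥G) : Subgroup ↥G := ⨆ i, ⨆ _ : D.kk i = s, (RGD.Sup X (cl S (D.f i))).subgroupOf G

omit hZ hS in
theorem Xs_kk (i : ι) : Xs D (D.kk i) = (RGD.Sup X (cl S (D.f i))).subgroupOf G := by
  apply le_antisymm
  · refine iSup_le fun j => iSup_le fun e => ?_
    rw [kk_injective D e]
  · exact le_iSup_of_le i (le_iSup_of_le rfl le_rfl)

/-- the data of the Tits lemma -/
theorem dat [Finite ↥G] [hp : Fact p.Prime] (hT : Group.IsSolvable ↥T)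
    (hopp : ∃ v g, Rp cs R.nsys v g ∧ g ∈ G ∧ ∀ a ∈ Sp S, rep cs h v a ≤ 0) :
    Dat D.bn ((RGD.Sup X (Sp S)).subgroupOf G) (Xs D) where
  solv := by
    set U : Subgroup ↥G := (RGD.Sup X (Sp S)).subgroupOf G with hU
    have hUp : IsPGroup p ↥U := by
      have h1 : IsPGroup p ↥(RGD.Sup X (Sp S)) := R.isPGroup_of_pos fun a ha => ⟨D.root a ha.1, ha.2⟩
      exact h1.comap_subtype
    have hUs : Group.IsSolvable ↥U := by
      have := hUp.isNilpotent
      infer_instance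
    have hTs : Group.IsSolvable ↥(T.subgroupOf G) :=
      Group.isSolvable_of_isSolvable_injective
        (f := ({ toFun := fun x : ↥(T.subgroupOf G) => (⟨((x : ↥G) : Y), x.2⟩ : ↥T)
                 map_one' := rfl
                 map_mul' := fun _ _ => rfl } : ↥(T.subgroupOf G) →* ↥T))
        (fun x y e => Subtype.ext (Subtype.ext (congrArg (fun z : ↥T => (z : Y)) e)))
    refine SignalizersComponents.CoprimeBasic.isSolvable_sup ?_ hUs hTs
    have hn : ∀ t ∈ T, ∀ u ∈ RGD.Sup X (Sp S), t * u * t⁻¹ ∈ RGD.Sup X (Sp S) := fun t ht u hu =>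
      D.T_norm ht D.Sp_root hu
    intro t ht
    rw [Subgroup.mem_normalizer_iff]
    intro u
    refine ⟨fun hu => hn t ht u hu, fun hu => ?_⟩
    have h1 := hn _ (inv_mem (show ((t : ↥G) : Y) ∈ T from ht)) _
      (show (t : Y) * (u : Y) * (t : Y)⁻¹ ∈ RGD.Sup X (Sp S) from hu)
    have h2 : ((t : ↥G) : Y)⁻¹ * ((t : Y) * (u : Y) * (t : Y)⁻¹) * ((t : ↥G) : Y)⁻¹⁻¹ = u := by group
    rw [h2] at h1
    exact h1
  U_le := le_sup_left
  norm := by
    intro b hb u hu
    obtain ⟨x, hx, hxG, t, ht, htG, e⟩ := D.mem_bn_B.1 hb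
    have h1 : t * (u : Y) * t⁻¹ ∈ RGD.Sup X (Sp S) := D.T_norm ht D.Sp_root hu
    show ((b * u * b⁻¹ : ↥G) : Y) ∈ RGD.Sup X (Sp S)
    have h2 : ((b * u * b⁻¹ : ↥G) : Y) = x * (t * (u : Y) * t⁻¹) * x⁻¹ := by
      push_cast
      rw [e]; group
    rw [h2]
    exact mul_mem (mul_mem hx h1) (inv_mem hx)
  core := by
    obtain ⟨v, g, hg, hgG, hv⟩ := hopp
    rw [eq_bot_iff]
    rintro x ⟨hx, hxU⟩
    rw [Subgroup.mem_bot]
    have h1 : (⟨g, hgG⟩ : ↥G) * x * (⟨g, hgG⟩ : ↥G)⁻¹ ∈ D.bn.B :=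
      Subgroup.normalCore_le _ ((inferInstance : (D.bn.B.normalCore).Normal).conj_mem x hx ⟨g, hgG⟩)
    have h2 := D.bn_B_le h1
    have h3 : g * (x : Y) * g⁻¹ ∈ UN cs h X :=
      conj_mem_Sup R hg (S := Sp S) (S' := Neg cs h) (fun a ha => D.root a ha.1)
        (fun a ha => ⟨(D.root a ha.1).act _, hv a ha⟩) hxU
    have h4 := eq_one_of_mem_UN_of_mem_B R h3 h2
    rw [conj_eq_one_iff] at h4
    exact Subtype.ext h4
  le := by
    rintro _ ⟨i, rfl⟩
    change Xs D (D.kk i) ≤ _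
    rw [Xs_kk]
    intro x hx
    exact RGD.Sup_mono (D.cl_sub i) hx
  gen := by
    rintro _ ⟨i, rfl⟩
    change D.kk i ∈ Subgroup.normalClosure (Xs D (D.kk i) : Set ↥G) ⊔ D.bn.B
    rw [Xs_kk]
    obtain ⟨x, hx, hxG, hx1⟩ := D.ne i
    have h1 : D.k i * x * (D.k i)⁻¹ ∈ RGD.Sup X (clN S (D.f i)) :=
      conj_mem_Sup R (D.rp i) (S := cl S (D.f i)) (S' := clN S (D.f i)) (fun a ha => D.root a ha.1)
        (fun a ha => D.w_cl i ha) hx
    have h2 : D.k i * x * (D.k i)⁻¹ ≠ 1 := fun e => hx1 (conj_eq_one_iff.1 e)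
    obtain ⟨u, hu, huG, t, ht, htG, v, hv, hvG, e⟩ :=
      D.rk i _ h1 (mul_mem (mul_mem (D.kG i) hxG) (inv_mem (D.kG i))) h2
    set y : ↥G := D.kk i * ⟨x, hxG⟩ * (D.kk i)⁻¹ with hy
    have hx' : (⟨x, hxG⟩ : ↥G) ∈ (((RGD.Sup X (cl S (D.f i))).subgroupOf G : Subgroup ↥G) : Set ↥G) := hx
    have hyN : y ∈ Subgroup.normalClosure (((RGD.Sup X (cl S (D.f i))).subgroupOf G : Subgroup ↥G) : Set ↥G) :=
      Subgroup.normalClosure_normal.conj_mem _ (Subgroup.subset_normalClosure hx') (D.kk i)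
    have huB : (⟨u, huG⟩ : ↥G) ∈ D.bn.B := Subgroup.mem_sup_left (RGD.Sup_mono (D.cl_sub i) hu)
    have hvB : (⟨v, hvG⟩ : ↥G) ∈ D.bn.B := Subgroup.mem_sup_left (RGD.Sup_mono (D.cl_sub i) hv)
    have htB : (⟨t, htG⟩ : ↥G) ∈ D.bn.B := Subgroup.mem_sup_right ht
    have e2 : D.kk i = (⟨t, htG⟩ : ↥G)⁻¹ * (⟨u, huG⟩ : ↥G)⁻¹ * y * (⟨v, hvG⟩ : ↥G)⁻¹ := by
      apply Subtype.ext
      show D.k i = t⁻¹ * u⁻¹ * (D.k i * x * (D.k i)⁻¹) * v⁻¹
      rw [e]; group
    rw [e2]
    exact mul_mem (mul_mem (mul_mem (Subgroup.mem_sup_right (inv_mem htB)) (Subgroup.mem_sup_right (inv_mem huB)))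
      (Subgroup.mem_sup_left hyN)) (Subgroup.mem_sup_right (inv_mem hvB))
  comm := by
    rintro _ ⟨i, rfl⟩ _ ⟨j, rfl⟩ hst hB x hx
    change D.kk i ≠ D.kk j at hst
    change D.kk i * D.kk j * (D.kk i)⁻¹ * (D.kk j)⁻¹ ∈ D.bn.B at hB
    change D.kk i * x * (D.kk i)⁻¹ ∈ Rt D.bn.B (Xs D (D.kk j))
    change x ∈ Rt D.bn.B (Xs D (D.kk j)) at hx
    have hij : i ≠ j := fun e => hst (by rw [e])
    have hc : D.w i * D.w j = D.w j * D.w i := by
      have h1 := R.eq_one_of_mem_B ((((D.rp i).mul (D.rp j)).mul (D.rp i).inv).mul (D.rp j).inv) (D.bn_B_le hB)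
      rw [mul_inv_eq_one, mul_inv_eq_iff_eq_mul] at h1
      exact h1
    rw [Xs_kk] at hx ⊢
    have h1 : Rt D.bn.B ((RGD.Sup X (cl S (D.f j))).subgroupOf G) ≤
        (Rt D.bn.B ((RGD.Sup X (cl S (D.f j))).subgroupOf G)).comap (MulAut.conj (D.kk i)).toMonoidHom := by
      conv_lhs => unfold Rt
      rw [Subgroup.closure_le]
      rintro g ⟨b, hb, y, hy, rfl⟩
      show D.kk i * (b * y * b⁻¹) * (D.kk i)⁻¹ ∈ Rt D.bn.B ((RGD.Sup X (cl S (D.f j))).subgroupOf G)
      obtain ⟨u, hu, huG, t, ht, htG, e⟩ := D.mem_bn_B.1 hb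
      obtain ⟨v, hv, z, hz, hzG, rfl⟩ := D.dec i u hu huG
      have hvG : v ∈ G := by
        have : v = v * z * z⁻¹ := by group
        rw [this]; exact mul_mem huG (inv_mem hzG)
      have hy' : t * (y : Y) * t⁻¹ ∈ RGD.Sup X (cl S (D.f j)) := D.T_norm ht (fun a ha => D.root a ha.1) hy
      have h2 := commute_Sup D hZ hS hij hc hz hy'
      have h3 : D.k i * v * (D.k i)⁻¹ ∈ RGD.Sup X (Sp S) :=
        conj_mem_Sup R (D.rp i) (S := cp S (D.f i)) (S' := Sp S) (fun a ha => D.root a ha.1)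
          (fun a ha => D.cp_sub i (D.w_cp i ha)) hv
      have h4 : D.k i * (t * (y : Y) * t⁻¹) * (D.k i)⁻¹ ∈ RGD.Sup X (cl S (D.f j)) :=
        conj_mem_Sup R (D.rp i) (S := cl S (D.f j)) (S' := cl S (D.f j)) (fun a ha => D.root a ha.1)
          (fun a ha => map_wall D (Ne.symm hij) hc.symm ha) hy'
      refine Subgroup.subset_closure ⟨⟨D.k i * v * (D.k i)⁻¹, mul_mem (mul_mem (D.kG i) hvG) (inv_mem (D.kG i))⟩,
        Subgroup.mem_sup_left h3, ⟨D.k i * (t * (y : Y) * t⁻¹) * (D.k i)⁻¹,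
          mul_mem (mul_mem (D.kG i) (mul_mem (mul_mem htG y.2) (inv_mem htG))) (inv_mem (D.kG i))⟩, h4, ?_⟩
      apply Subtype.ext
      show D.k i * ((b : Y) * (y : Y) * (b : Y)⁻¹) * (D.k i)⁻¹ = D.k i * v * (D.k i)⁻¹ *
        (D.k i * (t * (y : Y) * t⁻¹) * (D.k i)⁻¹) * (D.k i * v * (D.k i)⁻¹)⁻¹
      have h5 : (b : Y) * (y : Y) * (b : Y)⁻¹ = v * (z * (t * (y : Y) * t⁻¹)) * z⁻¹ * v⁻¹ := by
        rw [e]; group
      rw [h5, h2]
      group
    exact h1 hx

end Rel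

end Cfsg.Agent.BpExc.FixGood

end

-- merged: Cfsg.Agent.BpExc.FixEnd
section

/-!
# Groups with relative root data are good, the end (S1332-EXC (h), helper58)

* `good` : `D : Rel R S G ι`, `T` solvable, `G` finite, an element mapping `S⁺` to `S⁻`: `Good l G` for all primes `l`;
  `rp` : `RP p G` if `p` is odd;
* `fx` : elements of the root groups fixed by the powers of `τ` fixing the root yield fixed elements for all walls;
* `good_fixed`, `rp_fixed` : `Good l` and `RP p` for `Gf T X S τ = (⟨T, X_a : a ∈ S⟩)^τ`.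
-/

set_option autoImplicit false
set_option linter.unusedSectionVars false

namespace Cfsg.Agent.BpExc.FixEnd

open CoxeterSystem Cfsg.Agent.ChevalleyStructure.CoxeterGeom Cfsg.Agent.Tits.Roots Cfsg.Agent.Tits.Core
  Cfsg.Agent.Tits.Exchange Cfsg.Agent.Nodes.Reps Cfsg.Agent.Nodes.BNOf Cfsg.Agent.Nodes.StabComb
  Cfsg.Agent.Nodes.Comb Cfsg.Agent.Nodes.Bruhat Cfsg.Agent.Nodes.OppDec Cfsg.Agent.Nodes.Slope
  Cfsg.Agent.Nodes.NormalForm Cfsg.Agent.Nodes.SubComb Cfsg.Agent.Nodes.Coroot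
  Cfsg.Agent.ChevalleyStructure.AbstractBN Cfsg.Agent.BpExc.Zc Cfsg.Agent.BpExc.RelBN Cfsg.Agent.BpExc.SubBN
  Cfsg.Agent.BpExc.FixRel Cfsg.Agent.BpExc.TitsRed Cfsg.Agent.BpExc.FixGood Cfsg.Agent.BpTab
open scoped commutatorElement

variable {I W Y : Type*} [Fintype I] [DecidableEq I] [Group W] [Group Y] {M : CoxeterMatrix I}
  {cs : CoxeterSystem M W} {A : I → I → ℤ} {h : IsCartan M A} {p : ℕ} {T : Subgroup Y} {n : I → Y}
  {X : (I → ℤ) → Subgroup Y}

section Rel

variable {R : RGD cs h p T n X} {S : Set (I → ℤ)} {G : Subgroup Y} {ι : Type*} (D : Rel R S G ι) [Finite W]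
  (hZ : CommZ cs h X) (hS : ZClosed cs h S)

include D hZ hS

/-- **`Good l G`.** -/
theorem good [Finite ↥G] [Fact p.Prime] {l : ℕ} [Fact l.Prime] (hT : Group.IsSolvable ↥T)
    (hopp : ∃ v g, Rp cs R.nsys v g ∧ g ∈ G ∧ ∀ a ∈ Sp S, rep cs h v a ≤ 0) : Good l ↥G :=
  (dat D hZ hS hT hopp).good

/-- **`RP p G`.** -/
theorem rp [Finite ↥G] [hp : Fact p.Prime] (hp2 : p ≠ 2) (hT : Group.IsSolvable ↥T)
    (hopp : ∃ v g, Rp cs R.nsys v g ∧ g ∈ G ∧ ∀ a ∈ Sp S, rep cs h v a ≤ 0) : PreUniq.RP p ↥G := by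
  intro V hV hVp
  have hD := dat D hZ hS hT hopp
  have hUp : IsPGroup p ↥((RGD.Sup X (Sp S)).subgroupOf G) := by
    have h1 : IsPGroup p ↥(RGD.Sup X (Sp S)) := R.isPGroup_of_pos fun a ha => ⟨D.root a ha.1, ha.2⟩
    exact h1.comap_subtype
  refine PreUniq.BnRP.isSolvable_of_bn D.bn hp2 hD.solv hUp hD.U_le ?_ ?_ V hVp
  · intro b hb
    rw [Subgroup.mem_normalizer_iff]
    intro u
    refine ⟨fun hu => hD.norm b hb u hu, fun hu => ?_⟩
    have h1 := hD.norm _ (inv_mem hb) _ hu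
    have h2 : b⁻¹ * (b * u * b⁻¹) * b⁻¹⁻¹ = u := by group
    rwa [h2] at h1
  · refine sup_le le_sup_left (le_trans ?_ le_sup_right)
    exact le_inf le_sup_right le_sup_right

end Rel

/-! ### fixed elements -/

/-- A set of negative roots has a first element. -/
theorem exists_first_neg [Finite W] (R : RGD cs h p T n X) {O : Set (I → ℤ)} (hO : O.Nonempty)
    (hP : ∀ a ∈ O, IsRoot cs h a ∧ a ≤ 0) : ∃ x ∈ O, X x ⊓ RGD.Sup X (O \ {x}) = ⊥ := by
  obtain ⟨k, hk⟩ := exists_rp cs R.nsys (w0 cs)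
  obtain ⟨_, ⟨x, hx, rfl⟩, S', hS', hinf⟩ := NInst.exists_first R (O := rep cs h (w0 cs) '' O) (hO.image _) (by
    rintro _ ⟨a, ha, rfl⟩
    refine ⟨(hP a ha).1.act _, ?_⟩
    have h1 := rep_w0_nonpos (cs := cs) (h := h) (hP a ha).1.neg (neg_nonneg.2 (hP a ha).2)
    rw [map_neg] at h1
    exact neg_nonpos.1 h1)
  refine ⟨x, hx, ?_⟩
  rw [Subgroup.eq_bot_iff_forall]
  rintro u ⟨hu, hu'⟩
  have h1 := R.conj_mem hk (hP x hx).1 hu
  have h2 : k * u * k⁻¹ ∈ RGD.Sup X S' := by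
    refine conj_mem_Sup R hk (S := O \ {x}) (S' := S') (fun a ha => (hP a ha.1).1) (fun a ha => ?_) hu'
    refine hS' ⟨⟨a, ha.1, rfl⟩, fun e => ha.2 ?_⟩
    have := congrArg (rep cs h (w0 cs)⁻¹) (Set.mem_singleton_iff.1 e)
    rw [rep_inv_apply, rep_inv_apply] at this
    exact this
  have h3 : k * u * k⁻¹ ∈ X (rep cs h (w0 cs) x) ⊓ RGD.Sup X S' := ⟨h1, h2⟩
  rw [hinf, Subgroup.mem_bot, conj_eq_one_iff] at h3
  exact h3

section Fix

variable {R : RGD cs h p T n X} {S : Set (I → ℤ)} {τ : MulAut Y} {ρ : (I → ℤ) ≃+ (I → ℤ)}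
  {lam : (I → ℤ) →+ ℤ} [Finite W]

theorem iter_neg (ρ : (I → ℤ) ≃+ (I → ℤ)) (i : ℕ) (a : I → ℤ) : (⇑ρ)^[i] (-a) = -(⇑ρ)^[i] a := by
  induction i with
  | zero => rfl
  | succ i ih => rw [Function.iterate_succ_apply', ih, map_neg, Function.iterate_succ_apply']

/-- **Fixed elements for the walls.** -/
theorem fx (F : FixRel.Fr R S τ ρ) (hZ : CommZ cs h X) (hS : ZClosed cs h S) (hn : ∀ a ∈ S, -a ∈ S)
    (hlam : lam ∈ Iv ρ.toAddMonoidHom) (hpos : ∀ a ∈ Sp S, 0 < lam a)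
    (hx : ∀ a ∈ S, ∃ y ∈ X a, y ≠ 1 ∧ ∀ m, (⇑ρ)^[m] a = a → (τ ^ m) y = y) : Fx X S τ ρ lam := by
  rintro c ⟨hne, f, hf, hf0, rfl, -⟩
  have hfin : (cl S f).Finite := hS.finite.subset fun a ha => ha.1
  obtain ⟨a, ha, hmax⟩ := Set.exists_max_image (cl S f) lam hfin hne
  have hit : ∀ i, (⇑ρ)^[i] a ∈ cl S f ∧ lam ((⇑ρ)^[i] a) = lam a := by
    intro i
    induction i with
    | zero => exact ⟨ha, rfl⟩
    | succ i ih =>
      rw [Function.iterate_succ_apply']
      exact ⟨⟨F.mem _ ih.1.1, F.pos _ ih.1.1 ih.1.2.1, (hf ((⇑ρ)^[i] a)).trans ih.1.2.2⟩,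
        (hlam ((⇑ρ)^[i] a)).trans ih.2⟩
  have hroot : ∀ i, IsRoot cs h ((⇑ρ)^[i] a) := fun i => hS.root _ (hit i).1.1
  obtain ⟨N, hN, hNρ⟩ := F.exists_order
  obtain ⟨y, hy, hy1, hyf⟩ := hx (-a) (hn a ha.1)
  have hyi : ∀ i, (τ ^ i) y ∈ X (-(⇑ρ)^[i] a) := by
    intro i
    induction i with
    | zero => exact hy
    | succ i ih =>
      rw [pow_succ', Function.iterate_succ_apply', ← map_neg]
      exact F.map _ (hroot i).neg _ ih
  have hyi1 : ∀ i, (τ ^ i) y ≠ 1 := fun i => by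
    rw [Ne, map_eq_one_iff _ (τ ^ i).injective]; exact hy1
  have hper : 0 < Function.minimalPeriod (⇑ρ) a :=
    Function.minimalPeriod_pos_of_mem_periodicPts ⟨N, hN, hNρ a⟩
  set m := Function.minimalPeriod (⇑ρ) a with hm
  have hyc : ∀ i < m, Commute y ((τ ^ i) y) := by
    intro i hi
    rcases Nat.eq_zero_or_pos i with rfl | hi0
    · exact Commute.refl y
    have hne : a ≠ (⇑ρ)^[i] a := fun e => by
      have := Function.IsPeriodicPt.minimalPeriod_le hi0 (show Function.IsPeriodicPt (⇑ρ) i a from e.symm)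
      omega
    have hne' : a ≠ -(⇑ρ)^[i] a := fun e => by
      have h1 := ha.2.1
      rw [e] at h1
      exact (hroot i).not_pos_neg (hit i).1.2.1 (neg_nonneg.1 h1)
    have h1 := hZ (-a) (-(⇑ρ)^[i] a) (hS.root a ha.1).neg (hroot i).neg (fun e => hne (neg_injective e))
      (fun e => hne' (by rw [neg_neg] at e; rw [← e, neg_neg])) y hy _ (hyi i)
    have h2 : {z | ZB cs h (-a) (-(⇑ρ)^[i] a) z} = ∅ := by
      ext z
      simp only [Set.mem_ofPred_eq, Set.mem_empty_iff_false, iff_false]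
      intro hz
      have hzS : z ∈ S := hS.btw _ (hn a ha.1) _ (hn _ (hit i).1.1) z hz
      have hz0 : z ≤ 0 := by
        obtain ⟨hr, u, v, hu, hv, e⟩ := hz
        have h3 : ZB cs h a ((⇑ρ)^[i] a) (-z) := ⟨hr.neg, u, v, hu, hv, by rw [e]; module⟩
        exact neg_nonneg.1 (h3.nonneg' ha.2.1 (hit i).1.2.1)
      obtain ⟨u, v, hu, hv, e⟩ := hz.map f
      rw [map_neg, map_neg, ha.2.2, (hit i).1.2.2, neg_zero, mul_zero, mul_zero, add_zero] at e
      have h4 : -z ∈ cl S f := ⟨hn z hzS, neg_nonneg.2 hz0, by rw [map_neg, e, neg_zero]⟩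
      have h5 := hmax _ h4
      obtain ⟨u, v, hu, hv, e⟩ := hz.map lam
      rw [map_neg, map_neg, (hit i).2] at e
      rw [map_neg, e] at h5
      have h6 := hpos a ⟨ha.1, ha.2.1⟩
      nlinarith
    rw [h2, Sup_empty, Subgroup.mem_bot, commutatorElement_eq_one_iff_commute] at h1
    exact h1
  refine ⟨NInst.op τ y m, NInst.op_mem fun j _ => RGD.le_Sup (z := -(⇑ρ)^[j] a) ?_ (hyi j),
    NInst.op_fixed (hyf m ?_) hyc hper, fun h1 => ?_⟩
  · show -(-(⇑ρ)^[j] a) ∈ cl S f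
    rw [neg_neg]; exact (hit j).1
  · rw [iter_neg, hm, Function.iterate_minimalPeriod]
  · obtain ⟨x, ⟨i, hi, rfl⟩, hinf⟩ := exists_first_neg R (O := {x | ∃ i < m, x = -(⇑ρ)^[i] a})
      ⟨-a, 0, hper, rfl⟩ (by
        rintro x ⟨i, -, rfl⟩
        exact ⟨(hroot i).neg, neg_nonpos.2 (hit i).1.2.1⟩)
    have h2 : (τ ^ i) y ∈ RGD.Sup X ({x | ∃ i < m, x = -(⇑ρ)^[i] a} \ {-(⇑ρ)^[i] a}) := by
      refine NInst.mem_of_op hi (by rw [h1]; exact one_mem _) fun j hj hji => ?_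
      refine RGD.le_Sup (z := -(⇑ρ)^[j] a) (S := {x | ∃ i < m, x = -(⇑ρ)^[i] a} \ {-(⇑ρ)^[i] a})
        ⟨⟨j, hj, rfl⟩, fun e => hji ?_⟩ (hyi j)
      exact (Function.iterate_eq_iterate_iff_of_lt_minimalPeriod hj hi).1 (neg_injective e)
    have h3 : (τ ^ i) y ∈ X (-(⇑ρ)^[i] a) ⊓ RGD.Sup X ({x | ∃ i < m, x = -(⇑ρ)^[i] a} \ {-(⇑ρ)^[i] a}) :=
      ⟨hyi i, h2⟩
    rw [hinf, Subgroup.mem_bot] at h3
    exact hyi1 i h3

section

variable (F : FixRel.Fr R S τ ρ) (hZ : CommZ cs h X) (hS : ZClosed cs h S) (hn : ∀ a ∈ S, -a ∈ S)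
  (hx : ∀ a ∈ S, ∃ y ∈ X a, y ≠ 1 ∧ ∀ m, (⇑ρ)^[m] a = a → (τ ^ m) y = y)

include F hZ hS hn hx

/-- the relative root data -/
theorem exists_rel : ∃ lam : (I → ℤ) →+ ℤ, ∃ _ : RelBN.Rel R S (Gf T X S τ) {c // Wall S ρ lam c},
    ∃ v g, Rp cs R.nsys v g ∧ g ∈ Gf T X S τ ∧ ∀ a ∈ Sp S, rep cs h v a ≤ 0 := by
  obtain ⟨lam, hlam, hpos⟩ := F.exists_lam hS
  have hfix := fx F hZ hS hn hlam hpos hx
  obtain ⟨v, -, g, hgG, hg, hv⟩ := exists_opp F hZ hS hn hlam hpos hfix
  exact ⟨lam, rel F hZ hS hn hlam hpos hfix, v, g, hg, hgG, hv⟩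

/-- **`Good l` for the fixed points of a frame automorphism.** -/
theorem good_fixed [Finite ↥(Gf T X S τ)] [Fact p.Prime] {l : ℕ} [Fact l.Prime] (hT : Group.IsSolvable ↥T) :
    Good l ↥(Gf T X S τ) := by
  obtain ⟨lam, D, hopp⟩ := exists_rel F hZ hS hn hx
  exact good D hZ hS hT hopp

/-- **`RP p` for the fixed points of a frame automorphism.** -/
theorem rp_fixed [Finite ↥(Gf T X S τ)] [Fact p.Prime] (hp2 : p ≠ 2) (hT : Group.IsSolvable ↥T) :
    PreUniq.RP p ↥(Gf T X S τ) := by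
  obtain ⟨lam, D, hopp⟩ := exists_rel F hZ hS hn hx
  exact rp D hZ hS hp2 hT hopp

end

end Fix

end Cfsg.Agent.BpExc.FixEnd

end

-- merged: Cfsg.Agent.BpExc.Quot
section

/-!
# `C(t)^τ` modulo `(MM t · T)^τ` (S1332-EXC, helper12)

* `exists_pow_mem` : `t ∈ T`, `χ_a(t)^l = 1` : every `g ∈ C(t)` has `g^(l^m) ∈ MM t · T`;
* `normal_MMT`, `isPGroup_quotient`, `isSolvable_quotient` : for `fixC τ t`;
* `prop_fixC`, `prop_pair` : for a property `Pr` of finite groups closed under isomorphisms and extensions by solvable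
  quotients: `Pr ((MM t · T)^τ) → Pr (fixC τ t)`, and with the pair reduction `→ Pr (fixC σ x)`.
-/

set_option autoImplicit false
set_option linter.unusedSectionVars false

namespace Cfsg.Agent.BpExc.Quot

open CoxeterSystem Cfsg.Agent.ChevalleyStructure.CoxeterGeom Cfsg.Agent.Tits.Roots Cfsg.Agent.Tits.Core
  Cfsg.Agent.Tits.RootComb Cfsg.Agent.Tits.Exchange Cfsg.Agent.Nodes.Reps Cfsg.Agent.Nodes.BNOf
  Cfsg.Agent.Nodes.StabComb Cfsg.Agent.Nodes.Bruhat Cfsg.Agent.Nodes.OppDec Cfsg.Agent.Nodes.LeviDec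
  Cfsg.Agent.Nodes.NormalForm Cfsg.Agent.Nodes.SubComb Cfsg.Agent.Nodes.Coroot Cfsg.Agent.KFacts.RgdField
  Cfsg.Agent.BpExc.TorCent Cfsg.Agent.BpExc.Tow Cfsg.Agent.BpExc.Fr Cfsg.Agent.BpExc.Pair Cfsg.Agent.BpExc.Good
open Cfsg
open scoped commutatorElement

universe u

variable {I W : Type*} {Y : Type u} [Fintype I] [DecidableEq I] [Group W] [Group Y] {M : CoxeterMatrix I}
  {cs : CoxeterSystem M W} {A : I → I → ℤ} {h : IsCartan M A} {r : ℕ}
  {J : Type*} [Preorder J] {T : J → Subgroup Y} {n : I → Y} {X : J → (I → ℤ) → Subgroup Y}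
  (H : Tow cs h r T n X) {F : Type*} [Field F] {xx : (I → ℤ) → F → Y} {χ : (I → ℤ) → Y → F}
  (C : Coords cs h (TL T) n (XL X) xx χ)

include H C

/-- the form of the elements of the centraliser, with a representative of an element of `PP` -/
theorem exists_form_PP [Finite W] (hA : ChAdd cs h (TL T) χ) (hG : GG cs h (TL T) (XL X) = ⊤) {t : Y}
    (ht : t ∈ TL T) {c : Y} (hc : c * t = t * c) :
    ∃ w ∈ PP cs h χ t, ∃ k, Rp cs H.nsys w k ∧ k * t = t * k ∧ k⁻¹ * c ∈ MM cs h (XL X) χ t := by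
  obtain ⟨m, hm, w, k, hk, hkt, rfl⟩ := Fr.exists_form H C ht ht (c := c) (by rw [hG]; exact Subgroup.mem_top _) hc
  let V : Subgroup W :=
    { carrier := {v | ∃ m ∈ MM cs h (XL X) χ t, Rp cs H.nsys v m}
      one_mem' := ⟨1, one_mem _, rp_one⟩
      mul_mem' := by
        rintro a b ⟨m, hm, hm'⟩ ⟨m', hm1, hm2⟩
        exact ⟨m * m', mul_mem hm hm1, hm'.mul hm2⟩
      inv_mem' := by
        rintro a ⟨m, hm, hm'⟩
        exact ⟨m⁻¹, inv_mem hm, hm'.inv⟩ }
  obtain ⟨v, ⟨m₁, hm₁, hv⟩, hpos⟩ := TorCent.exists_adjust (cs := cs) (h := h) (Sx cs h χ t) V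
    (fun a ha => exists_rfl_MM H C hA ht ha) w
  have hm₁t : m₁ * t = t * m₁ := by
    have := MM_le_centralizer C ht hm₁
    rw [Subgroup.mem_centralizer_singleton_iff] at this
    exact this
  have hkm : Rp cs H.nsys (w * v) (k * m₁) := hk.mul hv
  have hkmt : k * m₁ * t = t * (k * m₁) := by
    rw [mul_assoc, hm₁t, ← mul_assoc, hkt, mul_assoc]
  refine ⟨w * v, ⟨fun a ha => ?_, hpos⟩, k * m₁, hkm, hkmt, ?_⟩
  · have h1 := C.chi_rp H.nsys hkm ha ht
    have h2 : k * m₁ * t * (k * m₁)⁻¹ = t := by rw [hkmt]; group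
    rwa [h2] at h1
  · have h1 := cj_MM_rp H C ht hk hkt
    have h2 : (k * m₁)⁻¹ * (m * k) = m₁⁻¹ * (k⁻¹ * m * k) := by group
    rw [h2]
    refine mul_mem (inv_mem hm₁) ?_
    have h3 : m ∈ cj k (MM cs h (XL X) χ t) := by rw [h1]; exact hm
    exact mem_cj.1 h3

/-- **Modulo `MM t · T` the centraliser is an `l`-group.** -/
theorem exists_pow_mem [Finite W] (hA : ChAdd cs h (TL T) χ) (hG : GG cs h (TL T) (XL X) = ⊤) {t : Y}
    (ht : t ∈ TL T) {l : ℕ} (hl : l.Prime) (hxl : ∀ a, IsRoot cs h a → χ a t ^ l = 1) {c : Y}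
    (hc : c * t = t * c) : ∃ m : ℕ, c ^ l ^ m ∈ MM cs h (XL X) χ t ⊔ TL T := by
  obtain ⟨w, hw, k, hk, hkt, hm⟩ := exists_form_PP H C hA hG ht hc
  obtain ⟨m, hm1⟩ := isPGroup_PP hA ht hl hxl ⟨w, hw⟩
  have hw1 : w ^ l ^ m = 1 := congrArg Subtype.val hm1
  have hkn : k ∈ Subgroup.normalizer ((MM cs h (XL X) χ t ⊔ TL T : Subgroup Y) : Set Y) :=
    mem_normalizer_iff_cj.2 (by
      rw [cj_sup, cj_MM_rp H C ht hk hkt]
      congr 1
      exact mem_normalizer_iff_cj.1 hk.mem_normalizer)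
  -- `c ^ j ∈ k ^ j (MM T)`, and `k ^ j` represents `w ^ j`
  have h1 : ∀ j : ℕ, (k ^ j)⁻¹ * c ^ j ∈ MM cs h (XL X) χ t ⊔ TL T := by
    intro j
    induction j with
    | zero => rw [pow_zero, pow_zero, inv_one, one_mul]; exact one_mem _
    | succ j ih =>
      have h2 : (k ^ (j + 1))⁻¹ * c ^ (j + 1) = k⁻¹ * ((k ^ j)⁻¹ * c ^ j) * k * (k⁻¹ * c) := by
        rw [pow_succ, pow_succ]; group
      rw [h2]
      refine mul_mem ?_ (Subgroup.mem_sup_left hm)
      have h3 := (Subgroup.mem_normalizer_iff.1 (inv_mem hkn) ((k ^ j)⁻¹ * c ^ j)).1 ih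
      rwa [inv_inv] at h3
  have h2 : ∀ j : ℕ, Rp cs H.nsys (w ^ j) (k ^ j) := by
    intro j
    induction j with
    | zero => rw [pow_zero, pow_zero]; exact rp_one
    | succ j ih => rw [pow_succ, pow_succ]; exact ih.mul hk
  refine ⟨m, ?_⟩
  have h3 := h2 (l ^ m)
  rw [hw1] at h3
  have h4 : c ^ l ^ m = k ^ l ^ m * ((k ^ l ^ m)⁻¹ * c ^ l ^ m) := by group
  rw [h4]
  exact mul_mem (Subgroup.mem_sup_right h3.mem_of_one) (h1 _)

/-- `(MM t · T) ⊓ fixC τ t` is normal in `fixC τ t`. -/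
theorem normal_MMT [Finite W] (hG : GG cs h (TL T) (XL X) = ⊤) (τ : MulAut Y) {t : Y} (ht : t ∈ TL T) :
    ((MM cs h (XL X) χ t ⊔ TL T).subgroupOf (fixC τ t)).Normal := by
  refine ⟨fun y hy c => ?_⟩
  rw [Subgroup.mem_subgroupOf] at hy ⊢
  have h1 := (normalizer_MM H C hG ht (c := (c : Y)) (mem_fixC.1 c.2).2).2
  exact (Subgroup.mem_normalizer_iff.1 h1 y.1).1 hy

/-- **The quotient of `fixC τ t` by `(MM t · T) ⊓ fixC τ t` is an `l`-group.** -/
theorem isPGroup_quotient [Finite W] (hA : ChAdd cs h (TL T) χ) (hG : GG cs h (TL T) (XL X) = ⊤) (τ : MulAut Y)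
    {t : Y} (ht : t ∈ TL T) {l : ℕ} (hl : l.Prime) (hxl : ∀ a, IsRoot cs h a → χ a t ^ l = 1)
    [hN : ((MM cs h (XL X) χ t ⊔ TL T).subgroupOf (fixC τ t)).Normal] :
    IsPGroup l (↥(fixC τ t) ⧸ (MM cs h (XL X) χ t ⊔ TL T).subgroupOf (fixC τ t)) := by
  intro q
  obtain ⟨c, rfl⟩ := QuotientGroup.mk_surjective q
  obtain ⟨m, hm⟩ := exists_pow_mem H C hA hG ht hl hxl (c := (c : Y)) (mem_fixC.1 c.2).2
  refine ⟨m, ?_⟩
  rw [← QuotientGroup.mk_pow, QuotientGroup.eq_one_iff, Subgroup.mem_subgroupOf]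
  exact hm

omit H C in
/-- The fixed points in `MM t · T` as a subgroup of `fixC τ t`. -/
theorem MMT_inf_eq {τ : MulAut Y} {t : Y} {G : Subgroup Y} (hle : G ≤ Subgroup.centralizer {t}) :
    G ⊓ fixedSubgroup τ = (G.subgroupOf (fixC τ t)).map (fixC τ t).subtype := by
  ext y
  constructor
  · rintro ⟨h1, h2⟩
    have h3 : y ∈ fixC τ t := by
      refine mem_fixC.2 ⟨h2, ?_⟩
      have := hle h1
      rw [Subgroup.mem_centralizer_singleton_iff] at this
      exact this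
    exact ⟨⟨y, h3⟩, Subgroup.mem_subgroupOf.2 h1, rfl⟩
  · rintro ⟨⟨y, h3⟩, h1, rfl⟩
    exact ⟨Subgroup.mem_subgroupOf.1 h1, (mem_fixC.1 h3).1⟩

/-- **A property closed under isomorphisms and extensions by solvable quotients.** -/
theorem prop_fixC [Finite W] (hA : ChAdd cs h (TL T) χ) (hG : GG cs h (TL T) (XL X) = ⊤)
    (hTc : ∀ s ∈ TL T, ∀ t ∈ TL T, s * t = t * s) (Pr : ∀ (G : Type u) [Group G] [Finite G], Prop)
    (hiso : ∀ (G G' : Type u) [Group G] [Finite G] [Group G'] [Finite G'], (G ≃* G') → Pr G → Pr G')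
    (hext : ∀ (G : Type u) [Group G] [Finite G] (N : Subgroup G) [N.Normal], Pr ↥N → Group.IsSolvable (G ⧸ N) → Pr G)
    {τ : MulAut Y} {t : Y} (ht : t ∈ TL T) {l : ℕ} (hl : l.Prime) (hxl : ∀ a, IsRoot cs h a → χ a t ^ l = 1)
    [Finite ↥(fixC τ t)] [Finite ↥((MM cs h (XL X) χ t ⊔ TL T) ⊓ fixedSubgroup τ)]
    (hP : Pr ↥((MM cs h (XL X) χ t ⊔ TL T) ⊓ fixedSubgroup τ)) : Pr ↥(fixC τ t) := by
  have hN := normal_MMT H C hG τ ht
  have : Fact l.Prime := ⟨hl⟩
  refine hext _ ((MM cs h (XL X) χ t ⊔ TL T).subgroupOf (fixC τ t)) ?_ ?_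
  · have e : (↥((MM cs h (XL X) χ t ⊔ TL T) ⊓ fixedSubgroup τ) : Type u) ≃*
        ↥((MM cs h (XL X) χ t ⊔ TL T).subgroupOf (fixC τ t)) :=
      (MulEquiv.subgroupCongr (MMT_inf_eq (MMT_le H C hTc ht))).trans
        (Subgroup.equivMapOfInjective _ _ (Subgroup.subtype_injective _)).symm
    exact hiso _ _ e hP
  · have h1 := isPGroup_quotient H C hA hG τ ht hl hxl
    have h2 : Group.IsNilpotent (↥(fixC τ t) ⧸ (MM cs h (XL X) χ t ⊔ TL T).subgroupOf (fixC τ t)) :=
      h1.isNilpotent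
    infer_instance

/-- **The same with the pair reduction.** -/
theorem prop_pair [Finite W] (hA : ChAdd cs h (TL T) χ) (hG : GG cs h (TL T) (XL X) = ⊤)
    (hTc : ∀ s ∈ TL T, ∀ t ∈ TL T, s * t = t * s) (Pr : ∀ (G : Type u) [Group G] [Finite G], Prop)
    (hiso : ∀ (G G' : Type u) [Group G] [Finite G] [Group G'] [Finite G'], (G ≃* G') → Pr G → Pr G')
    (hext : ∀ (G : Type u) [Group G] [Finite G] (N : Subgroup G) [N.Normal], Pr ↥N → Group.IsSolvable (G ⧸ N) → Pr G)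
    {σ : MulAut Y} {g : (I → ℤ) ≃+ (I → ℤ)} (Fσ : Fr cs h (TL T) (XL X) σ g) {x z t : Y} (hσx : σ x = x)
    (hz : z⁻¹ * x * z = t) (ht : t ∈ TL T) {l : ℕ} (hl : l.Prime) (hxl : ∀ a, IsRoot cs h a → χ a t ^ l = 1)
    [Finite ↥(fixC σ x)]
    (hL : ∀ (k : Y) (g' : (I → ℤ) ≃+ (I → ℤ)), Fr cs h (TL T) (XL X) (MulAut.conj k * σ) g' →
      (MulAut.conj k * σ) t = t → ∀ m ∈ MM cs h (XL X) χ t, ∃ y ∈ MM cs h (XL X) χ t,
      m = y⁻¹ * (MulAut.conj k * σ) y)
    (hEnd : ∀ (k : Y) (g' : (I → ℤ) ≃+ (I → ℤ)), Fr cs h (TL T) (XL X) (MulAut.conj k * σ) g' →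
      (MulAut.conj k * σ) t = t → (∀ a ∈ Sx cs h χ t, 0 ≤ a → 0 ≤ g' a) →
      ∀ _ : Finite ↥((MM cs h (XL X) χ t ⊔ TL T) ⊓ fixedSubgroup (MulAut.conj k * σ)),
      Pr ↥((MM cs h (XL X) χ t ⊔ TL T) ⊓ fixedSubgroup (MulAut.conj k * σ))) : Pr ↥(fixC σ x) := by
  obtain ⟨z', k, g', h1, h2, F', h3, h4⟩ := pair_reduction H C hA hG Fσ hσx hz ht hL
  have e := fixEquiv (σ := σ) h1 h2
  have hfin : Finite ↥(fixC (MulAut.conj k * σ) t) := Finite.of_equiv _ e.symm.toEquiv
  have hfin' : Finite ↥((MM cs h (XL X) χ t ⊔ TL T) ⊓ fixedSubgroup (MulAut.conj k * σ)) := by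
    rw [MMT_inf_eq (MMT_le H C hTc ht)]
    exact Finite.of_equiv _ (Subgroup.equivMapOfInjective _ _ (Subgroup.subtype_injective _)).toEquiv
  exact hiso _ _ e (prop_fixC H C hA hG hTc Pr hiso hext ht hl hxl (hEnd k g' F' h3 h4 hfin'))

end Cfsg.Agent.BpExc.Quot

end

-- merged: Cfsg.Agent.PreUniq.ExcFrame
section

/-!
# Centralisers in the exceptional groups: the reduction for `RP r` (S1810-S1813, helper83)

`RP r H` : the normal subgroups of order prime to `r` of `H` are solvable.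

* `exists_form`, `exists_pow_mem`, `le_normalizer_MT` : the centraliser of a toral element `t` of `Y = GG (TL T) (XL X)`
  modulo `MM t ⊔ TL` (the union of a tower);
* `rp_fixC` : `RP r ((MM t ⊔ TL) ⊓ fixC τ t) → RP r (fixC τ t)`;
* `rp_of_emb` : `RP r (fixC σ (e x)) → RP r (C_{K₀}(x))`.
-/

set_option autoImplicit false
set_option linter.unusedSectionVars false

namespace Cfsg.Agent.PreUniq.ExcFrame

open CoxeterSystem Cfsg.Agent.ChevalleyStructure.CoxeterGeom Cfsg.Agent.Tits.Roots Cfsg.Agent.Tits.Core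
  Cfsg.Agent.Tits.RootComb Cfsg.Agent.Nodes.Reps Cfsg.Agent.Nodes.BNOf Cfsg.Agent.Nodes.Bruhat
  Cfsg.Agent.Nodes.Coroot Cfsg.Agent.KFacts.RgdField
  Cfsg.Agent.BpExc Cfsg.Agent.BpExc.TorCent Cfsg.Agent.BpExc.Tow Cfsg.Agent.BpExc.Fr Cfsg.Agent.BpExc.Pair
open scoped commutatorElement

section Lim

variable {I W Y : Type*} [Fintype I] [DecidableEq I] [Group W] [Group Y] {M : CoxeterMatrix I}
  {cs : CoxeterSystem M W} {A : I → I → ℤ} {h : IsCartan M A} {p : ℕ}
  {J : Type*} [Preorder J] {T : J → Subgroup Y} {n : I → Y} {X : J → (I → ℤ) → Subgroup Y}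
  (H : Tow cs h p T n X) {F : Type*} [Field F] {xx : (I → ℤ) → F → Y} {χ : (I → ℤ) → Y → F}
  (C : Coords cs h (TL T) n (XL X) xx χ)

include H C

/-- `N ∩ C(t)` normalises `MM t`. -/
theorem mem_MM_conj {t : Y} (ht : t ∈ TL T) {w : W} {k : Y} (hk : Rp cs H.nsys w k) (hkt : k * t = t * k) (y : Y) :
    k * y * k⁻¹ ∈ MM cs h (XL X) χ t ↔ y ∈ MM cs h (XL X) χ t := by
  have h1 := Fr.mem_MM (C := C) (Fr.conj H hk) ht (by rw [MulAut.conj_apply, hkt]; group) y
  rwa [MulAut.conj_apply] at h1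

/-- **The elements of the centraliser of `t`.** -/
theorem exists_form [Finite W] (hA : ChAdd cs h (TL T) χ) {t : Y} (ht : t ∈ TL T) {g : Y}
    (hg : g ∈ GG cs h (TL T) (XL X)) (hc : g * t = t * g) :
    ∃ w ∈ PP cs h χ t, ∃ k, k * t = t * k ∧ Rp cs H.nsys w k ∧ k⁻¹ * g ∈ MM cs h (XL X) χ t := by
  obtain ⟨m, hm, w, k, hk, hkt, rfl⟩ := Fr.exists_form H C ht ht hg hc
  let V : Subgroup W :=
    { carrier := {v | ∃ m ∈ MM cs h (XL X) χ t, Rp cs H.nsys v m}
      one_mem' := ⟨1, one_mem _, rp_one⟩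
      mul_mem' := by
        rintro a b ⟨m, hm, hm'⟩ ⟨m', hm1, hm2⟩
        exact ⟨m * m', mul_mem hm hm1, hm'.mul hm2⟩
      inv_mem' := by
        rintro a ⟨m, hm, hm'⟩
        exact ⟨m⁻¹, inv_mem hm, hm'.inv⟩ }
  obtain ⟨v, ⟨m₁, hm₁, hv⟩, hpos⟩ := TorCent.exists_adjust (cs := cs) (h := h) (Sx cs h χ t) V
    (fun a ha => exists_rfl_MM H C hA ht ha) w
  have hm₁t : m₁ * t = t * m₁ := by
    have := MM_le_centralizer C ht hm₁
    rw [Subgroup.mem_centralizer_singleton_iff] at this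
    exact this
  have hk1 : Rp cs H.nsys (w * v) (k * m₁) := hk.mul hv
  have hk1t : k * m₁ * t = t * (k * m₁) := by rw [mul_assoc, hm₁t, ← mul_assoc, hkt, mul_assoc]
  refine ⟨w * v, ⟨fun a ha => ?_, hpos⟩, k * m₁, hk1t, hk1, ?_⟩
  · have h1 := C.chi_rp H.nsys hk1 ha ht
    have h2 : k * m₁ * t * (k * m₁)⁻¹ = t := by rw [hk1t]; group
    rwa [h2] at h1
  · have h1 := mem_MM_conj H C ht hk1.inv (k := (k * m₁)⁻¹) (by
      have h3 : SemiconjBy (k * m₁) t t := hk1t
      exact h3.inv_symm_left) m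
    rw [inv_inv] at h1
    have h2 : (k * m₁)⁻¹ * (m * k) = (k * m₁)⁻¹ * m * (k * m₁) * m₁⁻¹ := by group
    rw [h2]
    exact mul_mem (h1.2 hm) (inv_mem hm₁)

theorem le_normalizer_MT [Finite W] (hA : ChAdd cs h (TL T) χ) {t : Y} (ht : t ∈ TL T)
    (hG : GG cs h (TL T) (XL X) = ⊤) {g : Y} (hc : g * t = t * g) :
    g ∈ Subgroup.normalizer ((MM cs h (XL X) χ t ⊔ TL T : Subgroup Y) : Set Y) := by
  obtain ⟨w, -, k, hkt, hk, hm⟩ := exists_form H C hA ht (by rw [hG]; exact Subgroup.mem_top g) hc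
  have h1 : g = k * (k⁻¹ * g) := by group
  rw [h1]
  refine mul_mem (mem_normalizer_iff_cj.2 ?_) (Subgroup.le_normalizer (Subgroup.mem_sup_left hm))
  rw [cj_sup]
  congr 1
  · ext y
    rw [mem_cj]
    have h2 := mem_MM_conj H C ht hk hkt (k⁻¹ * y * k)
    have h3 : k * (k⁻¹ * y * k) * k⁻¹ = y := by group
    rw [h3] at h2
    exact h2.symm
  · ext y
    rw [mem_cj]
    have h2 := (Subgroup.mem_normalizer_iff.1 hk.mem_normalizer) (k⁻¹ * y * k)
    have h3 : k * (k⁻¹ * y * k) * k⁻¹ = y := by group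
    rw [h3] at h2
    exact h2

/-- **Modulo `MM t ⊔ TL` the centraliser of `t` is an `l`-group.** -/
theorem exists_pow_mem [Finite W] (hA : ChAdd cs h (TL T) χ) {t : Y} (ht : t ∈ TL T)
    (hG : GG cs h (TL T) (XL X) = ⊤) {l : ℕ} (hl : l.Prime) (htl : ∀ a, IsRoot cs h a → χ a t ^ l = 1) {g : Y}
    (hc : g * t = t * g) : ∃ m : ℕ, g ^ l ^ m ∈ MM cs h (XL X) χ t ⊔ TL T := by
  obtain ⟨w, hw, k, hkt, hk, hm⟩ := exists_form H C hA ht (by rw [hG]; exact Subgroup.mem_top g) hc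
  obtain ⟨m, hm1⟩ := isPGroup_PP hA ht hl htl ⟨w, hw⟩
  have hw1 : w ^ l ^ m = 1 := congrArg Subtype.val hm1
  have hkn : k ∈ Subgroup.normalizer ((MM cs h (XL X) χ t ⊔ TL T : Subgroup Y) : Set Y) :=
    le_normalizer_MT H C hA ht hG hkt
  have h1 : ∀ j : ℕ, (k ^ j)⁻¹ * g ^ j ∈ MM cs h (XL X) χ t ⊔ TL T := by
    intro j
    induction j with
    | zero => rw [pow_zero, pow_zero, inv_one, one_mul]; exact one_mem _
    | succ j ih =>
      have h2 : (k ^ (j + 1))⁻¹ * g ^ (j + 1) = k⁻¹ * ((k ^ j)⁻¹ * g ^ j) * k * (k⁻¹ * g) := by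
        rw [pow_succ, pow_succ]; group
      rw [h2]
      refine mul_mem ?_ (Subgroup.mem_sup_left hm)
      have h3 := (Subgroup.mem_normalizer_iff.1 (inv_mem hkn) ((k ^ j)⁻¹ * g ^ j)).1 ih
      rwa [inv_inv] at h3
  have h2 : ∀ j : ℕ, Rp cs H.nsys (w ^ j) (k ^ j) := by
    intro j
    induction j with
    | zero => rw [pow_zero, pow_zero]; exact rp_one
    | succ j ih => rw [pow_succ, pow_succ]; exact ih.mul hk
  refine ⟨m, ?_⟩
  have h3 := h2 (l ^ m)
  rw [hw1] at h3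
  have h4 : g ^ l ^ m = k ^ l ^ m * ((k ^ l ^ m)⁻¹ * g ^ l ^ m) := by group
  rw [h4]
  exact mul_mem (Subgroup.mem_sup_right h3.mem_of_one) (h1 _)

/-- **The reduction to `(MM t ⊔ TL) ⊓ fixC τ t`.** -/
theorem rp_fixC [Finite W] (hA : ChAdd cs h (TL T) χ) {t : Y} (ht : t ∈ TL T) (hG : GG cs h (TL T) (XL X) = ⊤)
    {l : ℕ} (hl : l.Prime) (htl : ∀ a, IsRoot cs h a → χ a t ^ l = 1) (τ : MulAut Y) [Finite ↥(fixC τ t)] {r : ℕ}
    (hr : RP r ↥((MM cs h (XL X) χ t ⊔ TL T) ⊓ fixC τ t)) : RP r ↥(fixC τ t) := by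
  have hlf : Fact l.Prime := ⟨hl⟩
  have hn : ((MM cs h (XL X) χ t ⊔ TL T).subgroupOf (fixC τ t)).Normal := by
    constructor
    rintro ⟨y, hy⟩ hyN ⟨g, hg⟩
    rw [Subgroup.mem_subgroupOf] at hyN ⊢
    exact (Subgroup.mem_normalizer_iff.1 (le_normalizer_MT H C hA ht hG hg.2) y).1 hyN
  have hp : IsPGroup l (↥(fixC τ t) ⧸ (MM cs h (XL X) χ t ⊔ TL T).subgroupOf (fixC τ t)) := by
    intro q
    obtain ⟨⟨g, hg⟩, rfl⟩ := QuotientGroup.mk_surjective q
    obtain ⟨m, hm⟩ := exists_pow_mem H C hA ht hG hl htl hg.2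
    refine ⟨m, ?_⟩
    rw [← QuotientGroup.mk_pow, QuotientGroup.eq_one_iff, Subgroup.mem_subgroupOf]
    exact hm
  have hs : Group.IsSolvable (↥(fixC τ t) ⧸ (MM cs h (XL X) χ t ⊔ TL T).subgroupOf (fixC τ t)) := by
    have := hp.isNilpotent
    infer_instance
  refine RP.of_normal hs (RP.congr ?_ hr)
  exact (MulEquiv.subgroupCongr (Subgroup.subgroupOf_map_subtype _ _).symm).trans
    (Subgroup.equivMapOfInjective _ (fixC τ t).subtype (fixC τ t).subtype_injective).symm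

end Lim

/-- **From the ambient group to the finite simple group.** -/
theorem rp_of_emb {Y K₀ : Type*} [Group Y] [Group K₀] (e : K₀ →* Y) (he : Function.Injective e) {σ : MulAut Y}
    (hfix : ∀ k, σ (e k) = e k) (hn : ∀ g, σ g = g → ∀ k, ∃ k', g * e k * g⁻¹ = e k') {x : K₀}
    [Finite ↥(fixC σ (e x))] {r : ℕ} (hr : r.Prime) (h : RP r ↥(fixC σ (e x))) :
    RP r ↥(Subgroup.centralizer {x}) := by
  let f : ↥(Subgroup.centralizer {x}) →* ↥(fixC σ (e x)) :=
    { toFun := fun k => ⟨e k.1, hfix k.1, by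
        rw [← map_mul, ← map_mul, Subgroup.mem_centralizer_singleton_iff.1 k.2]⟩
      map_one' := Subtype.ext (map_one e)
      map_mul' := fun a b => Subtype.ext (map_mul e _ _) }
  have hf : Function.Injective f := fun a b hab => Subtype.ext (he (congrArg Subtype.val hab))
  have hN : f.range.Normal := by
    constructor
    rintro _ ⟨k, rfl⟩ g
    obtain ⟨k', hk'⟩ := hn g.1 g.2.1 k.1
    have h0 : g.1 * e k.1 * g.1⁻¹ ∈ fixC σ (e x) := mul_mem (mul_mem g.2 (f k).2) (inv_mem g.2)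
    rw [hk'] at h0
    refine ⟨⟨k', ?_⟩, Subtype.ext hk'.symm⟩
    rw [Subgroup.mem_centralizer_singleton_iff]
    apply he
    rw [map_mul, map_mul]
    exact h0.2
  exact (RP.normal hN h hr).congr (MonoidHom.ofInjective hf).symm

end Cfsg.Agent.PreUniq.ExcFrame

end

-- merged: Cfsg.Agent.PreUniq.ExcRed
section

/-!
# `RP r` for the centralisers in the fixed points of a Steinberg endomorphism (S1810-S1813, helper83)

`Y = D.group k`, `k` algebraically closed and locally finite of characteristic `r`, `σ` a frame automorphism with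
`IsFrob r e σ`, `x ∈ Y^σ` toral, `x ^ l = 1`.

* `chi_pow` : `χ_a(t)^l = 1`;
* `RpEnd` : `RP r ((MM t · T)^τ)` for the adjusted pairs `(t, τ)`; `rp_fixC_of_end` : `RpEnd → RP r (fixC σ x)`.
-/

set_option autoImplicit false
set_option linter.unusedSectionVars false

namespace Cfsg.Agent.PreUniq.ExcRed

open CoxeterSystem Cfsg Cfsg.Lie Cfsg.Lie.ChevalleyDatum
open Cfsg.Agent.ChevalleyStructure Cfsg.Agent.ChevalleyStructure.Elts Cfsg.Agent.ChevalleyStructure.CoxeterGeom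
  Cfsg.Agent.ChevalleyStructure.CoxeterGeomTypes Cfsg.Agent.ChevalleyStructure.NPerm
open Cfsg.Agent.Tits.Roots Cfsg.Agent.Tits.Core Cfsg.Agent.Nodes Cfsg.Agent.Nodes.Reps Cfsg.Agent.Nodes.BNOf
  Cfsg.Agent.Nodes.RGDChev Cfsg.Agent.Nodes.Bruhat
open Cfsg.Agent.KFacts.RgdField Cfsg.Agent.KFacts.RgdChevCoord
open Cfsg.Agent.BpExc Cfsg.Agent.BpExc.TorCent Cfsg.Agent.BpExc.TorChev Cfsg.Agent.BpExc.Tow
  Cfsg.Agent.BpExc.TowChev Cfsg.Agent.BpExc.Fr Cfsg.Agent.BpExc.Pair Cfsg.Agent.BpExc.LangFr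

universe u

variable {D : ChevalleyDatum} {l : ℕ} {M : CoxeterMatrix (Fin l)} (hp : IsType D l M) {k : Type u} [Field k]
  {W : Type*} [Group W] (cs : CoxeterSystem M W)

include hp cs in
theorem chi_pow (r : ℕ) [Fact r.Prime] [CharP k r] (hk : LocFin k) {t : ↥(D.group k)} (ht : t ∈ TT D k) {q : ℕ} (htq : t ^ q = 1) (a : Fin l → ℤ)
    (ha : IsRoot cs hp.isCartan a) : ch hp a t ^ q = 1 := by
  have C := coordsL (k := k) hp cs hk r
  have h0 : ch hp a (1 : ↥(D.group k)) = 1 := by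
    have h1 := (C.coord a ha).chi_mul (one_mem (TT D k)) (one_mem _)
    rw [mul_one] at h1
    exact (mul_eq_left₀ ((C.coord a ha).chi_ne_zero (one_mem _))).1 h1.symm
  have h1 : ∀ m : ℕ, ch hp a (t ^ m) = ch hp a t ^ m := by
    intro m
    induction m with
    | zero => rw [pow_zero, pow_zero, h0]
    | succ m ih => rw [pow_succ, pow_succ, (C.coord a ha).chi_mul (pow_mem ht m) ht, ih]
  rw [← h1, htq, h0]

variable {r e : ℕ} [Fact r.Prime] [CharP k r]

/-- **The end of the reduction.** -/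
def RpEnd (cs : CoxeterSystem M W) (k : Type u) [Field k] (r : ℕ) [Fact r.Prime] [CharP k r] : Prop :=
  ∀ (t : ↥(D.group k)) (τ : MulAut ↥(D.group k)) (g : (Fin l → ℤ) ≃+ (Fin l → ℤ)) (e : ℕ), t ∈ TT D k → 0 < e →
    IsFrob r e τ → Fr cs hp.isCartan (TT D k) (XX D l k) τ g → τ t = t →
    (∀ a ∈ Sx cs hp.isCartan (ch hp) t, 0 ≤ a → 0 ≤ g a) →
    Finite ↥((MM cs hp.isCartan (XX D l k) (ch hp) t ⊔ TT D k) ⊓ fixedSubgroup τ) →
    RP r ↥((MM cs hp.isCartan (XX D l k) (ch hp) t ⊔ TT D k) ⊓ fixedSubgroup τ)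

include hp cs in
/-- **`RP r` for the fixed points commuting with a toral element of prime order.** -/
theorem rp_fixC_of_end [IsAlgClosed k] (hk : LocFin k) (hE : RpEnd hp cs k r) (he : 0 < e)
    {σ : MulAut ↥(D.group k)} (hσ : IsFrob r e σ) {g : (Fin l → ℤ) ≃+ (Fin l → ℤ)}
    (F : Fr cs hp.isCartan (TT D k) (XX D l k) σ g) {x z : ↥(D.group k)} (hσx : σ x = x) {q : ℕ} (hq : q.Prime)
    (hxq : x ^ q = 1) (hz : z⁻¹ * x * z ∈ TT D k) [Finite ↥(fixC σ x)] : RP r ↥(fixC σ x) := by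
  have := finite_W hp cs
  have H := tow (k := k) hp cs hk r
  have C := coordsL (k := k) hp cs hk r
  have hA := chAddL (k := k) hp cs hk r
  have hG := GG_eq_top (k := k) hp cs hk
  have hTc := TT_comm (K := k) hp
  rw [← TL_eq hp hk] at hz hA hTc
  rw [← TL_eq hp hk, ← XL_eq hp hk] at C F
  have htq : (z⁻¹ * x * z) ^ q = 1 := by
    have h1 : (z⁻¹ * x * z) ^ q = z⁻¹ * x ^ q * z := by
      have := conj_pow (a := z⁻¹) (b := x) (i := q)
      rwa [inv_inv] at this
    rw [h1, hxq, mul_one, inv_mul_cancel]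
  refine Quot.prop_pair H C hA hG hTc (fun G _ _ => RP r G) (fun G G' _ _ _ _ e h => h.congr e)
    (fun G _ _ N _ h hs => RP.of_normal hs h) F hσx rfl hz hq
    (fun a ha => chi_pow hp cs r hk (by rw [← TL_eq hp hk]; exact hz) htq a ha) ?_ ?_
  · intro c g' F' hτ m hm
    have h1 := fun a => (Fr.mem_Sx C F' hz hτ a)
    rw [TL_eq hp hk, XL_eq hp hk] at F'
    unfold MM at hm ⊢
    rw [XL_eq hp hk] at hm ⊢
    exact lang_fr hp cs he (hσ.conj_mul c) F' (fun a ha => ha.1) (fun a ha => (h1 a).2 ha) hm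
  · intro c g' F' hτ hpos hfin
    have h2 : TL (Tj hp (k := k)) = TT D k := TL_eq hp hk
    have h3 : XL (Xj hp (k := k)) = XX D l k := XL_eq hp hk
    rw [h2, h3] at F' hfin ⊢
    rw [h2] at hz
    exact hE _ _ g' e hz he (hσ.conj_mul c) F' hτ hpos hfin

theorem finite_fixC {Y : Type*} [Group Y] {σ : MulAut Y} [Finite ↥(fixedSubgroup σ)] (x : Y) :
    Finite ↥(fixC σ x) :=
  Finite.of_injective (Subgroup.inclusion (show fixC σ x ≤ fixedSubgroup σ from fun _ hy => hy.1))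
    (Subgroup.inclusion_injective _)

include hp cs in
/-- **The centralisers of the elements of order `q` in the finite group.** -/
theorem rp_centralizer [IsAlgClosed k] (hk : LocFin k) (hE : RpEnd hp cs k r) (he : 0 < e)
    {σ : MulAut ↥(D.group k)} (hσ : IsFrob r e σ) {g : (Fin l → ℤ) ≃+ (Fin l → ℤ)}
    (F : Fr cs hp.isCartan (TT D k) (XX D l k) σ g) [Finite ↥(fixedSubgroup σ)] {q : ℕ} (hq : q.Prime)
    (htor : ∀ y : ↥(D.group k), y ^ q = 1 → ∃ z, z⁻¹ * y * z ∈ TT D k) {K₀ : Type*} [Group K₀]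
    (ε : K₀ →* ↥(D.group k)) (hε : Function.Injective ε) (hfix : ∀ a, σ (ε a) = ε a)
    (hn : ∀ g, σ g = g → ∀ a, ∃ a', g * ε a * g⁻¹ = ε a') {x : K₀} (hx : orderOf x = q) :
    RP r ↥(Subgroup.centralizer ({x} : Set K₀)) := by
  have hxq : ε x ^ q = 1 := by rw [← map_pow, ← hx, pow_orderOf_eq_one, map_one]
  obtain ⟨z, hz⟩ := htor _ hxq
  have := finite_fixC (σ := σ) (ε x)
  exact ExcFrame.rp_of_emb ε hε hfix hn (Fact.out : r.Prime)
    (rp_fixC_of_end hp cs hk hE he hσ F (hfix x) hq hxq hz)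

theorem rp_centralizer_congr {G K₀ : Type*} [Group G] [Group K₀] (φ : G ≃* K₀) {x : G} {r : ℕ}
    (h : RP r ↥(Subgroup.centralizer ({φ x} : Set K₀))) : RP r ↥(Subgroup.centralizer ({x} : Set G)) := by
  have e : (Subgroup.centralizer ({x} : Set G)).map φ.toMonoidHom = Subgroup.centralizer ({φ x} : Set K₀) := by
    ext y
    rw [Subgroup.mem_centralizer_singleton_iff]
    constructor
    · rintro ⟨z, hz, rfl⟩
      have := Subgroup.mem_centralizer_singleton_iff.1 hz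
      show φ z * φ x = φ x * φ z
      rw [← map_mul, this, map_mul]
    · intro hy
      refine ⟨φ.symm y, ?_, φ.apply_symm_apply y⟩
      rw [SetLike.mem_coe, Subgroup.mem_centralizer_singleton_iff]
      apply φ.injective
      rw [map_mul, map_mul, φ.apply_symm_apply]
      exact hy
  exact h.congr (((φ.subgroupMap _).trans (MulEquiv.subgroupCongr e)).symm)

end Cfsg.Agent.PreUniq.ExcRed

end

-- merged: Cfsg.Agent.BpExc.EndInst
section

/-!
# The end of the reductions in `D.group k` (S1332-EXC (h), helper58)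

* `frame` : `t ∈ TT D k`, `τ` a frame automorphism with `IsFrob r e τ`, `τ t = t`, preserving the positive roots of `Sx t`,
  `((MM t) T)^τ` finite: at a finite level `((MM t) T)^τ` is the group `Gf` of `FixEnd`;
* `end_good : Asm.End`, `end_rp : ExcRed.RpEnd`.
-/

set_option autoImplicit false
set_option linter.unusedSectionVars false

namespace Cfsg.Agent.BpExc.EndInst

open CoxeterSystem Cfsg Cfsg.Lie Cfsg.Lie.ChevalleyDatum
open Cfsg.Agent.ChevalleyStructure Cfsg.Agent.ChevalleyStructure.Elts Cfsg.Agent.ChevalleyStructure.CoxeterGeom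
  Cfsg.Agent.ChevalleyStructure.CoxeterGeomTypes Cfsg.Agent.ChevalleyStructure.NPerm
open Cfsg.Agent.Tits.Roots Cfsg.Agent.Tits.Core Cfsg.Agent.Nodes Cfsg.Agent.Nodes.Reps Cfsg.Agent.Nodes.BNOf
  Cfsg.Agent.Nodes.RGDChev Cfsg.Agent.Nodes.Bruhat Cfsg.Agent.Nodes.NormalForm
open Cfsg.Agent.KFacts.RgdField Cfsg.Agent.KFacts.RgdChevCoord
open Cfsg.Agent.BpExc Cfsg.Agent.BpExc.TorCent Cfsg.Agent.BpExc.TorChev Cfsg.Agent.BpExc.Tow
  Cfsg.Agent.BpExc.TowChev Cfsg.Agent.BpExc.Fr Cfsg.Agent.BpExc.Pair Cfsg.Agent.BpExc.LangFr Cfsg.Agent.GpExc.Field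
  Cfsg.Agent.BpExc.NChev
open scoped commutatorElement

universe u

variable {D : ChevalleyDatum} {l : ℕ} {M : CoxeterMatrix (Fin l)} (hp : IsType D l M) {k : Type u} [Field k]
  {W : Type*} [Group W] (cs : CoxeterSystem M W)

/-- The integral commutator relations of the levels. -/
theorem commZ (E : Lev k) : Zc.CommZ cs hp.isCartan (Xj hp E) := by
  intro x y hx hy hxy hxy' a ha b hb
  refine RGD.Sup_mono (S := CommZ.combZ cs hp x y) ?_ (CommZ.comm_mem_Zj hp cs E hx hy hxy hxy' ha hb)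
  rintro z ⟨hz, i, j, hi, hj, e⟩
  exact ⟨hz, i, j, by exact_mod_cast hi, by exact_mod_cast hj, by rw [e, natCast_zsmul, natCast_zsmul]⟩

/-- `Sx t` is closed. -/
theorem zclosed (hk : LocFin k) (r : ℕ) [Fact r.Prime] [CharP k r] {t : ↥(D.group k)} (ht : t ∈ TT D k) :
    Zc.ZClosed cs hp.isCartan (Sx cs hp.isCartan (ch hp) t) where
  root := fun a ha => ha.1
  btw := by
    rintro x hx y hy z ⟨hz, a, b, ha, hb, e⟩
    obtain ⟨φ, h0, hadd, hφ⟩ := chAddL (k := k) hp cs hk r t ht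
    have hn : ∀ (i : ℕ) (x : Fin l → ℤ), φ ((i : ℤ) • x) = φ x ^ i := by
      intro i x
      induction i with
      | zero => rw [Nat.cast_zero, zero_smul, pow_zero, h0]
      | succ i ih => rw [Nat.cast_succ, add_smul, one_smul, hadd, ih, pow_succ]
    obtain ⟨i, rfl⟩ := Int.eq_ofNat_of_zero_le ha.le
    obtain ⟨j, rfl⟩ := Int.eq_ofNat_of_zero_le hb.le
    refine ⟨hz, ?_⟩
    rw [hφ z hz, e, hadd, hn, hn, ← hφ x hx.1, ← hφ y hy.1, hx.2, hy.2, one_pow, one_pow, one_mul]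

theorem mono_GS (S : Set (Fin l → ℤ)) : Monotone fun E : Lev k => SubBN.GS (Tj hp E) (Xj hp E) S := by
  intro E E' hE
  refine sup_le ?_ ?_
  · refine le_trans (RGD.Sup_le fun a ha => ?_) le_sup_left
    exact (monoXj hp a hE).trans (RGD.le_Sup (X := Xj hp E') ha)
  · exact le_trans (monoTj hp hE) le_sup_right

theorem GS_le (hk : LocFin k) (S : Set (Fin l → ℤ)) (E : Lev k) :
    SubBN.GS (Tj hp E) (Xj hp E) S ≤ RGD.Sup (XX D l k) S ⊔ TT D k := by
  have hX : ∀ a, Xj hp E a ≤ XX D l k a := fun a => by rw [← XL_eq (k := k) hp hk]; exact le_XL E a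
  have hT : Tj hp E ≤ TT D k := by rw [← TL_eq (k := k) hp hk]; exact le_TL E
  exact sup_le ((RGD.Sup_le fun a ha => (hX a).trans (RGD.le_Sup ha)).trans le_sup_left) (hT.trans le_sup_right)

include cs in
/-- the level of a finite subgroup of `⟨X_S⟩ T` -/
theorem exists_level_GS (hk : LocFin k) (r : ℕ) [Fact r.Prime] [CharP k r] (S : Set (Fin l → ℤ))
    {Q : Subgroup ↥(D.group k)} (hQ : Q ≤ RGD.Sup (XX D l k) S ⊔ TT D k) [Finite ↥Q] :
    ∃ E : Lev k, ∀ E' : Lev k, E ≤ E' → Q ≤ SubBN.GS (Tj hp E') (Xj hp E') S := by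
  have H := tow (k := k) hp cs hk r
  have h1 : RGD.Sup (XX D l k) S ⊔ TT D k ≤ ⨆ E : Lev k, SubBN.GS (Tj hp E) (Xj hp E) S := by
    refine sup_le (RGD.Sup_le fun a ha => ?_) ?_
    · rw [← XL_eq (k := k) hp hk]
      refine iSup_le fun E => ?_
      exact le_trans (le_trans (RGD.le_Sup (X := Xj hp E) ha) le_sup_left)
        (le_iSup (fun E : Lev k => SubBN.GS (Tj hp E) (Xj hp E) S) E)
    · rw [← TL_eq (k := k) hp hk]
      refine iSup_le fun E => ?_
      exact le_trans le_sup_right (le_iSup (fun E : Lev k => SubBN.GS (Tj hp E) (Xj hp E) S) E)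
  obtain ⟨E, hE⟩ := H.exists_level (S := fun E => (SubBN.GS (Tj hp E) (Xj hp E) S : Set ↥(D.group k)))
    (fun _ _ hab => mono_GS hp S hab) (f := fun q : ↥Q => (q : ↥(D.group k)))
    (fun q => (H.mem_iSup (mono_GS hp S)).1 (h1 (hQ q.2)))
  exact ⟨E, fun E' hE' y hy => mono_GS hp S hE' (hE ⟨y, hy⟩)⟩

/-- **The frame at a finite level.** -/
theorem frame [IsAlgClosed k] (hk : LocFin k) {r e : ℕ} [Fact r.Prime] [CharP k r]
    {t : ↥(D.group k)} (ht : t ∈ TT D k) (he : 0 < e) {τ : MulAut ↥(D.group k)}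
    (hτ : IsFrob r e τ) {g : (Fin l → ℤ) ≃+ (Fin l → ℤ)} (F : Fr cs hp.isCartan (TT D k) (XX D l k) τ g)
    (hτt : τ t = t) (hpos : ∀ a ∈ Sx cs hp.isCartan (ch hp) t, 0 ≤ a → 0 ≤ g a)
    [Finite ↥((MM cs hp.isCartan (XX D l k) (ch hp) t ⊔ TT D k) ⊓ fixedSubgroup τ)] :
    ∃ E : Lev k, FixRel.Fr ((tow (k := k) hp cs hk r).rgd E) (Sx cs hp.isCartan (ch hp) t) τ g ∧
      (∀ a ∈ Sx cs hp.isCartan (ch hp) t, -a ∈ Sx cs hp.isCartan (ch hp) t) ∧
      (∀ a ∈ Sx cs hp.isCartan (ch hp) t, ∃ y ∈ Xj hp E a, y ≠ 1 ∧ ∀ m, (⇑g)^[m] a = a → (τ ^ m) y = y) ∧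
      Group.IsSolvable ↥(Tj hp E) ∧
      FixRel.Gf (Tj hp E) (Xj hp E) (Sx cs hp.isCartan (ch hp) t) τ =
        (MM cs hp.isCartan (XX D l k) (ch hp) t ⊔ TT D k) ⊓ fixedSubgroup τ := by
  have := finite_W hp cs
  have H := tow (k := k) hp cs hk r
  have C := coordsL (k := k) hp cs hk r
  have hA := chAddL (k := k) hp cs hk r
  have hG := GG_eq_top (k := k) hp cs hk
  have hTL := TL_eq (k := k) hp hk
  have hXL := XL_eq (k := k) hp hk
  have F' : Fr cs hp.isCartan (TL (Tj hp (k := k))) (XL (Xj hp (k := k))) τ g := by rw [hTL, hXL]; exact F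
  have C' : Coords cs hp.isCartan (TL (Tj hp (k := k))) (nc hp k) (XL (Xj hp (k := k))) (xc hp) (ch hp) := by
    rw [hTL, hXL]; exact C
  have ht' : t ∈ TL (Tj hp (k := k)) := by rw [hTL]; exact ht
  have hsep : ∀ a, IsRoot cs hp.isCartan a → ∃ s ∈ TL (Tj hp (k := k)), ∀ u ∈ XL (Xj hp (k := k)) a,
      u * s = s * u → u = 1 := by
    rw [hTL, hXL]
    exact fun a ha => sep hp cs hk r ha
  obtain ⟨E1, hE1⟩ := HX.fr_level hp cs hk hτ F
  obtain ⟨E2, hE2⟩ := HX.exists_fixed_level hp cs hk he hτ F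
  obtain ⟨E3, hE3⟩ := exists_level_GS hp cs hk r (Sx cs hp.isCartan (ch hp) t)
    (Q := (MM cs hp.isCartan (XX D l k) (ch hp) t ⊔ TT D k) ⊓ fixedSubgroup τ) inf_le_left
  obtain ⟨E4, a1, a2⟩ := dir_lev hk E1 E2
  obtain ⟨E, b1, b2⟩ := dir_lev hk E4 E3
  have FE := hE1 E (a1.trans b1)
  have hT : Tj hp E ≤ TT D k := by rw [← hTL]; exact le_TL E
  refine ⟨E, ?_, fun a ha => chi_neg C ht hA ha, fun a ha => hE2 E (a2.trans b1) a ha.1, ?_, ?_⟩
  · exact
    { tor := fun s hs => (FE.tor s).2 hs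
      root := fun a ha => (FE.root a).2 ha
      map := fun a ha u hu => (FE.map a ha u).2 hu
      rp := fun w kk hkk => by
        obtain ⟨w', hw'⟩ := rp_fr H hG hsep F' (H.rp_up hkk)
        obtain ⟨k0, h0, h0'⟩ := H.exists_rp w'
        have h1 : k0⁻¹ * τ kk ∈ TT D k := by
          rw [← hTL]
          exact h0'.unique hw'
        have h2 : k0⁻¹ * τ kk ∈ (emb hp.inList E.1.subtype).range := by
          rw [← GGj_eq hp cs]
          refine mul_mem (inv_mem ?_) (fr_GG FE ?_)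
          · exact (mem_GG (H.rgd E)).2 ⟨w', cell_of_rp (h0 E)⟩
          · exact (mem_GG (H.rgd E)).2 ⟨w, cell_of_rp hkk⟩
        have h3 : k0⁻¹ * τ kk ∈ Tj hp E := (HX.mem_Tj hp cs hk r).2 ⟨h1, h2⟩
        have e : τ kk = k0 * (k0⁻¹ * τ kk) := by group
        exact ⟨w', by rw [e]; exact (h0 E).mul_mem_right h3⟩
      mem := fun a ha => (F'.mem_Sx C' ht' hτt a).2 ha
      pos := hpos }
  · exact Group.isSolvable_of_comm fun a b => Subtype.ext (TT_comm hp a (hT a.2) b (hT b.2))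
  · apply le_antisymm
    · rintro y ⟨hy, hyτ⟩
      exact ⟨GS_le hp hk _ E hy, hyτ⟩
    · rintro y hy
      exact ⟨hE3 E b2 hy, hy.2⟩

/-- **The end of the reduction of S1332 in `D.group k`.** -/
theorem end_good [IsAlgClosed k] (hk : LocFin k) (r : ℕ) [Fact r.Prime] [CharP k r] (p : ℕ) [Fact p.Prime] :
    Asm.End hp cs (k := k) r p := by
  intro t τ g e ht _ he hτ F hτt hpos hfin
  have := finite_W hp cs
  have : Finite ↥((MM cs hp.isCartan (XX D l k) (ch hp) t ⊔ TT D k) ⊓ fixedSubgroup τ) :=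
    Finite.of_injective (Subgroup.inclusion (inf_le_right :
      (MM cs hp.isCartan (XX D l k) (ch hp) t ⊔ TT D k) ⊓ fixedSubgroup τ ≤ fixedSubgroup τ))
      (Subgroup.inclusion_injective _)
  obtain ⟨E, h1, h2, h3, h4, h5⟩ := frame hp cs hk ht he hτ F hτt hpos
  rw [← h5] at this ⊢
  exact FixEnd.good_fixed h1 (commZ hp cs E) (zclosed hp cs hk r ht) h2 h3 h4

/-- **The end of the reduction of S1810-S1813 in `D.group k`.** -/
theorem end_rp [IsAlgClosed k] (hk : LocFin k) (r : ℕ) [Fact r.Prime] (hr2 : r ≠ 2) [CharP k r] :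
    PreUniq.ExcRed.RpEnd hp cs k r := by
  intro t τ g e ht he hτ F hτt hpos hfin
  have := finite_W hp cs
  obtain ⟨E, h1, h2, h3, h4, h5⟩ := frame hp cs hk ht he hτ F hτt hpos
  rw [← h5] at hfin ⊢
  exact FixEnd.rp_fixed h1 (commZ hp cs E) (zclosed hp cs hk r ht) h2 h3 hr2 h4

end Cfsg.Agent.BpExc.EndInst

end

-- merged: Cfsg.Agent.BpExc.FamTwCent
section

/-!
# Elements commuting with a regular unipotent element (S1332-EXC (i2), helper33)

`D` in the list, `F` any field.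
* `Co i u s` : `u ∈ U_i x_{p_i}(s)`, the coordinate of `u ∈ U` at the simple root `p_i`;
* `mem_borel_of_comm` : `g ∈ D.group F` commuting with `u ∈ U` all of whose simple coordinates are not zero: `g ∈ B`;
* `mem_diagonal_of_comm` : if `g` also commutes with some `n ∈ N` with `n V n⁻¹ ≤ U`: `g ∈ T`;
* `eq_one_of_comm` : then `g = 1`.
-/

set_option autoImplicit false
set_option maxHeartbeats 400000

namespace Cfsg.Agent.BpExc.FamTw.Cent

open Cfsg.Lie Cfsg.Agent.ChevalleyStructure Cfsg.Agent.ChevalleyStructure.Elts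
  Cfsg.Agent.ChevalleyStructure.BruhatSplit Cfsg.Agent.ChevalleyStructure.RootWord Cfsg.Agent.BpExc.FixNorm

universe u

variable {D : ChevalleyDatum} (hD : InList D) {F : Type u} [Field F]

/-- the coordinate at the simple root `i` modulo `U_i` -/
def Co (i : ℕ) (u : GL D.Idx F) (s : F) : Prop := ∃ v ∈ Ui F D i, u = v * xG hD (D.simple i) s

section

include hD

theorem Ui_conj {i : ℕ} (hi : i < D.rank) {x v : GL D.Idx F} (hx : x ∈ D.rootSubgroup F (D.simple i))
    (hv : v ∈ Ui F D i) : x * v * x⁻¹ ∈ Ui F D i := by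
  obtain ⟨h1, -⟩ := Cfsg.Agent.S1045.result (F := F) D hD i hi
  exact (Subgroup.mem_normalizer_iff.1 (h1 (Subgroup.mem_sup_left hx)) v).1 hv

theorem Ui_inf {i : ℕ} (hi : i < D.rank) {x : GL D.Idx F} (hx : x ∈ D.rootSubgroup F (D.simple i))
    (hv : x ∈ Ui F D i) : x = 1 := by
  have G := RootComb.good_of_mem hD
  have h1 : nG hD (D.simple i) 1 * x * (nG hD (D.simple i) 1)⁻¹ ∈ D.posUnipotent F :=
    Ui_le i (nG_conj_Ui hD hi hv)
  have h2 : nG hD (D.simple i) 1 * x * (nG hD (D.simple i) 1)⁻¹ ∈ D.negUnipotent F := by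
    have h3 := Subgroup.mem_map_of_mem (MulAut.conj (nG hD (D.simple i) (1 : F))).toMonoidHom hx
    rw [acts_nG_simple hD hi _ (G.simple_lt hi), wact_cons, wact_nil, G.reflect_simple hi] at h3
    exact rootSubgroup_le_neg hD ((isNegRoot_neg G (G.simple_lt hi)).2 (G.simple_pos hi)) h3
  have h3 := eq_one_of_pos_of_neg hD h1 h2
  rwa [conj_eq_one_iff] at h3

end

variable {hD}

theorem Co.mul {i : ℕ} (hi : i < D.rank) {u u' : GL D.Idx F} {s s' : F} (h : Co hD i u s) (h' : Co hD i u' s') :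
    Co hD i (u * u') (s + s') := by
  obtain ⟨v, hv, rfl⟩ := h
  obtain ⟨v', hv', rfl⟩ := h'
  refine ⟨v * (xG hD (D.simple i) s * v' * (xG hD (D.simple i) s)⁻¹),
    mul_mem hv (Ui_conj hD hi (xG_mem_rootSubgroup hD _ _) hv'), ?_⟩
  rw [← xG_add]
  group

theorem Co.inv {i : ℕ} (hi : i < D.rank) {u : GL D.Idx F} {s : F} (h : Co hD i u s) : Co hD i u⁻¹ (-s) := by
  obtain ⟨v, hv, rfl⟩ := h
  refine ⟨xG hD (D.simple i) (-s) * v⁻¹ * (xG hD (D.simple i) (-s))⁻¹,
    Ui_conj hD hi (xG_mem_rootSubgroup hD _ _) (inv_mem hv), ?_⟩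
  rw [← xG_inv]
  group

theorem Co.unique {i : ℕ} (hi : i < D.rank) {u : GL D.Idx F} {s s' : F} (h : Co hD i u s) (h' : Co hD i u s') :
    s = s' := by
  obtain ⟨v, hv, rfl⟩ := h
  obtain ⟨v', hv', e⟩ := h'
  have h1 : v'⁻¹ * v = xG hD (D.simple i) (s' + -s) := by
    have : v'⁻¹ * v = v'⁻¹ * (v * xG hD (D.simple i) s) * (xG hD (D.simple i) s)⁻¹ := by group
    rw [this, e, xG_inv, ← xG_add]
    group
  have h2 := Ui_inf hD hi (x := v'⁻¹ * v) (by rw [h1]; exact xG_mem_rootSubgroup hD _ _) (mul_mem (inv_mem hv') hv)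
  rw [h1, xG_eq_one_iff hD ((RootComb.good_of_mem hD).simple_lt hi), ← sub_eq_add_neg, sub_eq_zero] at h2
  exact h2.symm

theorem exists_co {i : ℕ} (hi : i < D.rank) {u : GL D.Idx F} (hu : u ∈ D.posUnipotent F) : ∃ s, Co hD i u s := by
  obtain ⟨v, hv, x, hx, rfl⟩ := exists_Ui_mul hD hi hu
  obtain ⟨s, rfl⟩ := (mem_rootSubgroup_iff hD _ _).1 hx
  exact ⟨s, v, hv, rfl⟩

theorem Co.conj {i : ℕ} (hi : i < D.rank) {u v : GL D.Idx F} {s : F} (h : Co hD i u s)
    (hv : v ∈ D.posUnipotent F) : Co hD i (v * u * v⁻¹) s := by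
  obtain ⟨s', h'⟩ := exists_co (hD := hD) hi hv
  have := (h'.mul hi h).mul hi (h'.inv hi)
  rwa [add_neg_cancel_comm] at this

theorem co_one {i : ℕ} : Co hD i (1 : GL D.Idx F) 0 := ⟨1, one_mem _, by rw [xG_zero, mul_one]⟩

theorem co_self (i : ℕ) (t : F) : Co hD i (xG hD (D.simple i) t) t := ⟨1, one_mem _, by rw [one_mul]⟩

theorem co_ne {i r : ℕ} (hr : D.IsPosRoot r) (h : r ≠ D.simple i) (t : F) : Co hD i (xG hD r t) 0 :=
  ⟨xG hD r t, Subgroup.subset_closure ⟨r, t, hr, h, coe_xG hD r t⟩, by rw [xG_zero, mul_one]⟩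

/-- the simple coordinates of a word -/
theorem co_word {i : ℕ} (hi : i < D.rank) (w : List (ℕ × F)) (hw : ∀ q ∈ w, D.IsPosRoot q.1) :
    Co hD i (wordG hD w) ((w.map fun q => if q.1 = D.simple i then q.2 else 0).sum) := by
  induction w with
  | nil => exact co_one
  | cons q w ih =>
    rw [wordG_cons, List.map_cons, List.sum_cons]
    refine Co.mul hi ?_ (ih fun q' hq' => hw q' (List.mem_cons_of_mem _ hq'))
    split_ifs with h
    · rw [h]
      exact co_self i _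
    · exact co_ne (hw q List.mem_cons_self) h _

/-- `a ∈ U ∩ m⁻¹ U m` and `m X_{p_i} m⁻¹ ≤ V`: the coordinate of `a` at `i` is zero. -/
theorem Co.eq_zero {i : ℕ} (hi : i < D.rank) {m a : GL D.Idx F} (hm : m ∈ D.monomialSubgroup F)
    (hX : (D.rootSubgroup F (D.simple i)).map (MulAut.conj m).toMonoidHom ≤ D.negUnipotent F)
    {s : F} (ha : Co hD i a s) (hma : m * a * m⁻¹ ∈ D.posUnipotent F) : s = 0 := by
  have G := RootComb.good_of_mem hD
  obtain ⟨v, hv, rfl⟩ := ha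
  set n : GL D.Idx F := nG hD (D.simple i) 1 with hn
  have hnN : n ∈ D.monomialSubgroup F := nG_one_mem_monomial hD (G.simple_lt hi)
  -- `m = m' n`
  obtain ⟨a1, ha1, c1, hc1, e, h1⟩ := split hD (n := m * n⁻¹) (mul_mem hm (inv_mem hnN)) (Ui_le i (nG_conj_Ui hD hi hv))
  have h2 := Um_conj_mem hc1
  have h3 : m * xG hD (D.simple i) s * m⁻¹ ∈ D.negUnipotent F :=
    hX (Subgroup.mem_map_of_mem _ (xG_mem_rootSubgroup hD _ s))
  have h4 : m * (v * xG hD (D.simple i) s) * m⁻¹ =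
      (m * n⁻¹ * a1 * (m * n⁻¹)⁻¹) * ((m * n⁻¹ * c1 * (m * n⁻¹)⁻¹) * (m * xG hD (D.simple i) s * m⁻¹)) := by
    have : n * v * n⁻¹ = a1 * c1 := e
    calc m * (v * xG hD (D.simple i) s) * m⁻¹
        = m * n⁻¹ * (n * v * n⁻¹) * (m * n⁻¹)⁻¹ * (m * xG hD (D.simple i) s * m⁻¹) := by group
      _ = _ := by rw [this]; group
  have h5 : (m * n⁻¹ * c1 * (m * n⁻¹)⁻¹) * (m * xG hD (D.simple i) s * m⁻¹) ∈ D.posUnipotent F := by
    have h6 := mul_mem (inv_mem h1) hma
    rw [h4, inv_mul_cancel_left] at h6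
    exact h6
  have h6 := eq_one_of_pos_of_neg hD h5 (mul_mem h2 h3)
  -- `n x n⁻¹ = c1⁻¹`
  have h7 : n * xG hD (D.simple i) s * n⁻¹ = c1⁻¹ := by
    have h8 : c1 * (n * xG hD (D.simple i) s * n⁻¹) = (m * n⁻¹)⁻¹ * ((m * n⁻¹ * c1 * (m * n⁻¹)⁻¹) *
        (m * xG hD (D.simple i) s * m⁻¹)) * (m * n⁻¹) := by group
    rw [h6, mul_one, inv_mul_cancel] at h8
    exact eq_inv_of_mul_eq_one_right h8
  have h8 : n * xG hD (D.simple i) s * n⁻¹ ∈ D.posUnipotent F := by
    rw [h7]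
    exact inv_mem (Um_le _ hc1)
  have h9 : n * xG hD (D.simple i) s * n⁻¹ ∈ D.negUnipotent F := by
    have h3 := Subgroup.mem_map_of_mem (MulAut.conj n).toMonoidHom (xG_mem_rootSubgroup hD (D.simple i) s)
    rw [acts_nG_simple hD hi _ (G.simple_lt hi), wact_cons, wact_nil, G.reflect_simple hi] at h3
    exact rootSubgroup_le_neg hD ((isNegRoot_neg G (G.simple_lt hi)).2 (G.simple_pos hi)) h3
  have h10 := eq_one_of_pos_of_neg hD h8 h9
  rw [conj_eq_one_iff, xG_eq_one_iff hD (G.simple_lt hi)] at h10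
  exact h10

variable (hD)

section

include hD

/-- An element of `N` keeping all simple root subgroups in `U` is in `T`. -/
theorem mem_diagonal_of_pos {m : GL D.Idx F} (hm : m ∈ D.monomialSubgroup F)
    (h : ∀ i < D.rank, ¬ (D.rootSubgroup F (D.simple i)).map (MulAut.conj m).toMonoidHom ≤ D.negUnipotent F) :
    m ∈ D.diagonalSubgroup F := by
  have G := RootComb.good_of_mem hD
  obtain ⟨w, hw, hact⟩ := exists_acts hD hm
  have hpos : ∀ r, D.IsPosRoot r → D.IsPosRoot (wact D w r) := by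
    intro r hr
    refine wact_pos_of_simple G hw (fun i hi => ?_) hr
    rcases pos_or_neg G (wact_lt G hw (G.simple_lt hi)) with h1 | h1
    · exact h1
    · exact absurd (map_le_of_neg hD hact (G.simple_lt hi) h1) (h i hi)
  have hwr : ∀ a ∈ w.reverse, a < D.rank := fun a ha => hw a (by simpa using ha)
  have hpos' : ∀ r, D.IsPosRoot r → D.IsPosRoot (wact D w.reverse r) := by
    intro r hr
    rcases pos_or_neg G (wact_lt G hwr hr.1) with h1 | h1
    · exact h1
    · exfalso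
      have h2 := hpos _ ((isPosRoot_neg G (wact_lt G hwr hr.1)).2 h1)
      rw [wact_neg G hw (wact_lt G hwr hr.1), wact_reverse' G hw hr.1, isPosRoot_neg G hr.1] at h2
      exact not_pos_of_neg G h2 hr
  have key : ∀ {g : GL D.Idx F} {w : List ℕ}, BruhatSplit.Acts g w → (∀ r, D.IsPosRoot r → D.IsPosRoot (wact D w r)) →
      ∀ u ∈ D.posUnipotent F, g * u * g⁻¹ ∈ D.posUnipotent F := by
    intro g w hg hp u hu
    have h1 : D.posUnipotent F ≤ (D.posUnipotent F).comap (MulAut.conj g).toMonoidHom := by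
      rw [posUnipotent_le_iff hD]
      intro r hr t
      have h2 := Subgroup.mem_map_of_mem (MulAut.conj g).toMonoidHom (xG_mem_rootSubgroup hD r t)
      rw [hg r hr.1] at h2
      exact rootSubgroup_le_pos hD (hp r hr) h2
    exact h1 hu
  have hmN : m ∈ Subgroup.normalizer (D.posUnipotent F : Set (GL D.Idx F)) := by
    rw [Subgroup.mem_normalizer_iff]
    intro u
    refine ⟨fun hu => key hact hpos u hu, fun hu => ?_⟩
    have h1 := key (BruhatSplit.Acts.inv G hact hw) hpos' _ hu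
    have h2 : m⁻¹ * (m * u * m⁻¹) * m⁻¹⁻¹ = u := by group
    rwa [h2] at h1
  have hU : D.unipotentRadical F ∅ = D.posUnipotent F := by
    apply le_antisymm
    · refine (Subgroup.closure_le _).2 ?_
      rintro x ⟨r, t, hr, -, hx⟩
      exact Subgroup.subset_closure ⟨r, t, hr, hx⟩
    · rw [posUnipotent_le_iff hD]
      intro r hr t
      refine Subgroup.subset_closure ⟨r, t, hr, ?_, coe_xG hD r t⟩
      rintro ⟨-, h1⟩
      obtain ⟨j, hj, h2⟩ := G.co_ne_zero hr.1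
      exact h2 (h1 j hj (Set.notMem_empty j))
  have hB : D.parabolicSubgroup F ∅ = D.borelSubgroup F := by
    have : {g : GL D.Idx F | ∃ j ∈ (∅ : Set ℕ), j < D.rank ∧ (g : Matrix D.Idx D.Idx F) = D.nMat F (D.simple j) 1} = ∅ := by
      ext g
      constructor
      · rintro ⟨j, hj, -⟩
        exact hj
      · intro h
        exact absurd h (Set.notMem_empty g)
    show D.borelSubgroup F ⊔ Subgroup.closure _ = _
    rw [this, Subgroup.closure_empty, sup_bot_eq]
  have h1 : m ∈ D.borelSubgroup F := by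
    rw [← hB, ← Cfsg.Agent.S1049.result (F := F) D hD ∅ (fun j hj => absurd hj (Set.notMem_empty j)), hU]
    exact ⟨hmN, monomial_le_group hD F hm⟩
  rw [← (Cfsg.Agent.S1040.result (F := F) D hD).2]
  exact ⟨h1, hm⟩

/-- **Elements commuting with a regular unipotent element.** -/
theorem mem_borel_of_comm {g u : GL D.Idx F} (hg : g ∈ D.group F) (hu : u ∈ D.posUnipotent F)
    (hreg : ∀ i < D.rank, ∃ s, Co hD i u s ∧ s ≠ 0) (hc : g * u = u * g) : g ∈ D.borelSubgroup F := by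
  obtain ⟨a, ha, m, hm, v, hv, rfl, hmv⟩ := exists_form hD hg
  -- `v u = b c`
  obtain ⟨b, hb, c, hc1, e, hmb⟩ := split hD hm (mul_mem hv hu)
  have h1 : (a * (m * b * m⁻¹)) * m * c = (u * a) * m * v := by
    calc (a * (m * b * m⁻¹)) * m * c = a * m * (b * c) := by group
      _ = a * m * (v * u) := by rw [e]
      _ = a * m * v * u := by group
      _ = u * (a * m * v) := hc
      _ = _ := by group
  obtain ⟨-, -, h2⟩ := form_unique hD (mul_mem ha hmb) hm (Um_le _ hc1) (Um_conj_mem hc1) (mul_mem hu ha) hm hv hmv h1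
  have h3 : m * (v * u * v⁻¹) * m⁻¹ ∈ D.posUnipotent F := by
    have : v * u * v⁻¹ = b := by rw [e, h2, mul_inv_cancel_right]
    rwa [this]
  have hmT : m ∈ D.diagonalSubgroup F := by
    refine mem_diagonal_of_pos hD hm fun i hi hX => ?_
    obtain ⟨s, hs, hs0⟩ := hreg i hi
    exact hs0 ((hs.conj hi hv).eq_zero hi hm hX h3)
  have hUB : D.posUnipotent F ≤ D.borelSubgroup F := le_sup_left
  have hTB : D.diagonalSubgroup F ≤ D.borelSubgroup F := le_sup_right
  exact mul_mem (mul_mem (hUB ha) (hTB hmT)) (hUB hv)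

theorem conj_pos_le_neg {n : GL D.Idx F} (hn : n ∈ D.monomialSubgroup F)
    (h : ∀ v ∈ D.negUnipotent F, n * v * n⁻¹ ∈ D.posUnipotent F) {u : GL D.Idx F} (hu : u ∈ D.posUnipotent F) :
    n * u * n⁻¹ ∈ D.negUnipotent F := by
  have G := RootComb.good_of_mem hD
  obtain ⟨w, hw, hact⟩ := exists_acts hD hn
  have h1 : D.posUnipotent F ≤ (D.negUnipotent F).comap (MulAut.conj n).toMonoidHom := by
    rw [posUnipotent_le_iff hD]
    intro r hr t
    have h2 := Subgroup.mem_map_of_mem (MulAut.conj n).toMonoidHom (xG_mem_rootSubgroup hD r t)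
    rw [hact r hr.1] at h2
    refine rootSubgroup_le_neg hD ?_ h2
    have h3 : D.IsNegRoot (D.neg r) := (isNegRoot_neg G hr.1).2 hr
    have h4 := h _ (xG_mem_negUnipotent hD h3 (1 : F))
    have h5 := Subgroup.mem_map_of_mem (MulAut.conj n).toMonoidHom (xG_mem_rootSubgroup hD (D.neg r) (1 : F))
    rw [hact _ h3.1, wact_neg G hw hr.1] at h5
    rcases pos_or_neg G (wact_lt G hw hr.1) with h6 | h6
    · exfalso
      have h7 := rootSubgroup_le_neg hD ((isNegRoot_neg G (wact_lt G hw hr.1)).2 h6) h5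
      have h8 := eq_one_of_pos_of_neg hD h4 h7
      rw [conj_eq_one_iff, xG_eq_one_iff hD h3.1] at h8
      exact one_ne_zero h8
    · exact h6
  exact h1 hu

/-- **... and with a representative of the longest element.** -/
theorem mem_diagonal_of_comm {g u n : GL D.Idx F} (hg : g ∈ D.group F) (hu : u ∈ D.posUnipotent F)
    (hreg : ∀ i < D.rank, ∃ s, Co hD i u s ∧ s ≠ 0) (hc : g * u = u * g) (hn : n ∈ D.monomialSubgroup F)
    (h : ∀ v ∈ D.negUnipotent F, n * v * n⁻¹ ∈ D.posUnipotent F) (hgn : g * n = n * g) :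
    g ∈ D.diagonalSubgroup F := by
  have h1 := mem_borel_of_comm hD hg hu hreg hc
  have h2 : g ∈ D.negUnipotent F ⊔ D.diagonalSubgroup F := by
    obtain ⟨a, ha, t, ht, e⟩ := (mem_borel_iff hD).1 h1
    have h3 : g = (n * a * n⁻¹) * (n * t * n⁻¹) := by
      have : n * g * n⁻¹ = g := by rw [← hgn, mul_inv_cancel_right]
      rw [← this, e]
      group
    rw [h3]
    exact mul_mem (Subgroup.mem_sup_left (conj_pos_le_neg hD hn h ha)) (Subgroup.mem_sup_right (mono_norm hD hn ht))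
  rw [← (Cfsg.Agent.S1037.result (F := F) D hD).2]
  exact ⟨h1, h2⟩

end

variable {hD} in
theorem Co.diag {i : ℕ} {u h : GL D.Idx F} {s c : F} (hs : Co hD i u s)
    (hh : h ∈ D.diagonalSubgroup F) (hc : ∀ t, h * xG hD (D.simple i) t * h⁻¹ = xG hD (D.simple i) (c * t)) :
    Co hD i (h * u * h⁻¹) (c * s) := by
  obtain ⟨v, hv, rfl⟩ := hs
  have h1 : Ui F D i ≤ (Ui F D i).comap (MulAut.conj h).toMonoidHom := by
    refine (Subgroup.closure_le _).2 ?_
    rintro x ⟨r, t, hr, hne, hx⟩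
    obtain ⟨d, -, hd⟩ := BNChev.diagonal_conj hD hh hr.1
    have e : x = xG hD r t := (eq_xG_iff hD x r t).2 hx
    rw [e]
    show h * xG hD r t * h⁻¹ ∈ Ui F D i
    rw [hd t]
    exact Subgroup.subset_closure ⟨r, d * t, hr, hne, coe_xG hD r _⟩
  exact ⟨h * v * h⁻¹, h1 hv, by rw [← hc]; group⟩

/-- **The centralizer.** -/
theorem eq_one_of_comm {l : ℕ} {M : CoxeterMatrix (Fin l)} (hp : Cfsg.Agent.Nodes.RGDChev.IsType D l M)
    {g u n : GL D.Idx F} (hg : g ∈ D.group F) (hu : u ∈ D.posUnipotent F)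
    (hreg : ∀ i < D.rank, ∃ s, Co hp.inList i u s ∧ s ≠ 0) (hc : g * u = u * g) (hn : n ∈ D.monomialSubgroup F)
    (h : ∀ v ∈ D.negUnipotent F, n * v * n⁻¹ ∈ D.posUnipotent F) (hgn : g * n = n * g) : g = 1 := by
  have hgT := mem_diagonal_of_comm hp.inList hg hu hreg hc hn h hgn
  refine Tor.faithful hp hgT fun i => ?_
  have G := RootComb.good_of_mem hp.inList
  have hi : (i : ℕ) < D.rank := by rw [hp.rank_eq]; exact i.2
  obtain ⟨c, -, e⟩ := BNChev.diagonal_conj hp.inList hgT (G.simple_lt hi)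
  obtain ⟨s, hs, hs0⟩ := hreg i hi
  have h1 := hs.diag hgT e
  rw [hc, mul_inv_cancel_right] at h1
  have h2 := h1.unique hi hs
  have h3 : c = 1 := by
    have h4 : c * s = 1 * s := by rw [one_mul]; exact h2
    exact mul_right_cancel₀ hs0 h4
  rw [e, h3, one_mul]

end Cfsg.Agent.BpExc.FamTw.Cent

end

-- merged: Cfsg.Agent.BpExc.FamTwLong
section

/-!
# A monomial representative of the longest element in a twisted group (S1332-EXC, helper33)

`exists_long` of `EmbTw` (helper95) with the additional information that the element is monomial.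
-/

set_option autoImplicit false
set_option maxHeartbeats 400000
set_option linter.unusedSectionVars false
set_option linter.unusedVariables false

namespace Cfsg.Agent.BpExc.FamTw.Long

open CoxeterSystem Cfsg.Agent.ChevalleyStructure.CoxeterGeom Cfsg.Agent.Tits.Roots Cfsg.Agent.Tits.Core
  Cfsg.Agent.Nodes.Reps Cfsg.Agent.Nodes.BNOf
  Cfsg.Agent.Nodes.RGDTwGen Cfsg.Agent.Nodes.RGDChev Cfsg.Agent.Nodes.RGDFold
open Cfsg.Lie Cfsg.Agent.ChevalleyStructure Cfsg.Agent.ChevalleyStructure.Elts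
  Cfsg.Agent.ChevalleyStructure.TwistedU Cfsg.Agent.ChevalleyStructure.TwistedFix
  Cfsg.Agent.ChevalleyStructure.TwistedFixOrbit
open Cfsg.Agent.GpExc.Field Cfsg.Agent.BpExc.FixNorm Cfsg.Agent.BpExc.Emb Cfsg.Agent.BpExc.EmbTw

universe u v

variable {D : ChevalleyDatum} {l m : ℕ} {M' : CoxeterMatrix (Fin l)} {hp : IsType D l M'}
  {M : CoxeterMatrix (Fin m)} {A : Fin m → Fin m → ℤ} (h : IsCartan M A)
  {J : Fin m → List (Fin l)} {L : List (List ℕ)}
  {F : Type u} [Field F] [Finite F] {k : Type v} [Field k] {f : F →+* k}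
  {σ0 : GL D.Idx F →* GL D.Idx F} {ρ ρ' : ℕ → ℕ} {fF : ℕ → F → F} {G : Subgroup (GL D.Idx F)}

/-- **A monomial representative of the relative longest element.** -/
theorem exists_long_mono (FD : FoldData D M A J L) (FG : FoldGrp hp F J L σ0 ρ ρ' fF G) (f : F →+* k)
    (h : IsCartan M A) : ∃ g ∈ G, glMap D f g ∈ D.monomialSubgroup k ∧
      ∀ v ∈ D.negUnipotent k, glMap D f g * v * (glMap D f g)⁻¹ ∈ D.posUnipotent k := by
  have : Finite M.Group := finite_W (hp := hp) M.toCoxeterSystem h FD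
  obtain ⟨w0, hw0⟩ := RGD.exists_inv_eq_pos (cs := M.toCoxeterSystem) (h := h)
  obtain ⟨ω, hω⟩ := M.toCoxeterSystem.wordProd_surjective w0⁻¹
  refine ⟨(ω.map fun i => nI hp F (J i)).prod, Subgroup.list_prod_mem _ fun g hg => ?_, ?_, ?_⟩
  · obtain ⟨i, -, rfl⟩ := List.mem_map.1 hg
    exact FG.nG i
  · refine glMap_mono hp.inList f (Subgroup.list_prod_mem _ fun g hg => ?_)
    obtain ⟨i, -, rfl⟩ := List.mem_map.1 hg
    exact nI_mem hp F (J i)
  · intro v hv
    have e : glMap D f (ω.map fun i => nI hp F (J i)).prod = (ω.map fun i => nI hp k (J i)).prod := by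
      rw [map_list_prod, List.map_map]
      congr 1
      refine List.map_congr_left fun i _ => ?_
      exact glMap_nI i
    rw [e]
    have h1 : D.negUnipotent k ≤ (D.posUnipotent k).comap
        (MulAut.conj ((ω.map fun i => nI hp k (J i)).prod)).toMonoidHom := by
      rw [negUnipotent_le_iff hp.inList]
      intro r hr t
      obtain ⟨s, hs, hV, hcj⟩ := conj_wordProd h (hp := hp) (k := k) FD ω r hr.1
      have h2 : (ω.map fun i => nI hp k (J i)).prod * xG hp.inList r t * ((ω.map fun i => nI hp k (J i)).prod)⁻¹ ∈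
          D.rootSubgroup k s := by
        rw [← hcj, conj_mem_cj]
        exact xG_mem_rootSubgroup hp.inList r t
      obtain ⟨c, hc⟩ := (mem_rootSubgroup_iff hp.inList _ _).1 h2
      rw [Subgroup.mem_comap]
      show (ω.map fun i => nI hp k (J i)).prod * xG hp.inList r t * ((ω.map fun i => nI hp k (J i)).prod)⁻¹ ∈ _
      rw [hc]
      refine xG_mem_posUnipotent hp.inList ?_ c
      have hneg : D.neg r ∈ L.flatten := by
        rcases FD.negL r hr.1 with h3 | h3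
        · exfalso
          have h4 := (RootComb.good_of_mem hp.inList).isPosRoot_iff.1 (FD.isPos r h3)
          have h5 := (RootComb.good_of_mem hp.inList).isNegRoot_iff.1 hr
          omega
        · exact h3
      have hVneg : IsRoot M.toCoxeterSystem h (V D J (D.neg r)) ∧ 0 ≤ V D J (D.neg r) := by
        refine ⟨(FD.isRoot_iff hp.checked (fun i r hr => wp_lt hp (J i) hr) _).2 ⟨_, FD.ltL hneg, rfl⟩, ?_⟩
        intro i
        exact (FD.posL _ (FD.ltL hneg)).1 hneg i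
      have h6 : V D J (D.neg r) ∈ RGD.Inv M.toCoxeterSystem h w0 := by
        rw [hw0]; exact hVneg
      have h7 := h6.2.2
      rw [V_neg hp.checked hr.1, map_neg, neg_nonpos, ← hω, ← hV] at h7
      exact (pos_iff FD hp).2 ((FD.posL s hs).2 fun i => h7 i)
    exact h1 hv

end Cfsg.Agent.BpExc.FamTw.Long

end

-- merged: Cfsg.Agent.BpExc.FamTwFr
section

/-!
# The graph automorphisms are frame automorphisms (S1332-EXC, helper33)

* `gr_isFrob` : `IsFrob r 0 (gr hD S)`;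
* `fr_gr` : `Fr cs _ (TT D k) (XX D l k) (gr hp.inList S) (permE ρ)` for a table symmetry acting on the vectors by the
  permutation `ρ` of the coordinates; instances `fr_six`, `fr_four`;
* `fr_sig`, `isFrob_sig` : `gr ^ j * phi m`.
-/

set_option autoImplicit false
set_option linter.unusedSectionVars false
set_option maxHeartbeats 400000

namespace Cfsg.Agent.BpExc.FamTw.Frame

open CoxeterSystem Cfsg Cfsg.Lie Cfsg.Agent.ChevalleyStructure Cfsg.Agent.ChevalleyStructure.Elts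
  Cfsg.Agent.ChevalleyStructure.CoxeterGeom Cfsg.Agent.ChevalleyStructure.CoxeterGeomTypes
  Cfsg.Agent.ChevalleyStructure.NPerm Cfsg.Agent.ChevalleyStructure.SignedSymm Cfsg.Agent.Tits.Roots
  Cfsg.Agent.Tits.Core Cfsg.Agent.Nodes.Reps
  Cfsg.Agent.Nodes.BNOf Cfsg.Agent.Nodes.RGDChev Cfsg.Agent.KFacts.RgdChevCoord Cfsg.Agent.LangThm
  Cfsg.Agent.BpExc.Fr Cfsg.Agent.BpExc.LangFr Cfsg.Agent.BpExc.Tow Cfsg.Agent.BpExc.TowChev
  Cfsg.Agent.BpExc.FamInst Cfsg.Agent.BpExc.FamUntw Cfsg.Agent.BpExc.FamTw.Gr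
open Cfsg.Agent.ChevalleyStructure.GraphSymm (symmE6 symmD4a)

universe u v

/-- the permutation of the coordinates -/
def permE {l : ℕ} (ρ : Equiv.Perm (Fin l)) : (Fin l → ℤ) ≃+ (Fin l → ℤ) where
  toFun a := fun i => a (ρ.symm i)
  invFun a := fun i => a (ρ i)
  left_inv a := by funext i; exact congrArg a (ρ.symm_apply_apply i)
  right_inv a := by funext i; exact congrArg a (ρ.apply_symm_apply i)
  map_add' _ _ := rfl

section

variable {D : ChevalleyDatum} {l : ℕ} {M : CoxeterMatrix (Fin l)} (hp : IsType D l M) (S : Symm D)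
  {k : Type u} [Field k] {W : Type v} [Group W] (cs : CoxeterSystem M W)

theorem gr_isFrob (hD : InList D) (r : ℕ) [Fact r.Prime] [CharP k r] : IsFrob r 0 (gr (L := k) hD S) :=
  ⟨S.P k, fun g => by rw [frob_zero]; rfl⟩

theorem mem_XX {r : ℕ} (hr : r < D.nroots) (y : ↥(D.group k)) :
    y ∈ XX D l k (vec D l r) ↔ ∃ t : k, (y : GL D.Idx k) = xG hp.inList r t := by
  show (y : GL D.Idx k) ∈ XV D l k (vec D l r) ↔ _
  rw [XV_vec hp _ hr, mem_rootSubgroup_iff hp.inList]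

theorem gr_mem_XX (r : Fin D.nroots) (y : ↥(D.group k)) :
    gr hp.inList S y ∈ XX D l k (vec D l (S.σ r).val) ↔ y ∈ XX D l k (vec D l r.val) := by
  rw [mem_XX hp (S.σ r).2, mem_XX hp r.2]
  constructor
  · rintro ⟨t, ht⟩
    refine ⟨((S.ε r : ℤ) : k) * t, ?_⟩
    have h1 := P_xG (L := k) hp.inList S r (((S.ε r : ℤ) : k) * t)
    rw [← mul_assoc, S.ε_sq', one_mul, ← ht, coe_gr] at h1
    exact (mul_left_cancel (mul_right_cancel h1)).symm
  · rintro ⟨t, ht⟩
    exact ⟨((S.ε r : ℤ) : k) * t, by rw [coe_gr, ht, P_xG]⟩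

/-- `S` acts on the vectors of the roots by a permutation of the coordinates -/
def VecPerm (D : ChevalleyDatum) (l : ℕ) (S : Symm D) (ρ : Equiv.Perm (Fin l)) : Prop :=
  ∀ (r : Fin D.nroots) (i : Fin l), vec D l (S.σ r).val i = vec D l r.val (ρ.symm i)

variable {S} {ρ : Equiv.Perm (Fin l)}

theorem VecPerm.vec (hv : VecPerm D l S ρ) (r : Fin D.nroots) : vec D l (S.σ r).val = permE ρ (vec D l r.val) :=
  funext fun i => hv r i

/-- **The graph automorphism is a frame automorphism.** -/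
theorem fr_gr {ρ' : Fin l → Fin l} (H : OnSimple D l S ρ') (hv : VecPerm D l S ρ) {n : ℕ}
    (hn : gr (L := k) hp.inList S ^ (n + 1) = 1) :
    Fr cs hp.isCartan (TT D k) (XX D l k) (gr hp.inList S) (permE ρ) where
  tor t := by
    refine ⟨fun ht => ?_, fun ht => gr_TT hp H ht⟩
    have h1 : ∀ m : ℕ, (gr (L := k) hp.inList S ^ m) (gr hp.inList S t) ∈ TT D k := by
      intro m
      induction m with
      | zero => rw [pow_zero]; exact ht
      | succ m ih => rw [pow_succ', MulAut.mul_apply]; exact gr_TT hp H ih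
    have h2 := h1 n
    rw [← MulAut.mul_apply, ← pow_succ, hn] at h2
    exact h2
  root a := by
    rw [isRoot_iff hp cs, isRoot_iff hp cs]
    constructor
    · rintro ⟨s, hs, e⟩
      obtain ⟨r, hr⟩ := S.σ.surjective ⟨s, hs⟩
      refine ⟨r.val, r.2, (permE ρ).injective ?_⟩
      rw [← hv.vec, hr]
      exact e
    · rintro ⟨r, hr, rfl⟩
      exact ⟨(S.σ ⟨r, hr⟩).val, (S.σ ⟨r, hr⟩).2, hv.vec ⟨r, hr⟩⟩
  map a ha y := by
    obtain ⟨r, hr, rfl⟩ := (isRoot_iff hp cs a).1 ha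
    rw [← hv.vec ⟨r, hr⟩]
    exact gr_mem_XX hp S ⟨r, hr⟩ y

end

/-! ### the instances -/

/-- `E₆` -/
def rho6 : Equiv.Perm (Fin 6) where
  toFun := ![5, 1, 4, 3, 2, 0]
  invFun := ![5, 1, 4, 3, 2, 0]
  left_inv := by decide
  right_inv := by decide

/-- `D₄` -/
def rho4 : Equiv.Perm (Fin 4) where
  toFun := ![2, 1, 3, 0]
  invFun := ![3, 1, 0, 2]
  left_inv := by decide
  right_inv := by decide

theorem vecPerm6 : VecPerm chevE6 6 symmE6 rho6 := by
  unfold VecPerm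
  decide +kernel

theorem vecPerm4 : VecPerm chevD4 4 symmD4a rho4 := by
  unfold VecPerm
  decide +kernel

theorem simple_lt6 : ∀ i : Fin 6, chevE6.simple i < chevE6.nroots := by decide +kernel

theorem simple_map6 : ∀ i : Fin 6, (symmE6.σ ⟨chevE6.simple i, simple_lt6 i⟩).val =
    chevE6.simple ((![5, 1, 4, 3, 2, 0] : Fin 6 → Fin 6) i) := by decide +kernel

theorem simple_eps6 : ∀ i : Fin 6, symmE6.ε ⟨chevE6.simple i, simple_lt6 i⟩ = 1 := by decide +kernel

theorem onSimple6 : OnSimple chevE6 6 symmE6 ![5, 1, 4, 3, 2, 0] where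
  map i := ⟨simple_lt6 i, simple_map6 i, simple_eps6 i⟩
  surj := by decide

theorem simple_lt4 : ∀ i : Fin 4, chevD4.simple i < chevD4.nroots := by decide +kernel

theorem simple_map4 : ∀ i : Fin 4, (symmD4a.σ ⟨chevD4.simple i, simple_lt4 i⟩).val =
    chevD4.simple ((![2, 1, 3, 0] : Fin 4 → Fin 4) i) := by decide +kernel

theorem simple_eps4 : ∀ i : Fin 4, symmD4a.ε ⟨chevD4.simple i, simple_lt4 i⟩ = 1 := by decide +kernel

theorem onSimple4 : OnSimple chevD4 4 symmD4a ![2, 1, 3, 0] where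
  map i := ⟨simple_lt4 i, simple_map4 i, simple_eps4 i⟩
  surj := by decide

theorem inListE6 : InList chevE6 := by unfold InList; simp

theorem inListD4 : InList chevD4 := by unfold InList; simp

section

variable {k : Type u} [Field k] {W : Type v} [Group W]

theorem gr_sq6 (hD : InList chevE6) : gr (L := k) hD symmE6 ^ 2 = 1 := gr_sq hD symmE6 (by decide +kernel)

theorem gr_cube4 (hD : InList chevD4) : gr (L := k) hD symmD4a ^ 3 = 1 := gr_cube hD symmD4a (by decide +kernel)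

variable (hk : LocFin k) (r : ℕ) [Fact r.Prime] [CharP k r] [PerfectRing k r]

/-- **The Steinberg automorphism `gr * (a ↦ a ^ r ^ m)` of `E₆(k)`.** -/
noncomputable abbrev sig6 (k : Type u) [Field k] (r : ℕ) [Fact r.Prime] [CharP k r] [PerfectRing k r] (m : ℕ) :
    MulAut ↥(chevE6.group k) := gr inListE6 symmE6 * phi chevE6 k r m

/-- **The automorphism `gr ^ j * (a ↦ a ^ r ^ m)` of `D₄(k)`.** -/
noncomputable abbrev sig4 (k : Type u) [Field k] (r : ℕ) [Fact r.Prime] [CharP k r] [PerfectRing k r] (j m : ℕ) :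
    MulAut ↥(chevD4.group k) := gr inListD4 symmD4a ^ j * phi chevD4 k r m

section Six

variable (hp : IsType chevE6 6 CoxeterMatrix.E₆) (cs : CoxeterSystem CoxeterMatrix.E₆ W)

theorem fr_six : Fr cs hp.isCartan (TT chevE6 k) (XX chevE6 6 k) (gr hp.inList symmE6) (permE rho6) :=
  fr_gr hp cs onSimple6 vecPerm6 (gr_sq6 hp.inList)

include hk in
/-- **`σ = gr * Frob`, type `E₆`.** -/
theorem fr_sig6 (m : ℕ) : Fr cs hp.isCartan (TT chevE6 k) (XX chevE6 6 k) (sig6 k r m) (permE rho6) := by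
  have h := (fr_six hp cs).mul (phi_fr hp cs r hk m)
  exact h

omit hp in
theorem isFrob_sig6 (m : ℕ) : IsFrob r m (sig6 k r m) := by
  have h := (gr_isFrob symmE6 inListE6 r (k := k)).mul (phi_isFrob r m)
  rwa [zero_add] at h

omit hp in
theorem sig6_sq (m : ℕ) : sig6 k r m ^ 2 = phi chevE6 k r (m * 2) := by
  have h1 : Commute (gr inListE6 symmE6) (phi chevE6 k r m) := gr_mul_fld inListE6 symmE6 _
  rw [h1.mul_pow, gr_sq6, one_mul, phi_pow]

omit hp in
theorem sig6_pow {p : ℕ} (hp2 : p % 2 = 1) (m : ℕ) : sig6 k r m ^ p = sig6 k r (m * p) := by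
  have h1 : Commute (gr inListE6 symmE6) (phi chevE6 k r m) := gr_mul_fld inListE6 symmE6 _
  rw [h1.mul_pow, phi_pow]
  congr 1
  have h2 : p = 2 * (p / 2) + 1 := by omega
  rw [h2, pow_add, pow_mul, gr_sq6, one_pow, one_mul, pow_one]

end Six

section Four

variable (hp : IsType chevD4 4 Cfsg.Lie.coxeterD4) (cs : CoxeterSystem Cfsg.Lie.coxeterD4 W)

theorem fr_four : Fr cs hp.isCartan (TT chevD4 k) (XX chevD4 4 k) (gr hp.inList symmD4a) (permE rho4) :=
  fr_gr hp cs onSimple4 vecPerm4 (gr_cube4 hp.inList)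

include hk in
/-- **`gr ^ j * Frob`, type `D₄`.** -/
theorem fr_sig4 (j m : ℕ) : ∃ g' : (Fin 4 → ℤ) ≃+ (Fin 4 → ℤ), Fr cs hp.isCartan (TT chevD4 k) (XX chevD4 4 k)
    (sig4 k r j m) g' := by
  obtain ⟨g', h, -⟩ := (fr_four (k := k) hp cs).pow j
  exact ⟨_, h.mul (phi_fr hp cs r hk m)⟩

include hk in
theorem fr_sig4_one (m : ℕ) : Fr cs hp.isCartan (TT chevD4 k) (XX chevD4 4 k) (sig4 k r 1 m) (permE rho4) := by
  have h := (fr_four hp cs).mul (phi_fr hp cs r hk m)
  rw [← pow_one (gr hp.inList symmD4a)] at h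
  exact h

omit hp in
theorem isFrob_sig4 (j m : ℕ) : IsFrob r m (sig4 k r j m) := by
  have h := ((gr_isFrob symmD4a inListD4 r (k := k)).pow j).mul (phi_isFrob r m)
  rwa [mul_zero, zero_add] at h

omit hp in
theorem sig4_pow (j m p : ℕ) : sig4 k r j m ^ p = sig4 k r (j * p) (m * p) := by
  have h1 : Commute (gr inListD4 symmD4a ^ j) (phi chevD4 k r m) :=
    Commute.pow_left (gr_mul_fld inListD4 symmD4a _) j
  rw [h1.mul_pow, phi_pow, ← pow_mul]

omit hp in
theorem sig4_congr {j j' : ℕ} (h : j % 3 = j' % 3) (m : ℕ) : sig4 k r j m = sig4 k r j' m := by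
  unfold sig4
  congr 1
  rw [← Nat.div_add_mod j 3, ← Nat.div_add_mod j' 3, pow_add, pow_mul, gr_cube4, one_pow, one_mul, pow_add, pow_mul,
    gr_cube4, one_pow, one_mul, h]

omit hp in
theorem sig4_cube (j m : ℕ) : sig4 k r j m ^ 3 = phi chevD4 k r (m * 3) := by
  rw [sig4_pow, sig4_congr r (j' := 0) (by omega)]
  unfold sig4
  rw [pow_zero, one_mul]

end Four

end

end Cfsg.Agent.BpExc.FamTw.Frame

end

-- merged: Cfsg.Agent.BpExc.FamTwSixFam
section

/-!
# S1332-EXC (i2) for `²E₆(q)` (helper33)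

* `eq_one_of_comm` : `C(em (²E₆(q))) = 1` in `E₆(L)`, any field `L`;
* `fam` : the hypothesis `hfam` of `Asm.bps` for `em q f : ²E₆(q) → E₆(k)`, `σ = gr * phi n`, `q = r ^ n`.
-/

set_option autoImplicit false
set_option linter.unusedSectionVars false
set_option maxHeartbeats 400000

namespace Cfsg.Agent.BpExc.FamTw.Six

open CoxeterSystem Cfsg Cfsg.Agent.ChevalleyStructure.CoxeterGeom Cfsg.Agent.Tits.Roots Cfsg.Agent.Tits.Core
  Cfsg.Agent.Tits.Exchange Cfsg.Agent.Nodes.Reps Cfsg.Agent.Nodes.BNOf Cfsg.Agent.Nodes.StabComb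
  Cfsg.Agent.Nodes.Bruhat Cfsg.Agent.Nodes.OppDec Cfsg.Agent.Nodes.RGDTwGen Cfsg.Agent.Nodes.RGDChev
  Cfsg.Agent.Nodes.RGDFold Cfsg.Agent.Nodes.RGDFoldSL
open Cfsg.Agent.KFacts.RgdOpp Cfsg.Agent.KFacts.RgdAut Cfsg.Agent.KFacts.RgdDiag Cfsg.Agent.KFacts.RgdRigid
  Cfsg.Agent.KFacts.RgdField Cfsg.Agent.KFacts.RgdTau Cfsg.Agent.KFacts.RgdNodes
open Cfsg.Lie Cfsg.Agent.ChevalleyStructure Cfsg.Agent.ChevalleyStructure.Elts Cfsg.Agent.ChevStructure.FieldMap
open Cfsg.Agent.ChevalleyStructure.SL2Hom (up lo)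
open Cfsg.Agent.KFacts.TwESix.NodeCoord Cfsg.Agent.KFacts.TwESix.Out Cfsg.Agent.KFacts.TwESix.OutTwo
open Cfsg.Agent.Nodes.RGDTwE6 Cfsg.Agent.Nodes.RGDTwNode.E6
open Cfsg.Agent.ChevalleyStructure.TwE6Basic (hE6 single_mem pair_mem twisted_le_iff exists_frob twisted_le_fix)
open Cfsg.Agent.ChevalleyStructure.GraphSymm (symmE6)
open Cfsg.Agent.CpAut.RgdFix Cfsg.Agent.CpAut.RgdCoh Cfsg.Agent.CpAut.RgdConj Cfsg.Agent.CpAut.RgdSub
  Cfsg.Agent.CpAut.RgdTwStd Cfsg.Agent.CpAut.RgdTwE6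
open Cfsg.Agent.CpAut.RgdUntw (fld fld_coe)
open Cfsg.Agent.GpExc.Field (glMap coe_glMap)
open Cfsg.Agent.BpExc.FamTw.Gr
open Cfsg.Agent.KFacts.RgdChevCoord (TT XX)

universe u v

section Cent

variable {K : Type u} {L : Type v} [Field K] [Fintype K] [Field L] {q : ℕ} {φ : K →+* K} (hφ : ∀ x, φ x = x ^ q)
  (hqq : ∀ t : K, (t ^ q) ^ q = t) (f : K →+* L)

/-- a regular unipotent element -/
noncomputable def u0 : ↥(twistedE6 K q) :=
  PhiE hφ hqq 0 (up 1) * PhiE hφ hqq 1 (up 1) * PhiE hφ hqq 2 (up 1) * PhiE hφ hqq 3 (up 1)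

theorem coe_u0 : glMap chevE6 f (u0 hφ hqq : GL chevE6.Idx K) =
    wordG hE6 [(46, 1), (39, 1), (42, 1), (37, 1), (56, 1), (36, 1)] := by
  have h1 : ∀ i : Fin 4, ((1 : KF φ i) : K) = 1 := fun _ => rfl
  unfold u0
  rw [Subgroup.coe_mul, Subgroup.coe_mul, Subgroup.coe_mul, coe_up, coe_up, coe_up, coe_up, h1, h1, h1, h1]
  show glMap chevE6 f (xG hE6 46 1 * 1 * (xG hE6 39 1 * 1) * (xG hE6 42 1 * (xG hE6 37 (φ 1) * 1)) *
    (xG hE6 56 1 * (xG hE6 36 (φ 1) * 1))) = xG hE6 46 1 * (xG hE6 39 1 * (xG hE6 42 1 * (xG hE6 37 1 *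
      (xG hE6 56 1 * (xG hE6 36 1 * 1)))))
  simp only [map_mul, map_one, mul_one, Cfsg.Agent.GpExc.Field.glMap_xG, mul_assoc]

theorem isPos6 : ∀ r : Fin 72, 36 ≤ r.val → chevE6.IsPosRoot r.val := by decide +kernel

theorem simple6 : chevE6.simple 0 = 56 ∧ chevE6.simple 1 = 46 ∧ chevE6.simple 2 = 42 ∧ chevE6.simple 3 = 39 ∧
    chevE6.simple 4 = 37 ∧ chevE6.simple 5 = 36 := by decide +kernel

include hφ hqq in
/-- **The centralizer of `²E₆(q)` in `E₆(L)` is trivial.** -/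
theorem eq_one_of_comm (z : ↥(chevE6.group L)) (hz : ∀ g, z * em q f g = em q f g * z) : z = 1 := by
  obtain ⟨g0, hg0, hN, hlong⟩ := Long.exists_long_mono (k := L) foldData (foldGrp hφ hqq) f isCartan
  have h1 := congrArg Subtype.val (hz ⟨g0, hg0⟩)
  have h2 := congrArg Subtype.val (hz (u0 hφ hqq))
  apply Subtype.ext
  have hpos : ∀ q ∈ ([(46, 1), (39, 1), (42, 1), (37, 1), (56, 1), (36, 1)] : List (ℕ × L)), chevE6.IsPosRoot q.1 := by
    intro q hq
    simp only [List.mem_cons, List.not_mem_nil, or_false] at hq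
    rcases hq with rfl | rfl | rfl | rfl | rfl | rfl
    · exact isPos6 46 (by norm_num)
    · exact isPos6 39 (by norm_num)
    · exact isPos6 42 (by norm_num)
    · exact isPos6 37 (by norm_num)
    · exact isPos6 56 (by norm_num)
    · exact isPos6 36 (by norm_num)
  refine Cent.eq_one_of_comm hp z.2 (u := glMap chevE6 f (u0 hφ hqq : GL chevE6.Idx K)) (n := glMap chevE6 f g0) ?_
    (fun i hi => ⟨1, ?_, one_ne_zero⟩) h2 hN hlong h1
  · rw [coe_u0]
    refine mem_of_xG_mem hE6 fun q hq => ?_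
    exact xG_mem_posUnipotent hE6 (hpos q hq) _
  · rw [coe_u0]
    have h3 := Cent.co_word (hD := hE6) hi _ hpos
    have h4 : i < 6 := hi
    obtain ⟨e0, e1, e2, e3, e4, e5⟩ := simple6
    interval_cases i <;> simpa [e0, e1, e2, e3, e4, e5] using h3

end Cent

/-- the norm, once more -/
theorem pow_eq' {G Y : Type*} [Group G] [Group Y] {e : G →* Y} {σ ψ : MulAut Y} (hσψ : Commute σ ψ)
    (hc : ∀ c, (∀ g, c * e g = e g * c) → c = 1) {p : ℕ} {x : MulAut G} (hx : x ^ p = 1) (hψσ : ψ ^ p = σ)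
    (hσe : ∀ g, σ (e g) = e g) {y : Y} (hy : σ y = y) (hxy : ∀ g, e (x g) = (MulAut.conj y * ψ) (e g)) :
    (MulAut.conj y * ψ) ^ p = σ := by
  rw [← hψσ]
  exact pow_eq (fun z => congrArg (fun β : MulAut Y => β z) hσψ.eq) (fun c _ h => hc c h) hx
    (fun g => by rw [hψσ]; exact hσe g) hy hxy

section Main

open Cfsg.Agent.BpExc.FamField (frb frb_apply pow_apply_of exists_field)
open Cfsg.Agent.BpExc.FamUntw (phi phi_coe phi_pow)
open Cfsg.Agent.BpExc.FamTw.Frame
open Cfsg.Agent.BpExc.LangFr Cfsg.Agent.BpExc.Fr Cfsg.Agent.BpExc.Tow Cfsg.Agent.BpExc.TowChev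

variable {K : Type u} [Field K] [Fintype K] {q : ℕ} {k : Type v} [Field k] (f : K →+* k)

theorem st_one (g : ↥(twistedE6 K q)) : st q (1 : K ≃+* K) g = g := Subtype.ext (glE_one _)

variable (r : ℕ) [Fact r.Prime] [CharP k r] [PerfectRing k r]

theorem em_st {τ : K ≃+* K} {m : ℕ} (hτ : ∀ a, τ a = a ^ r ^ m) (g : ↥(twistedE6 K q)) :
    em q f (st q τ g) = phi chevE6 k r m (em q f g) := by
  apply Subtype.ext
  apply Units.ext
  rw [phi_coe]
  ext a b
  show f (τ _) = (f _) ^ r ^ m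
  rw [hτ, map_pow]
  rfl

variable [CharP K r] {φ : K →+* K} (hφ : ∀ x, φ x = x ^ q) (hqq : ∀ t : K, (t ^ q) ^ q = t)

theorem phi_add (m n : ℕ) : phi chevE6 k r (m + n) = phi chevE6 k r m * phi chevE6 k r n := by
  unfold phi frb
  rw [pow_add, Cfsg.Agent.CpAut.RgdUntw.fld_mul]

theorem sig6_comm (m n : ℕ) : Commute (sig6 k r m) (sig6 k r n) := by
  have h0 : ∀ m' : ℕ, Commute (gr (L := k) inListE6 symmE6) (phi chevE6 k r m') :=
    fun m' => gr_mul_fld inListE6 symmE6 _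
  have h2 : Commute (phi chevE6 k r m) (phi chevE6 k r n) := by
    show _ * _ = _ * _
    rw [← phi_add, ← phi_add, add_comm]
  exact ((Commute.refl _).mul_right (h0 n)).mul_left ((h0 m).symm.mul_right h2)

theorem gr_gr6 (z : ↥(chevE6.group k)) : gr inListE6 symmE6 (gr inListE6 symmE6 z) = z := by
  have h := congrArg (fun β : MulAut ↥(chevE6.group k) => β z) (gr_sq6 (k := k) inListE6)
  exact h

include hφ hqq in
theorem sig6_em {n : ℕ} (hn : q = r ^ n) (g : ↥(twistedE6 K q)) : sig6 k r n (em q f g) = em q f g :=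
  sig_em hφ hqq f (Φ := frb k r n) (fun a => by rw [frb_apply, hφ, map_pow, hn]) g

include hφ hqq in
/-- the field part of `sig6 m` on `²E₆(q)` -/
theorem em_st_sig6 {n : ℕ} (hn : q = r ^ n) {m : ℕ} {τ : K ≃+* K} (hτ : ∀ a, τ a = a ^ r ^ (m + n))
    (g : ↥(twistedE6 K q)) : em q f (st q τ g) = sig6 k r m (em q f g) := by
  have h1 : phi chevE6 k r n (em q f g) = gr inListE6 symmE6 (em q f g) := by
    have h2 := congrArg (gr inListE6 symmE6) (sig6_em f r hφ hqq hn g)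
    rw [← h2]
    exact (gr_gr6 _).symm
  have h3 : Commute (gr (L := k) inListE6 symmE6) (phi chevE6 k r m) := gr_mul_fld inListE6 symmE6 _
  rw [em_st f r hτ, phi_add, MulAut.mul_apply, h1]
  exact (congrArg (fun β : MulAut ↥(chevE6.group k) => β (em q f g)) h3.eq).symm

include hφ hqq in
/-- **The automorphisms of odd prime order of `²E₆(q)`.** -/
theorem cases (hroot : ∀ a : K, ∃ b : k, b ^ 3 = f a) {n : ℕ} (hn : q = r ^ n) (hq1 : 1 < q)
    (hK : Fintype.card K = q ^ 2) {p : ℕ} (hpp : p.Prime) (hp2 : p ≠ 2) {x : MulAut ↥(twistedE6 K q)}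
    (hx : x ^ p = 1) :
    (∃ y : ↥(chevE6.group k), y ^ p = 1 ∧ sig6 k r n y = y ∧ ∀ g, em q f (x g) = y * em q f g * y⁻¹) ∨
    ∃ i m : ℕ, i.Coprime p ∧ 0 < m ∧ m * p = n ∧ ∃ y : ↥(chevE6.group k),
      (MulAut.conj y * sig6 k r m) ^ p = sig6 k r n ∧
      ∀ g, em q f ((x ^ i) g) = (MulAut.conj y * sig6 k r m) (em q f g) := by
  have hW : Finite CoxeterMatrix.F₄.Group := finite_W (hp := hp) CoxeterMatrix.F₄.toCoxeterSystem isCartan foldData
  have hΦ : ∀ a, frb k r n (f a) = f (φ a) := by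
    intro a
    rw [frb_apply, hφ, map_pow, hn]
  have hone := eq_one_of_comm hφ hqq f (L := k)
  obtain ⟨a, τ, y, S, hσy, hy⟩ := exists_lift hφ hqq CoxeterMatrix.F₄.toCoxeterSystem r f hK hq1 hroot hΦ x
  have hτp := tau_pow_eq_one hφ hqq CoxeterMatrix.F₄.toCoxeterSystem r S hx
  by_cases hτ1 : τ = 1
  · left
    subst hτ1
    have hy' : ∀ g, em q f (x g) = y * em q f g * y⁻¹ := fun g => by rw [hy g, st_one]
    have hσy2 : sig6 k r n y = y := by
      rw [MulAut.mul_apply]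
      exact hσy
    refine ⟨y, hone _ fun g => ?_, hσy2, hy'⟩
    have h1 : ∀ m : ℕ, ∀ g, em q f ((x ^ m) g) = y ^ m * em q f g * (y ^ m)⁻¹ := by
      intro m
      induction m with
      | zero => intro g; rw [pow_zero, pow_zero, one_mul, inv_one, mul_one]; rfl
      | succ m ih =>
        intro g
        rw [pow_succ, MulAut.mul_apply, ih, hy', pow_succ]
        group
    have h2 := h1 p g
    rw [hx] at h2
    have h3 : em q f g = y ^ p * em q f g * (y ^ p)⁻¹ := h2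
    conv_rhs => rw [h3]
    group
  · right
    obtain ⟨i, e, hi, he0, hcard, hfr⟩ := exists_field r hpp hτp hτ1
    have hrp : r.Prime := Fact.out
    have hep : e * p = 2 * n := by
      have h1 : r ^ (e * p) = r ^ (2 * n) := by
        rw [← hcard, Nat.card_eq_fintype_card, hK, hn, ← pow_mul, mul_comm]
      exact Nat.pow_right_injective hrp.two_le h1
    have hodd : p % 2 = 1 := hpp.eq_two_or_odd.resolve_left hp2
    have h2e : 2 ∣ e := by
      have h1 : 2 ∣ e * p := ⟨n, hep⟩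
      exact (Nat.Coprime.dvd_of_dvd_mul_right ((Nat.coprime_primes Nat.prime_two hpp).2 (Ne.symm hp2)) h1)
    obtain ⟨m, rfl⟩ := h2e
    have hmn : m * p = n := by
      have h1 : 2 * (m * p) = 2 * n := by rw [← hep]; ring
      exact Nat.eq_of_mul_eq_mul_left two_pos h1
    have hm0 : 0 < m := by omega
    obtain ⟨j, hj⟩ : ∃ j, 2 * j = p + 1 := ⟨(p + 1) / 2, by omega⟩
    have hjp : j.Coprime p := by
      have h1 : (2 * j).Coprime p := by
        rw [hj]
        exact (Nat.coprime_self_add_left (m := p) (n := 1)).2 (Nat.coprime_one_left p)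
      exact Nat.Coprime.coprime_mul_left h1
    obtain ⟨a', τ', y', S', hσy', hy'⟩ := exists_lift hφ hqq CoxeterMatrix.F₄.toCoxeterSystem r f hK hq1 hroot hΦ
      (x ^ (i * j))
    obtain ⟨b, Sb⟩ := ftau_pow' hφ hqq S (i * j)
    have hτ' : τ' = τ ^ (i * j) := ftau_unique hφ hqq CoxeterMatrix.F₄.toCoxeterSystem r S' Sb
    have hfr' : ∀ a, τ' a = a ^ r ^ (m + n) := by
      intro a
      rw [hτ', pow_mul, pow_apply_of hfr]
      congr 2
      rw [← hmn]
      have : 2 * m * j = m * (2 * j) := by ring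
      rw [this, hj]
      ring
    have key := em_st_sig6 f r hφ hqq hn hfr'
    have hpow : sig6 k r m ^ p = sig6 k r n := by rw [sig6_pow r hodd, hmn]
    have hx2 : (x ^ (i * j)) ^ p = 1 := by rw [← pow_mul, mul_comm, pow_mul, hx, one_pow]
    have hσy2 : sig6 k r n y' = y' := by
      rw [MulAut.mul_apply]
      exact hσy'
    have hxy : ∀ g, em q f ((x ^ (i * j)) g) = (MulAut.conj y' * sig6 k r m) (em q f g) := by
      intro g
      rw [hy' g, key, MulAut.mul_apply _ (MulAut.conj y'), MulAut.conj_apply]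
    exact ⟨i * j, m, hi.mul_left hjp, hm0, hmn, y', pow_eq' (sig6_comm r n m) hone hx2 hpow
      (sig6_em f r hφ hqq hn) hσy2 hxy, hxy⟩

end Main

section Fam

open Cfsg.Agent.BpExc.FamUntw (phi)
open Cfsg.Agent.BpExc.FamTw.Frame
open Cfsg.Agent.BpExc.LangFr Cfsg.Agent.BpExc.Fr Cfsg.Agent.BpExc.Tow Cfsg.Agent.BpExc.TowChev

variable {K : Type u} [Field K] [Fintype K] {q : ℕ} {k : Type u} [Field k] [IsAlgClosed k] (hk : LocFin k)
  (f : K →+* k) (r : ℕ) [Fact r.Prime] [CharP k r] [CharP K r] {W : Type v} [Group W]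

include hk in
/-- **(i2) for `²E₆(q)`: the hypothesis `hfam` of `Asm.bps`**, `ι = em q f`, `σ = sig6 k r n`, `q = r ^ n`. -/
theorem fam (hp : IsType chevE6 6 CoxeterMatrix.E₆) (cs : CoxeterSystem CoxeterMatrix.E₆ W) {n : ℕ} (hn0 : 0 < n)
    (hn : q = r ^ n) (hK : Fintype.card K = q ^ 2) {p : ℕ} (hpp : p.Prime) (hp2 : p ≠ 2)
    (x : MulAut ↥(twistedE6 K q)) (hx : orderOf x = p) :
    (∃ y : ↥(chevE6.group k), y ^ p = 1 ∧ sig6 k r n y = y ∧ ∀ a, em q f (x a) = y * em q f a * y⁻¹) ∨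
    ∃ (i : ℕ) (c : ↥(chevE6.group k)) (φ : MulAut ↥(chevE6.group k)) (g' : (Fin 6 → ℤ) ≃+ (Fin 6 → ℤ)) (e' : ℕ),
      i.Coprime p ∧ 0 < e' ∧ IsFrob r e' φ ∧ Fr cs hp.isCartan (TT chevE6 k) (XX chevE6 6 k) φ g' ∧
      fixedSubgroup (MulAut.conj c * φ) ≤ fixedSubgroup (sig6 k r n) ∧
      ∀ a, em q f ((x ^ i) a) = (MulAut.conj c * φ) (em q f a) := by
  have hperf : PerfectRing k r := inferInstance
  have hrp : r.Prime := Fact.out
  have hq1 : 1 < q := by rw [hn]; exact Nat.one_lt_pow hn0.ne' hrp.one_lt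
  have hq : IsPrimePow q := (isPrimePow_nat_iff _).2 ⟨r, n, hrp, hn0, hn.symm⟩
  obtain ⟨φ, hφ, hqq⟩ := exists_frob hq hK
  have hxp : x ^ p = 1 := by rw [← hx, pow_orderOf_eq_one]
  rcases cases f r hφ hqq (fun a => IsAlgClosed.exists_pow_nat_eq (f a) (by norm_num)) hn hq1 hK hpp hp2 hxp with h | h
  · exact Or.inl h
  · obtain ⟨i, m, hi, hm0, hmn, y, hy, h⟩ := h
    refine Or.inr ⟨i, y, sig6 k r m, permE rho6, m, hi, hm0, isFrob_sig6 r m, fr_sig6 hk r hp cs m, ?_, h⟩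
    intro z hz
    have h1 := Glue.mem_fixed_pow (Glue.mem_fixed.1 hz) p
    rw [hy] at h1
    exact h1

theorem em_fix {n : ℕ} (hn0 : 0 < n) (hn : q = r ^ n) (hK : Fintype.card K = q ^ 2) (a : ↥(twistedE6 K q)) :
    sig6 k r n (em q f a) = em q f a := by
  have hrp : r.Prime := Fact.out
  have hq : IsPrimePow q := (isPrimePow_nat_iff _).2 ⟨r, n, hrp, hn0, hn.symm⟩
  obtain ⟨φ, hφ, hqq⟩ := exists_frob hq hK
  exact sig6_em f r hφ hqq hn a

end Fam

end Cfsg.Agent.BpExc.FamTw.Six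

end

-- merged: Cfsg.Agent.BpExc.FamTwFour
section

/-!
# The automorphisms of `³D₄(q)` inside `D₄(L)` (S1332-EXC, helper66, after helper33's `FamTwSix`)

`f : K →+* L`, `|K| = q³`, `em f : ³D₄(q) → D₄(L)`, `σ = gr * fld Φ`, `Φ a = a ^ q`.
* `exists_tor` : the diagonal automorphisms are induced by elements of `T(L)^σ`;
* `exists_lift` : every automorphism is `conj y ∘ st τ`, `σ y = y`;
* `eq_one_of_comm` : the centralizer of `³D₄(q)` in `D₄(L)` is trivial.
-/

set_option autoImplicit false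
set_option linter.unusedSectionVars false
set_option maxHeartbeats 400000

namespace Cfsg.Agent.BpExc.FamTw.Four

open CoxeterSystem Cfsg.Agent.ChevalleyStructure.CoxeterGeom Cfsg.Agent.Tits.Roots Cfsg.Agent.Tits.Core
  Cfsg.Agent.Tits.Exchange Cfsg.Agent.Nodes.Reps Cfsg.Agent.Nodes.BNOf Cfsg.Agent.Nodes.StabComb
  Cfsg.Agent.Nodes.Bruhat Cfsg.Agent.Nodes.OppDec Cfsg.Agent.Nodes.RGDTwGen Cfsg.Agent.Nodes.RGDChev
  Cfsg.Agent.Nodes.RGDFold Cfsg.Agent.Nodes.RGDFoldSL
open Cfsg.Agent.KFacts.RgdOpp Cfsg.Agent.KFacts.RgdAut Cfsg.Agent.KFacts.RgdDiag Cfsg.Agent.KFacts.RgdRigid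
  Cfsg.Agent.KFacts.RgdField Cfsg.Agent.KFacts.RgdTau Cfsg.Agent.KFacts.RgdNodes
open Cfsg.Lie Cfsg.Agent.ChevalleyStructure Cfsg.Agent.ChevalleyStructure.Elts Cfsg.Agent.ChevStructure.FieldMap
open Cfsg.Agent.ChevalleyStructure.SL2Hom (up lo)
open Cfsg.Agent.KFacts.TwDFour.Out
open Cfsg.Agent.Nodes.RGDTwD4 Cfsg.Agent.Nodes.RGDTwNode.D4
open Cfsg.Agent.ParSys.Fam.D4 (hf)
open Cfsg.Agent.ChevalleyStructure.GraphSymm (symmD4a)
open Cfsg.Agent.CpAut.RgdFix Cfsg.Agent.CpAut.RgdCoh Cfsg.Agent.CpAut.RgdConj Cfsg.Agent.CpAut.RgdSub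
  Cfsg.Agent.CpAut.RgdTwStd Cfsg.Agent.CpAut.RgdTwD4
open Cfsg.Agent.CpAut.RgdUntw (fld fld_coe)
open Cfsg.Agent.GpExc.Field (glMap coe_glMap)
open Cfsg.Agent.BpExc.FamTw.Gr
open Cfsg.Agent.KFacts.RgdChevCoord (TT)

universe u v

/-! ### orbits -/

section Orb

variable {D : ChevalleyDatum} (hD : InList D) {K : Type u} {L : Type v} [Field K] [Field L] (f : K →+* L)
  (φ : K →+* K) {t : GL D.Idx L} {c : K}

theorem conj_one {r : ℕ} (h : ∀ a, t * xG hD r a * t⁻¹ = xG hD r (f c * a)) (a : K) :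
    t * glMap D f (yv (xG hD) φ [r] a) * t⁻¹ = glMap D f (yv (xG hD) φ [r] (c * a)) := by
  show t * glMap D f (xG hD r a * 1) * t⁻¹ = glMap D f (xG hD r (c * a) * 1)
  rw [mul_one, mul_one, Cfsg.Agent.GpExc.Field.glMap_xG, Cfsg.Agent.GpExc.Field.glMap_xG, h, map_mul]

theorem conj_three {r s u : ℕ} (h : ∀ a, t * xG hD r a * t⁻¹ = xG hD r (f c * a))
    (h' : ∀ a, t * xG hD s a * t⁻¹ = xG hD s (f (φ c) * a))
    (h'' : ∀ a, t * xG hD u a * t⁻¹ = xG hD u (f (φ (φ c)) * a)) (a : K) :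
    t * glMap D f (yv (xG hD) φ [r, s, u] a) * t⁻¹ = glMap D f (yv (xG hD) φ [r, s, u] (c * a)) := by
  show t * glMap D f (xG hD r a * (xG hD s (φ a) * (xG hD u (φ (φ a)) * 1))) * t⁻¹ =
    glMap D f (xG hD r (c * a) * (xG hD s (φ (c * a)) * (xG hD u (φ (φ (c * a))) * 1)))
  simp only [mul_one, map_mul, Cfsg.Agent.GpExc.Field.glMap_xG]
  rw [← h, ← h', ← h'']
  group

end Orb

section Emb

variable {K : Type u} {L : Type v} [Field K] [Field L] {q : ℕ}

theorem twisted_le_group (q : ℕ) : twistedD4 K q ≤ chevD4.group K := by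
  rw [tw_le_iff]
  exact ⟨fun t _ r _ => xG_mem_group hD4 r t,
    fun t rs _ => mul_mem (xG_mem_group hD4 _ _) (mul_mem (xG_mem_group hD4 _ _) (xG_mem_group hD4 _ _))⟩

/-- **The embedding `³D₄(q) → D₄(L)`.** -/
noncomputable def em (q : ℕ) (f : K →+* L) : ↥(twistedD4 K q) →* ↥(chevD4.group L) :=
  (Cfsg.Agent.GpExc.Field.emb hD4 f).comp (Subgroup.inclusion (twisted_le_group (K := K) q))

theorem coe_em (f : K →+* L) (g : ↥(twistedD4 K q)) :
    ((em q f g : ↥(chevD4.group L)) : GL chevD4.Idx L) = glMap chevD4 f (g : GL chevD4.Idx K) := rfl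

theorem em_injective (f : K →+* L) : Function.Injective (em q f) :=
  (Cfsg.Agent.GpExc.Field.emb_injective hD4 f).comp (Subgroup.inclusion_injective _)

theorem simple_lt4 : ∀ i : Fin 4, chevD4.simple i < chevD4.nroots := by decide +kernel

theorem simple_map4 : ∀ i : Fin 4, (symmD4a.σ ⟨chevD4.simple i, simple_lt4 i⟩).val =
    chevD4.simple ((![2, 1, 3, 0] : Fin 4 → Fin 4) i) := by decide +kernel

theorem simple_eps4 : ∀ i : Fin 4, symmD4a.ε ⟨chevD4.simple i, simple_lt4 i⟩ = 1 := by decide +kernel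

theorem onSimple : OnSimple chevD4 4 symmD4a ![2, 1, 3, 0] where
  map i := ⟨simple_lt4 i, simple_map4 i, simple_eps4 i⟩
  surj := by decide

theorem gr_cube_D4 : gr (L := L) hD4 symmD4a ^ 3 = 1 :=
  gr_cube hD4 symmD4a (by decide +kernel)

/-- `2 A⁻¹` for `D₄` -/
def B4 : Fin 4 → Fin 4 → ℤ := ![![2, 2, 1, 1], ![2, 4, 2, 2], ![1, 2, 2, 1], ![1, 2, 1, 2]]

theorem B4_mul : ∀ i k : Fin 4, ∑ j : Fin 4, B4 i j * chevD4.cartan j (chevD4.simple k) =
    if i = k then ((2 : ℕ) : ℤ) else 0 := by decide +kernel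

variable {φ : K →+* K} (f : K →+* L)

/-- **The diagonal automorphisms come from `T(L)^σ`.** -/
theorem exists_tor (h3 : ∀ a, φ (φ (φ a)) = a) (hroot : ∀ a : K, ∃ b : L, b ^ 2 = f a) {Φ : L ≃+* L}
    (hΦ : ∀ a, Φ (f a) = f (φ a))
    (c : ∀ i, KD φ i) (hc : ∀ i, c i ≠ 0) : ∃ t ∈ TT chevD4 L, gr hD4 symmD4a (fld chevD4 Φ t) = t ∧
      (∀ i (a : K), (t : GL chevD4.Idx L) * glMap chevD4 f (yv (xG hD4) φ (rep i :: rest i) a) *
        (t : GL chevD4.Idx L)⁻¹ = glMap chevD4 f (yv (xG hD4) φ (rep i :: rest i) (c i * a))) ∧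
      ∀ i (a : K), (t : GL chevD4.Idx L) * glMap chevD4 f (yv (xG hD4) φ (negO i) a) *
        (t : GL chevD4.Idx L)⁻¹ = glMap chevD4 f (yv (xG hD4) φ (negO i) ((c i : K)⁻¹ * a)) := by
  have hc' : ∀ i, (c i : K) ≠ 0 := fun i h => hc i (Subtype.ext h)
  obtain ⟨b, hb⟩ : ∃ b : Fin 4 → K, b = ![(c 1 : K), c 0, φ (c 1), φ (φ (c 1))] := ⟨_, rfl⟩
  have hb0 : ∀ i, b i ≠ 0 := by
    intro i
    rw [hb]
    fin_cases i
    · exact hc' 1
    · exact hc' 0
    · exact (map_ne_zero φ).2 (hc' 1)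
    · exact (map_ne_zero φ).2 ((map_ne_zero φ).2 (hc' 1))
  obtain ⟨t, ht, hpos, hneg⟩ := Tor.exists_diag hp (F := L) (m := 2) (B := B4) B4_mul (b := fun i => f (b i))
    (fun i => (map_ne_zero f).2 (hb0 i)) (fun i => hroot _) (by norm_num)
  have htG : t ∈ chevD4.group L := diagonal_le_group hD4 L ht
  have h1 : φ (c 0) = c 0 := mem_Fx.1 (c 0).2
  have e : ∀ i : Fin 4, ∀ r, chevD4.simple i = r → ∀ d, b i = d → ∀ a,
      t * xG hD4 r a * t⁻¹ = xG hD4 r (f d * a) := by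
    rintro i r rfl d rfl a
    exact hpos i a
  have e' : ∀ i : Fin 4, ∀ r, chevD4.neg (chevD4.simple i) = r → ∀ d, (b i)⁻¹ = d → ∀ a,
      t * xG hD4 r a * t⁻¹ = xG hD4 r (f d * a) := by
    rintro i r rfl d rfl a
    rw [map_inv₀]
    exact hneg i a
  refine ⟨⟨t, htG⟩, ht, ?_, fun i a => ?_, fun i a => ?_⟩
  · refine sig_torus hp onSimple (t := ⟨t, htG⟩) ht (b := fun i => f (b i)) hpos fun i => ?_
    show f (b ((![2, 1, 3, 0] : Fin 4 → Fin 4) i)) = Φ (f (b i))
    rw [hΦ, hb]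
    fin_cases i
    · rfl
    · show f (c 0) = f (φ (c 0))
      rw [h1]
    · rfl
    · show f (c 1) = f (φ (φ (φ (c 1))))
      rw [h3]
  · show t * _ * t⁻¹ = _
    have hi : i = 0 ∨ i = 1 := by fin_cases i <;> simp
    rcases hi with rfl | rfl
    · exact conj_one hD4 f φ (e 1 14 (by decide +kernel) _ (by rw [hb]; rfl)) a
    · exact conj_three hD4 f φ (e 0 18 (by decide +kernel) _ (by rw [hb]; rfl))
        (e 2 13 (by decide +kernel) _ (by rw [hb]; rfl)) (e 3 12 (by decide +kernel) _ (by rw [hb]; rfl)) a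
  · show t * _ * t⁻¹ = _
    have hi : i = 0 ∨ i = 1 := by fin_cases i <;> simp
    rcases hi with rfl | rfl
    · exact conj_one hD4 f φ (e' 1 9 (by decide +kernel) _ (by rw [hb]; rfl)) a
    · exact conj_three hD4 f φ (e' 0 5 (by decide +kernel) _ (by rw [hb]; rfl))
        (e' 2 10 (by decide +kernel) _ (by rw [hb, map_inv₀]; rfl))
        (e' 3 11 (by decide +kernel) _ (by rw [hb, map_inv₀, map_inv₀]; rfl)) a

end Emb

/-! ### lifting -/

section Lift

variable {K : Type u} {L : Type v} [Field K] [Fintype K] [Field L] {q : ℕ} {φ : K →+* K} (hφ : ∀ x, φ x = x ^ q)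
  (hK : Fintype.card K = q ^ 3) {W : Type*} [Group W] (cs : CoxeterSystem CoxeterMatrix.G₂ W)
  (r : ℕ) [Fact r.Prime] [CharP K r] (f : K →+* L)

include hφ hK in
/-- `σ` is trivial on `³D₄(q)`. -/
theorem sig_em {Φ : L ≃+* L} (hΦ : ∀ a, Φ (f a) = f (φ a)) (g : ↥(twistedD4 K q)) :
    gr hD4 symmD4a (fld chevD4 Φ (em q f g)) = em q f g :=
  Subtype.ext (sig_glMap symmD4a hΦ (D4Fixed.twisted_le_fix hK hφ g.2))

include cs r in
/-- the field automorphism is unique -/
theorem dtau_unique {x : MulAut ↥(twistedD4 K q)} {a b : ↥(twistedD4 K q)} {τ τ' : K ≃+* K}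
    (S : DTau hφ hK (MulAut.conj a * x) τ) (S' : DTau hφ hK (MulAut.conj b * x) τ') : τ = τ' := by
  have : Finite W := finiteW cs
  have R := Cfsg.Agent.Nodes.RGDTwD4.rgd cs hK hφ r
  have hG1 : RGD.Sup (X φ q) {x | IsRoot cs isCartan x} = ⊤ := G1_eq_top cs hK hφ
  have hG := GG_eq_top (T := T K q) hG1
  have e : MulAut.conj a * x * (MulAut.conj b * x)⁻¹ = MulAut.conj (a * b⁻¹) := by
    rw [map_mul, map_inv, mul_inv_rev]
    group
  have D : Diag (T K q) (X φ q) (MulAut.conj (a * b⁻¹)) 1 := by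
    have := S.diag.mul S'.diag.inv
    rwa [e, inv_one, mul_one] at this
  have h1 := (dtau_conj hφ hK cs r (mem_T_of_diag R hG D)).mul hφ hK S'
  have h2 : MulAut.conj (a * b⁻¹) * (MulAut.conj b * x) = MulAut.conj a * x := by
    rw [map_mul, map_inv]
    group
  rw [h2, one_mul] at h1
  exact DTau.unique hφ hK S h1

/-- powers -/
theorem dtau_pow' {x : MulAut ↥(twistedD4 K q)} {a : ↥(twistedD4 K q)} {τ : K ≃+* K}
    (S : DTau hφ hK (MulAut.conj a * x) τ) (m : ℕ) : ∃ b, DTau hφ hK (MulAut.conj b * x ^ m) (τ ^ m) := by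
  obtain ⟨b, -, hb⟩ := conj_mul_pow (α := x) (H := ⊤) (fun _ => ⟨fun _ => trivial, fun _ => trivial⟩) (u := a)
    (Subgroup.mem_top a) m
  exact ⟨b, by rw [← hb]; exact dtau_pow hφ hK S m⟩

include cs r in
theorem tau_pow_eq_one {x : MulAut ↥(twistedD4 K q)} {a : ↥(twistedD4 K q)} {τ : K ≃+* K}
    (S : DTau hφ hK (MulAut.conj a * x) τ) {m : ℕ} (hx : x ^ m = 1) : τ ^ m = 1 := by
  obtain ⟨b, hb⟩ := dtau_pow' hφ hK S m
  rw [hx] at hb
  refine dtau_unique hφ hK cs r (x := 1) (b := 1) hb ?_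
  rw [map_one, one_mul]
  exact DTau.one hφ hK

include cs r in
/-- **Every automorphism of `³D₄(q)` is `conj y ∘ st τ`, `y ∈ D₄(L)^σ`.** -/
theorem exists_lift (hq1 : 1 < q) (hroot : ∀ a : K, ∃ b : L, b ^ 2 = f a)
    {Φ : L ≃+* L} (hΦ : ∀ a, Φ (f a) = f (φ a)) (x : MulAut ↥(twistedD4 K q)) :
    ∃ (a : ↥(twistedD4 K q)) (τ : K ≃+* K) (y : ↥(chevD4.group L)), DTau hφ hK (MulAut.conj a * x) τ ∧
      gr hD4 symmD4a (fld chevD4 Φ y) = y ∧ ∀ g, em q f (x g) = y * em q f (st q τ g) * y⁻¹ := by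
  have : Finite W := finiteW cs
  have R := Cfsg.Agent.Nodes.RGDTwD4.rgd cs hK hφ r
  have hG1 : RGD.Sup (X φ q) {x | IsRoot cs isCartan x} = ⊤ := G1_eq_top cs hK hφ
  have hG := GG_eq_top (T := T K q) hG1
  obtain ⟨a, s, D⟩ := exists_frame_any R hG x
  have hs1 : s = 1 := by
    apply perm_G2 s
    intro h3
    have h4 := Diag.card_eq D 0
    rw [h3] at h4
    exact card_ne hφ hK hq1 h4
  subst hs1
  obtain ⟨τ, S⟩ := exists_dtau hφ hK cs r D
  have N : NTau (T K q) (X φ q) (chD hφ hK) (MulAut.conj a * x * (st q τ)⁻¹) 1 := by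
    have := (ntau_of_dtau hφ hK S).mul (ntau_st hφ hK τ cs r).inv
    rwa [mul_inv_cancel] at this
  have hc : ∀ i, ∃ c : KD φ i, c ≠ 0 ∧ ∀ b, (MulAut.conj a * x * (st q τ)⁻¹) (PhiD hφ hK i (up b)) =
      PhiD hφ hK i (up (c * b)) := fun i => NTau.semi (coordD hφ hK) N i
  choose c hc0 hc using hc
  obtain ⟨t, htT, htσ, hpos, hneg⟩ := exists_tor f (phi_three hφ hK) hroot hΦ c hc0
  have hlo : ∀ (i : Fin 2) (b : KD φ i), t * em q f (PhiD hφ hK i (lo b)) * t⁻¹ =
      em q f (PhiD hφ hK i (lo ((c i)⁻¹ * b))) := by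
    intro i b
    apply Subtype.ext
    rw [Subgroup.coe_mul, Subgroup.coe_mul, Subgroup.coe_inv, coe_em, coe_em, coe_lo, coe_lo, hneg]
    rfl
  have key := ext_of_torus R hG1 N.diag (e := em q f) (em_injective f) (t := t)
    (fun s hs => by
      have h1 : em q f s ∈ TT chevD4 L := Cfsg.Agent.GpExc.Field.glMap_diagonal hp f hs.1
      rw [TorChev.TT_comm hp t htT _ h1, mul_inv_cancel_right])
    (fun i y hy => by
      obtain ⟨b, rfl⟩ := (mem_X hφ hK i y).1 hy
      rw [hc]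
      apply Subtype.ext
      rw [Subgroup.coe_mul, Subgroup.coe_mul, Subgroup.coe_inv, coe_em, coe_em, coe_up, coe_up, hpos]
      rfl)
    (fun i y hy => by
      obtain ⟨b, rfl⟩ := (mem_neg R (mem_X hφ hK) (PhiD_wS hφ hK) i y).1 hy
      exact ⟨_, (mem_neg R (mem_X hφ hK) (PhiD_wS hφ hK) i _).2 ⟨_, rfl⟩, hlo i b⟩)
    (fun i y hy => by
      obtain ⟨b, rfl⟩ := (mem_neg R (mem_X hφ hK) (PhiD_wS hφ hK) i y).1 hy
      refine ⟨PhiD hφ hK i (lo (c i * b)), (mem_neg R (mem_X hφ hK) (PhiD_wS hφ hK) i _).2 ⟨_, rfl⟩, ?_⟩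
      have h1 := hlo i (c i * b)
      rw [inv_mul_cancel_left₀ (hc0 i)] at h1
      rw [← h1]
      group)
  refine ⟨a, τ, (em q f a)⁻¹ * t, S, ?_, fun g => ?_⟩
  · rw [map_mul, map_mul, map_inv, map_inv, htσ, sig_em hφ hK f hΦ]
  · have h1 := key (st q τ g)
    have h2 : (MulAut.conj a * x * (st q τ)⁻¹) (st q τ g) = a * x g * a⁻¹ := by
      rw [MulAut.mul_apply, MulAut.mul_apply, MulAut.inv_apply_self, MulAut.conj_apply]
    rw [h2, map_mul, map_mul, map_inv] at h1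
    have h3 : em q f (x g) = (em q f a)⁻¹ * (em q f a * em q f (x g) * (em q f a)⁻¹) * em q f a := by group
    rw [h3, ← h1]
    group

end Lift

end Cfsg.Agent.BpExc.FamTw.Four

end

-- merged: Cfsg.Agent.BpExc.FamTwFourFam
section

/-!
# The automorphisms of prime order `p ≠ 3` of `³D₄(q)` inside `D₄(L)` (S1332-EXC (i2), helper66)

* `exists_long`, `eq_one_of_comm` : the centralizer of `³D₄(q)` in `D₄(L)` is trivial;
* `fr_gr` : the graph automorphism is a frame automorphism;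
* `fam` : the hypothesis `hfam` of `Asm.bps` for `ι = em q f`, `σ = gr * fld Φ`.
-/

set_option autoImplicit false
set_option linter.unusedSectionVars false
set_option maxHeartbeats 400000

namespace Cfsg.Agent.BpExc.FamTw.Four

open CoxeterSystem Cfsg.Agent.ChevalleyStructure.CoxeterGeom Cfsg.Agent.Tits.Roots Cfsg.Agent.Tits.Core
  Cfsg.Agent.Tits.Exchange Cfsg.Agent.Nodes.Reps Cfsg.Agent.Nodes.BNOf Cfsg.Agent.Nodes.StabComb
  Cfsg.Agent.Nodes.Bruhat Cfsg.Agent.Nodes.OppDec Cfsg.Agent.Nodes.RGDTwGen Cfsg.Agent.Nodes.RGDChev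
  Cfsg.Agent.Nodes.RGDFold Cfsg.Agent.Nodes.RGDFoldSL
open Cfsg.Agent.KFacts.RgdOpp Cfsg.Agent.KFacts.RgdAut Cfsg.Agent.KFacts.RgdDiag Cfsg.Agent.KFacts.RgdRigid
  Cfsg.Agent.KFacts.RgdField Cfsg.Agent.KFacts.RgdTau Cfsg.Agent.KFacts.RgdNodes
open Cfsg.Lie Cfsg.Agent.ChevalleyStructure Cfsg.Agent.ChevalleyStructure.Elts Cfsg.Agent.ChevStructure.FieldMap
open Cfsg.Agent.ChevalleyStructure.SL2Hom (up lo)
open Cfsg.Agent.ChevalleyStructure.SignedSymm
open Cfsg.Agent.KFacts.TwDFour.Out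
open Cfsg.Agent.Nodes.RGDTwD4 Cfsg.Agent.Nodes.RGDTwNode.D4
open Cfsg.Agent.ParSys.Fam.D4 (hf)
open Cfsg.Agent.ChevalleyStructure.GraphSymm (symmD4a)
open Cfsg.Agent.CpAut.RgdFix Cfsg.Agent.CpAut.RgdCoh Cfsg.Agent.CpAut.RgdConj Cfsg.Agent.CpAut.RgdSub
  Cfsg.Agent.CpAut.RgdTwStd Cfsg.Agent.CpAut.RgdTwD4
open Cfsg.Agent.CpAut.RgdUntw (fld fld_coe fld_mul fld_one fld_pow)
open Cfsg.Agent.GpExc.Field (glMap coe_glMap)
open Cfsg.Agent.BpExc.FamTw.Gr Cfsg.Agent.BpExc.FamField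
open Cfsg.Agent.KFacts.RgdChevCoord (TT XX xc coe_xc)
open Cfsg.Agent.BpExc.TowChev (LocFin coordsL)
open Cfsg.Agent.BpExc.LangFr (IsFrob frob_zero)
open Cfsg.Agent.BpExc.Fr (Fr)

universe u v w

/-! ### the graph automorphism is a frame automorphism -/

section FrGr

variable {D : ChevalleyDatum} {l : ℕ} {M : CoxeterMatrix (Fin l)} (hp : IsType D l M) {S : Symm D}
  {k : Type u} [Field k] {W : Type v} [Group W] (cs : CoxeterSystem M W)

theorem gr_isFrob (r : ℕ) [Fact r.Prime] [CharP k r] : IsFrob r 0 (gr (L := k) hp.inList S) :=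
  ⟨S.P k, fun g => by rw [frob_zero]; rfl⟩

variable {ρ : Fin l → Fin l} (H : OnSimple D l S ρ) {g : (Fin l → ℤ) ≃+ (Fin l → ℤ)}
  (hg : ∀ r : Fin D.nroots, g (vec D l r.val) = vec D l (S.σ r).val)

include H hg in
theorem fr_gr (hk : LocFin k) (r : ℕ) [Fact r.Prime] [CharP k r] {m : ℕ} (hm : gr (L := k) hp.inList S ^ (m + 1) = 1) :
    Fr cs hp.isCartan (TT D k) (XX D l k) (gr hp.inList S) g := by
  have C := coordsL hp cs hk r
  have hroot : ∀ a, IsRoot cs hp.isCartan a → IsRoot cs hp.isCartan (g a) := by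
    intro a ha
    obtain ⟨s, hs, rfl⟩ := (isRoot_iff hp cs a).1 ha
    have h1 := hg ⟨s, hs⟩
    rw [show g (vec D l s) = _ from h1]
    exact (isRoot_iff hp cs _).2 ⟨_, (S.σ ⟨s, hs⟩).2, rfl⟩
  have hroot' : ∀ a, IsRoot cs hp.isCartan (g a) → IsRoot cs hp.isCartan a := by
    intro a ha
    obtain ⟨s, hs, e⟩ := (isRoot_iff hp cs _).1 ha
    obtain ⟨r', hr'⟩ := S.σ.surjective ⟨s, hs⟩
    have h1 := hg r'
    rw [hr'] at h1
    have h2 : g (vec D l r'.val) = g a := by rw [h1, e]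
    rw [← g.injective h2]
    exact (isRoot_iff hp cs _).2 ⟨_, r'.2, rfl⟩
  have hX : ∀ a, IsRoot cs hp.isCartan a → ∀ y ∈ XX D l k a, gr hp.inList S y ∈ XX D l k (g a) := by
    intro a ha y hy
    obtain ⟨s, hs, rfl⟩ := (isRoot_iff hp cs a).1 ha
    obtain ⟨c, rfl⟩ := ((C.coord _ ha).mem y).1 hy
    have h1 := hg ⟨s, hs⟩
    rw [show g (vec D l s) = _ from h1]
    have ha' : IsRoot cs hp.isCartan (vec D l (S.σ ⟨s, hs⟩).val) :=
      (isRoot_iff hp cs _).2 ⟨_, (S.σ ⟨s, hs⟩).2, rfl⟩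
    refine ((C.coord _ ha').mem _).2 ⟨((S.ε ⟨s, hs⟩ : ℤ) : k) * c, ?_⟩
    apply Subtype.ext
    rw [coe_xc hp (S.σ ⟨s, hs⟩).2, coe_gr, coe_xc hp hs]
    exact (P_xG hp.inList S ⟨s, hs⟩ c).symm
  refine ⟨fun t => ⟨fun ht => ?_, fun ht => gr_TT hp H ht⟩, fun a => ⟨hroot' a, hroot a⟩, fun a ha y => ⟨fun hy => ?_,
    hX a ha y⟩⟩
  · have h1 : ∀ n : ℕ, (gr hp.inList S ^ n) (gr hp.inList S t) ∈ TT D k := by
      intro n
      induction n with
      | zero => exact ht
      | succ n ih => rw [pow_succ', MulAut.mul_apply]; exact gr_TT hp H ih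
    have h2 := h1 m
    rwa [← MulAut.mul_apply, ← pow_succ, hm] at h2
  · obtain ⟨s, hs, rfl⟩ := (isRoot_iff hp cs a).1 ha
    have h1 := hg ⟨s, hs⟩
    rw [show g (vec D l s) = _ from h1] at hy
    have ha' : IsRoot cs hp.isCartan (vec D l (S.σ ⟨s, hs⟩).val) :=
      (isRoot_iff hp cs _).2 ⟨_, (S.σ ⟨s, hs⟩).2, rfl⟩
    obtain ⟨c, hc⟩ := ((C.coord _ ha').mem _).1 hy
    have h2 : gr hp.inList S (xc hp (vec D l s) (((S.ε ⟨s, hs⟩ : ℤ) : k) * c)) = gr hp.inList S y := by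
      rw [← hc]
      apply Subtype.ext
      rw [coe_gr, coe_xc hp hs, coe_xc hp (S.σ ⟨s, hs⟩).2]
      have h3 := P_xG (L := k) hp.inList S ⟨s, hs⟩ (((S.ε ⟨s, hs⟩ : ℤ) : k) * c)
      rw [← mul_assoc, S.ε_sq', one_mul] at h3
      exact h3
    rw [← (gr hp.inList S).injective h2]
    exact ((C.coord _ ha).mem _).2 ⟨_, rfl⟩

end FrGr

/-- the lattice automorphism of the triality -/
def gD : (Fin 4 → ℤ) ≃+ (Fin 4 → ℤ) where
  toFun a := ![a 3, a 1, a 0, a 2]
  invFun a := ![a 2, a 1, a 3, a 0]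
  left_inv a := by
    funext i
    fin_cases i <;> rfl
  right_inv a := by
    funext i
    fin_cases i <;> rfl
  map_add' a b := by
    funext i
    fin_cases i <;> rfl

theorem gD_vec : ∀ r : Fin chevD4.nroots, gD (vec chevD4 4 r.val) = vec chevD4 4 (symmD4a.σ r).val := by
  decide +kernel

/-! ### the centralizer -/

section Long

variable {D : ChevalleyDatum} {l m : ℕ} {M' : CoxeterMatrix (Fin l)} {hp : IsType D l M'}
  {M : CoxeterMatrix (Fin m)} {A : Fin m → Fin m → ℤ}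
  {J : Fin m → List (Fin l)} {Ls : List (List ℕ)}
  {F : Type u} [Field F] [Finite F] {k : Type v} [Field k]
  {σ0 : GL D.Idx F →* GL D.Idx F} {ρ ρ' : ℕ → ℕ} {fF : ℕ → F → F} {G : Subgroup (GL D.Idx F)}

/-- A representative of the relative longest element. -/
theorem exists_long (FD : FoldData D M A J Ls) (FG : FoldGrp hp F J Ls σ0 ρ ρ' fF G) (f : F →+* k)
    (h : IsCartan M A) : ∃ g ∈ G, g ∈ D.monomialSubgroup F ∧
      ∀ v ∈ D.negUnipotent k, glMap D f g * v * (glMap D f g)⁻¹ ∈ D.posUnipotent k := by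
  have : Finite M.Group := finite_W (hp := hp) M.toCoxeterSystem h FD
  obtain ⟨w0, hw0⟩ := RGD.exists_inv_eq_pos (cs := M.toCoxeterSystem) (h := h)
  obtain ⟨ω, hω⟩ := M.toCoxeterSystem.wordProd_surjective w0⁻¹
  refine ⟨(ω.map fun i => nI hp F (J i)).prod, Subgroup.list_prod_mem _ fun g hg => ?_,
    Subgroup.list_prod_mem _ fun g hg => ?_, ?_⟩
  · obtain ⟨i, -, rfl⟩ := List.mem_map.1 hg
    exact FG.nG i
  · obtain ⟨i, -, rfl⟩ := List.mem_map.1 hg
    exact nI_mem hp F (J i)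
  · intro v hv
    have e : glMap D f (ω.map fun i => nI hp F (J i)).prod = (ω.map fun i => nI hp k (J i)).prod := by
      rw [map_list_prod, List.map_map]
      congr 1
      refine List.map_congr_left fun i _ => ?_
      exact EmbTw.glMap_nI i
    rw [e]
    have h1 : D.negUnipotent k ≤ (D.posUnipotent k).comap
        (MulAut.conj ((ω.map fun i => nI hp k (J i)).prod)).toMonoidHom := by
      rw [negUnipotent_le_iff hp.inList]
      intro r hr t
      obtain ⟨s, hs, hV, hcj⟩ := EmbTw.conj_wordProd h (hp := hp) (k := k) FD ω r hr.1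
      have h2 : (ω.map fun i => nI hp k (J i)).prod * xG hp.inList r t * ((ω.map fun i => nI hp k (J i)).prod)⁻¹ ∈
          D.rootSubgroup k s := by
        rw [← hcj, conj_mem_cj]
        exact xG_mem_rootSubgroup hp.inList r t
      obtain ⟨c, hc⟩ := (mem_rootSubgroup_iff hp.inList _ _).1 h2
      rw [Subgroup.mem_comap]
      show (ω.map fun i => nI hp k (J i)).prod * xG hp.inList r t * ((ω.map fun i => nI hp k (J i)).prod)⁻¹ ∈ _
      rw [hc]
      refine xG_mem_posUnipotent hp.inList ?_ c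
      have hneg : D.neg r ∈ Ls.flatten := by
        rcases FD.negL r hr.1 with h3 | h3
        · exfalso
          have h4 := (RootComb.good_of_mem hp.inList).isPosRoot_iff.1 (FD.isPos r h3)
          have h5 := (RootComb.good_of_mem hp.inList).isNegRoot_iff.1 hr
          omega
        · exact h3
      have hVneg : IsRoot M.toCoxeterSystem h (V D J (D.neg r)) ∧ 0 ≤ V D J (D.neg r) := by
        refine ⟨(FD.isRoot_iff hp.checked (fun i r hr => wp_lt hp (J i) hr) _).2 ⟨_, FD.ltL hneg, rfl⟩, ?_⟩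
        intro i
        exact (FD.posL _ (FD.ltL hneg)).1 hneg i
      have h6 : V D J (D.neg r) ∈ RGD.Inv M.toCoxeterSystem h w0 := by
        rw [hw0]; exact hVneg
      have h7 := h6.2.2
      rw [V_neg hp.checked hr.1, map_neg, neg_nonpos, ← hω, ← hV] at h7
      exact (EmbTw.pos_iff FD hp).2 ((FD.posL s hs).2 fun i => h7 i)
    exact h1 hv

end Long

section Cent

variable {K : Type u} {L : Type v} [Field K] [Fintype K] [Field L] {q : ℕ} {φ : K →+* K} (hφ : ∀ x, φ x = x ^ q)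
  (hK : Fintype.card K = q ^ 3) (f : K →+* L)

theorem pos4 : ∀ r ∈ [14, 18, 13, 12], chevD4.IsPosRoot r := by decide +kernel

theorem simple_cases : ∀ i < chevD4.rank, chevD4.simple i ∈ [14, 18, 13, 12] := by decide +kernel

include hφ hK in
/-- **The centralizer of `³D₄(q)` in `D₄(L)` is trivial.** -/
theorem eq_one_of_comm {z : ↥(chevD4.group L)} (hz : ∀ g : ↥(twistedD4 K q), z * em q f g = em q f g * z) : z = 1 := by
  obtain ⟨g0, hg0, hgm, hgl⟩ := exists_long (k := L) foldData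
    (Cfsg.Agent.Nodes.RGDTwD4.foldGrp hφ (D4Fixed.twisted_le_fix hK hφ)) f isCartan
  have hu0 : wordG hD4 [(14, (1 : K)), (18, 1), (13, 1), (12, 1)] ∈ twistedD4 K q := by
    have h1 : xG hD4 14 (1 : K) ∈ twistedD4 K q := single_mem (one_pow q) (by simp)
    have h2 : xG hD4 18 (1 : K) * (xG hD4 13 ((1 : K) ^ q) * xG hD4 12 ((1 : K) ^ (q ^ 2))) ∈ twistedD4 K q :=
      triple_mem (1 : K) (rs := (18, 13, 12)) (by simp)
    rw [one_pow, one_pow] at h2
    have h3 := mul_mem h1 h2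
    rw [wordG_cons, wordG_cons, wordG_cons, wordG_cons, wordG_nil, mul_one]
    exact h3
  have hc1 := congrArg Subtype.val (hz ⟨_, hu0⟩)
  have hc2 := congrArg Subtype.val (hz ⟨_, hg0⟩)
  rw [Subgroup.coe_mul, Subgroup.coe_mul, coe_em] at hc1 hc2
  apply Subtype.ext
  have hw : glMap chevD4 f (wordG hD4 [(14, (1 : K)), (18, 1), (13, 1), (12, 1)]) =
      wordG hD4 [(14, (1 : L)), (18, 1), (13, 1), (12, 1)] := by
    rw [Emb.glMap_wordG]
    simp only [List.map_cons, List.map_nil, map_one]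
  have hmem : ∀ x ∈ [(14, (1 : L)), (18, 1), (13, 1), (12, 1)], chevD4.IsPosRoot x.1 := by
    intro x hx
    refine pos4 _ ?_
    simp only [List.mem_cons, List.not_mem_nil, or_false] at hx
    rcases hx with rfl | rfl | rfl | rfl <;> simp
  refine Cent.eq_one_of_comm hp z.2 (u := wordG hD4 [(14, (1 : L)), (18, 1), (13, 1), (12, 1)])
    (n := glMap chevD4 f g0) ?_ ?_ ?_ (Emb.glMap_mono hD4 f hgm) hgl hc2
  · rw [wordG_cons, wordG_cons, wordG_cons, wordG_cons, wordG_nil, mul_one]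
    exact mul_mem (xG_mem_posUnipotent hD4 (pos4 14 (by simp)) _) (mul_mem (xG_mem_posUnipotent hD4 (pos4 18 (by simp)) _)
      (mul_mem (xG_mem_posUnipotent hD4 (pos4 13 (by simp)) _) (xG_mem_posUnipotent hD4 (pos4 12 (by simp)) _)))
  · intro i hi
    refine ⟨_, Cent.co_word hi _ hmem, ?_⟩
    have h1 := simple_cases i hi
    simp only [List.mem_cons, List.not_mem_nil, or_false] at h1
    rcases h1 with h1 | h1 | h1 | h1 <;> simp [h1]
  · rw [← hw]
    exact hc1

end Cent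

/-! ### the field automorphisms -/

section Field

variable {K : Type u} {L : Type v} [Field K] [Fintype K] [Field L] {q : ℕ} {φ : K →+* K} (hφ : ∀ x, φ x = x ^ q)
  (hK : Fintype.card K = q ^ 3) (f : K →+* L)

theorem st_mul (τ τ' : K ≃+* K) (g : ↥(twistedD4 K q)) : st q (τ * τ') g = st q τ (st q τ' g) := by
  apply Subtype.ext
  show glEquiv chevD4 (τ * τ') (g : GL chevD4.Idx K) = glEquiv chevD4 τ (glEquiv chevD4 τ' g)
  exact glE_mul τ τ' _

theorem st_one (g : ↥(twistedD4 K q)) : st q (1 : K ≃+* K) g = g :=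
  Subtype.ext (glE_one _)

theorem fld_em {τ : K ≃+* K} {τ' : L ≃+* L} (h : ∀ a, τ' (f a) = f (τ a)) (g : ↥(twistedD4 K q)) :
    fld chevD4 τ' (em q f g) = em q f (st q τ g) := by
  apply Subtype.ext
  apply Units.ext
  ext i j
  exact h _

include hφ hK in
/-- `gr` on `³D₄(q)` is the inverse of the Frobenius `a ↦ a ^ q` -/
theorem gr_em {Φ : L ≃+* L} {τ : K ≃+* K} (hΦ : ∀ a, Φ (f a) = f (φ a)) (hτ : ∀ a, φ (τ a) = a)
    (g : ↥(twistedD4 K q)) : gr hD4 symmD4a (em q f g) = em q f (st q τ g) := by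
  have h1 := sig_em hφ hK f hΦ (st q τ g)
  have h2 : fld chevD4 Φ (em q f (st q τ g)) = em q f g := by
    apply Subtype.ext
    apply Units.ext
    ext i j
    show Φ (f (τ _)) = f _
    rw [hΦ, hτ]
    rfl
  rw [h2] at h1
  exact h1

end Field

section Fam

variable {L : Type u} [Field L] [IsAlgClosed L] (hk : LocFin L) {K : Type u} [Field K] [Fintype K] {q : ℕ}
  (hq : IsPrimePow q) (hK : Fintype.card K = q ^ 3) (f : K →+* L)
  (r : ℕ) [Fact r.Prime] [CharP L r] [CharP K r] {W : Type v} [Group W] (cs : CoxeterSystem coxeterD4 W)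

include hk hq hK r in
/-- **(i2) for `³D₄(q)`, `p ≠ 3`**: the hypothesis `hfam` of `Asm.bps`. -/
theorem fam {Φ : L ≃+* L} (hΦ : ∀ a, Φ a = a ^ q) {p : ℕ} (hpp : p.Prime) (hp3 : p ≠ 3)
    (x : MulAut ↥(twistedD4 K q)) (hx : orderOf x = p) :
    (∃ y : ↥(chevD4.group L), y ^ p = 1 ∧ (gr hD4 symmD4a * fld chevD4 Φ : MulAut ↥(chevD4.group L)) y = y ∧
      ∀ a, em q f (x a) = y * em q f a * y⁻¹) ∨
    ∃ (i : ℕ) (c : ↥(chevD4.group L)) (φ' : MulAut ↥(chevD4.group L)) (g' : (Fin 4 → ℤ) ≃+ (Fin 4 → ℤ)) (e' : ℕ),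
      i.Coprime p ∧ 0 < e' ∧ IsFrob r e' φ' ∧ Fr cs hp.isCartan (TT chevD4 L) (XX chevD4 4 L) φ' g' ∧
      fixedSubgroup (MulAut.conj c * φ') ≤ fixedSubgroup (gr hD4 symmD4a * fld chevD4 Φ) ∧
      ∀ a, em q f ((x ^ i) a) = (MulAut.conj c * φ') (em q f a) := by
  obtain ⟨φ, hφ⟩ := D4Fixed.exists_frob hq hK
  obtain ⟨cs', -⟩ : ∃ cs : CoxeterSystem CoxeterMatrix.G₂ CoxeterMatrix.G₂.Group, cs = cs :=
    ⟨CoxeterMatrix.G₂.toCoxeterSystem, rfl⟩
  have hroot : ∀ a : K, ∃ b : L, b ^ 2 = f a := fun a => IsAlgClosed.exists_pow_nat_eq (f a) two_pos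
  have hΦf : ∀ a, Φ (f a) = f (φ a) := fun a => by rw [hΦ, hφ, map_pow]
  have hxp : x ^ p = 1 := by rw [← hx, pow_orderOf_eq_one]
  obtain ⟨a, τ, y, S, hy, hxy⟩ := exists_lift hφ hK cs' r f hq.one_lt hroot hΦf x
  have hτp := tau_pow_eq_one hφ hK cs' r S hxp
  have hcent : ∀ c, (gr hD4 symmD4a * fld chevD4 Φ : MulAut ↥(chevD4.group L)) c = c → (∀ g, c * em q f g = em q f g * c) → c = 1 :=
    fun c _ hc => eq_one_of_comm hφ hK f hc
  by_cases hτ1 : τ = 1
  · left
    subst hτ1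
    have hxy' : ∀ g, em q f (x g) = y * em q f g * y⁻¹ := fun g => by rw [hxy, st_one]
    refine ⟨y, ?_, hy, hxy'⟩
    have h1 := pow_eq (σ := gr hD4 symmD4a * fld chevD4 Φ) (ψ := 1) (e := em q f) (fun z => rfl) hcent hxp
      (fun g => by rw [one_pow]; rfl) hy hxy'
    rw [mul_one, one_pow, ← map_pow] at h1
    refine hcent _ ?_ fun g => ?_
    · rw [map_pow]
      exact congrArg (· ^ p) hy
    · have h2 := congrArg (fun α : MulAut ↥(chevD4.group L) => α (em q f g)) h1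
      have h3 : y ^ p * em q f g * (y ^ p)⁻¹ = em q f g := h2
      rwa [mul_inv_eq_iff_eq_mul] at h3
  · right
    have hr : r.Prime := Fact.out
    obtain ⟨i, e, hi, he0, hcard, hfr⟩ := exists_field r hpp hτp hτ1
    -- `q = r ^ a₁`
    obtain ⟨a₁, -, hqa⟩ : ∃ a₁ ≤ e * p, q = r ^ a₁ := by
      refine (Nat.dvd_prime_pow hr).1 ?_
      rw [← hcard, Nat.card_eq_fintype_card, hK]
      exact dvd_pow_self q (by norm_num)
    have h3a : a₁ * 3 = e * p := by
      rw [Nat.card_eq_fintype_card, hK, hqa, ← pow_mul] at hcard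
      exact Nat.pow_right_injective hr.two_le hcard
    have hpa : p ∣ a₁ := by
      have h1 : p ∣ a₁ * 3 := ⟨e, by rw [h3a, mul_comm]⟩
      rcases (Nat.Prime.dvd_mul hpp).1 h1 with h2 | h2
      · exact h2
      · exact absurd ((Nat.prime_dvd_prime_iff_eq hpp Nat.prime_three).1 h2) hp3
    obtain ⟨a₀, rfl⟩ := hpa
    have hea : e = 3 * a₀ := by
      have h1 : p * (3 * a₀) = p * e := by rw [mul_comm p e, ← h3a]; ring
      exact (Nat.eq_of_mul_eq_mul_left hpp.pos h1).symm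
    subst hea
    have ha0 : 0 < a₀ := by
      rcases Nat.eq_zero_or_pos a₀ with h0 | h0
      · rw [h0] at he0
        exact absurd he0 (by norm_num)
      · exact h0
    -- `j p = 1 mod 3`
    obtain ⟨j, t, hjt⟩ : ∃ j t : ℕ, j * p = 3 * t + 1 := by
      have h0 : p % 3 ≠ 0 := fun h => hp3 ((Nat.prime_dvd_prime_iff_eq Nat.prime_three hpp).1
        (Nat.dvd_of_mod_eq_zero h)).symm
      have hdm := Nat.div_add_mod p 3
      have hmod : p % 3 = 1 ∨ p % 3 = 2 := by omega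
      rcases hmod with hm | hm
      · exact ⟨1, p / 3, by omega⟩
      · exact ⟨2, 2 * (p / 3) + 1, by omega⟩
    obtain ⟨s, hs⟩ : ∃ s : ℕ, s = 2 * t + 1 := ⟨_, rfl⟩
    have hs3 : 3 * s = 1 + 2 * (j * p) := by rw [hjt, hs]; ring
    have hsp : s.Coprime p := by
      refine ((Nat.Prime.coprime_iff_not_dvd hpp).2 fun h1 => ?_).symm
      have h2 : p ∣ 1 + 2 * (j * p) := by rw [← hs3]; exact h1.mul_left 3
      have h3 : p ∣ 2 * (j * p) := ⟨2 * j, by ring⟩
      exact hpp.one_lt.ne' (Nat.dvd_one.1 ((Nat.dvd_add_left h3).1 h2))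
    have hperfL : PerfectRing L r := inferInstance
    have hperfK : PerfectRing K r := inferInstance
    obtain ⟨φ₀, hφ₀⟩ : ∃ φ₀ : MulAut ↥(chevD4.group L), φ₀ = gr hD4 symmD4a ^ j * fld chevD4 (frb L r a₀) := ⟨_, rfl⟩
    have hΦe : Φ = frb L r a₀ ^ p := by
      ext b
      rw [frb_pow, frb_apply, hΦ, hqa, mul_comm]
    have hcomm : Commute (gr (L := L) hD4 symmD4a) (fld chevD4 (frb L r a₀)) := gr_mul_fld hD4 symmD4a _
    have hpow : φ₀ ^ p = gr hD4 symmD4a * fld chevD4 Φ := by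
      rw [hφ₀, (hcomm.pow_left j).mul_pow, ← pow_mul, hjt, pow_succ, pow_mul, gr_cube_D4, one_pow, one_mul, ← fld_pow,
        ← hΦe]
    -- the action of `φ₀`
    have hψ : ∀ b : K, φ (frb K r (2 * (p * a₀)) b) = b := by
      intro b
      rw [hφ, frb_apply, hqa, ← pow_mul, ← pow_add]
      have h1 : 2 * (p * a₀) + p * a₀ = p * a₀ * 3 := by ring
      rw [h1, pow_mul, ← hqa, ← hK]
      exact FiniteField.pow_card b
    have hgr : ∀ (n : ℕ) (g : ↥(twistedD4 K q)),
        (gr hD4 symmD4a ^ n) (em q f g) = em q f (st q (frb K r (2 * (p * a₀)) ^ n) g) := by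
      intro n
      induction n with
      | zero => intro g; rw [pow_zero, pow_zero, st_one]; rfl
      | succ n ih =>
        intro g
        rw [pow_succ, MulAut.mul_apply, gr_em hφ hK f hΦf hψ, ih, pow_succ, st_mul]
    have hτs : frb K r (2 * (p * a₀)) ^ j * frb K r a₀ = τ ^ (i * s) := by
      apply RingEquiv.ext
      intro b
      rw [pow_mul, pow_apply_of hfr, frb_pow, RingAut.mul_apply, frb_apply, frb_apply, ← pow_mul, ← pow_add]
      congr 2
      have h1 : 3 * a₀ * s = (3 * s) * a₀ := by ring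
      rw [h1, hs3]
      ring
    have hact : ∀ g : ↥(twistedD4 K q), φ₀ (em q f g) = em q f (st q (τ ^ (i * s)) g) := by
      intro g
      rw [hφ₀, MulAut.mul_apply, fld_em f (τ := frb K r a₀) (fun b => by rw [frb_apply, frb_apply, map_pow]), hgr,
        ← st_mul, hτs]
    obtain ⟨a', τ', y', S', hy', hxy'⟩ := exists_lift hφ hK cs' r f hq.one_lt hroot hΦf (x ^ (i * s))
    obtain ⟨b, hb⟩ := dtau_pow' hφ hK S (i * s)
    have hττ : τ' = τ ^ (i * s) := dtau_unique hφ hK cs' r S' hb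
    subst hττ
    have hxy'' : ∀ g, em q f ((x ^ (i * s)) g) = y' * φ₀ (em q f g) * y'⁻¹ := fun g => by rw [hxy', hact]
    have h1 : (MulAut.conj y' * φ₀) ^ p = φ₀ ^ p := by
      refine pow_eq (σ := gr hD4 symmD4a * fld chevD4 Φ) (ψ := φ₀) (e := em q f) (fun z => ?_) hcent
        (x := x ^ (i * s)) ?_ (fun g => ?_) hy' hxy''
      · rw [← hpow, ← MulAut.mul_apply, ← MulAut.mul_apply, ← pow_succ, ← pow_succ']
      · rw [← pow_mul, mul_comm, pow_mul, hxp, one_pow]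
      · rw [hpow]
        exact sig_em hφ hK f hΦf g
    obtain ⟨g1, hg1, -⟩ := (fr_gr hp cs onSimple gD_vec hk r (m := 2) gr_cube_D4).pow j
    refine ⟨i * s, y', φ₀, (AddEquiv.refl _).trans g1, a₀, ?_, ha0, ?_, ?_, ?_, hxy''⟩
    · exact Nat.Coprime.mul_left hi hsp
    · rw [hφ₀]
      have h2 := ((gr_isFrob (S := symmD4a) (k := L) hp r).pow j).mul
        (FamInst.phi_isFrob (D := chevD4) (k := L) r a₀)
      rwa [mul_zero, zero_add] at h2
    · rw [hφ₀]
      exact hg1.mul (FamInst.fr_fld hp cs hk r _)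
    · intro z hz
      have h2 := Glue.mem_fixed_pow (Glue.mem_fixed.1 hz) p
      rw [h1, hpow] at h2
      exact h2

end Fam

end Cfsg.Agent.BpExc.FamTw.Four

end

-- merged: Cfsg.Agent.BpExc.FamTwFourEnd
section

/-!
# (i2) for `³D₄(q)`, in the notation of `FamTwFr` (`sig4 k r 1 n`)

* `fam4` : the hypothesis `hfam` of `Asm.bps` / `AsmN.ns` for `ι = em q f`, `σ = sig4 k r 1 n`, `q = r ^ n`, `p ≠ 3`;
* `em_fix` : `σ (em a) = em a`; `sig4_coe` : `σ g` is `D4Fixed.sig φ g`.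
-/

set_option autoImplicit false
set_option linter.unusedSectionVars false

namespace Cfsg.Agent.BpExc.FamTw.Four

open CoxeterSystem Cfsg.Lie Cfsg.Agent.ChevalleyStructure Cfsg.Agent.ChevalleyStructure.Elts
open Cfsg.Agent.ChevalleyStructure.GraphSymm (symmD4a)
open Cfsg.Agent.ChevalleyStructure.SignedSymm
open Cfsg.Agent.Nodes.RGDTwD4 Cfsg.Agent.Nodes.RGDChev
open Cfsg.Agent.CpAut.RgdTwD4 (hD4)
open Cfsg.Agent.CpAut.RgdUntw (fld)
open Cfsg.Agent.BpExc.FamTw.Gr Cfsg.Agent.BpExc.FamField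
open Cfsg.Agent.BpExc.FamTw.Frame (sig4)
open Cfsg.Agent.KFacts.RgdChevCoord (TT XX)
open Cfsg.Agent.BpExc.TowChev (LocFin)
open Cfsg.Agent.BpExc.LangFr (IsFrob)
open Cfsg.Agent.BpExc.Fr (Fr)

universe u v

variable {k : Type u} [Field k] [IsAlgClosed k] (hk : LocFin k) {K : Type u} [Field K] [Fintype K] {q : ℕ}
  (f : K →+* k) (r : ℕ) [Fact r.Prime] [CharP k r] [CharP K r] {W : Type v} [Group W]
  (cs : CoxeterSystem coxeterD4 W)

theorem sig4_one (n : ℕ) : sig4 k r 1 n = gr hD4 symmD4a * fld chevD4 (frb k r n) := by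
  show gr hD4 symmD4a ^ 1 * fld chevD4 (frb k r n) = _
  rw [pow_one]

theorem sig4_coe (n : ℕ) {φ : k →+* k} (hφ : ∀ a, φ a = a ^ r ^ n) (g : ↥(chevD4.group k)) :
    ((sig4 k r 1 n g : ↥(chevD4.group k)) : GL chevD4.Idx k) = D4Fixed.sig φ (g : GL chevD4.Idx k) := by
  rw [sig4_one]
  have e : φ = (frb k r n : k →+* k) := by
    ext a
    rw [hφ]
    exact (frb_apply k r n a).symm
  subst e
  rfl

include hk in
/-- **(i2) for `³D₄(q)`, `p ≠ 3`.** -/
theorem fam4 {n : ℕ} (hn0 : 0 < n) (hn : q = r ^ n) (hK : Fintype.card K = q ^ 3) {p : ℕ} (hpp : p.Prime)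
    (hp3 : p ≠ 3) (x : MulAut ↥(twistedD4 K q)) (hx : orderOf x = p) :
    (∃ y : ↥(chevD4.group k), y ^ p = 1 ∧ sig4 k r 1 n y = y ∧ ∀ a, em q f (x a) = y * em q f a * y⁻¹) ∨
    ∃ (i : ℕ) (c : ↥(chevD4.group k)) (φ' : MulAut ↥(chevD4.group k)) (g' : (Fin 4 → ℤ) ≃+ (Fin 4 → ℤ)) (e' : ℕ),
      i.Coprime p ∧ 0 < e' ∧ IsFrob r e' φ' ∧ Fr cs hp.isCartan (TT chevD4 k) (XX chevD4 4 k) φ' g' ∧
      fixedSubgroup (MulAut.conj c * φ') ≤ fixedSubgroup (sig4 k r 1 n) ∧
      ∀ a, em q f ((x ^ i) a) = (MulAut.conj c * φ') (em q f a) := by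
  have hrp : r.Prime := Fact.out
  have hq : IsPrimePow q := (isPrimePow_nat_iff _).2 ⟨r, n, hrp, hn0, hn.symm⟩
  rw [sig4_one]
  exact fam hk hq hK f r cs (Φ := frb k r n) (fun a => by rw [frb_apply, hn]) hpp hp3 x hx

theorem em_fix {n : ℕ} (hn0 : 0 < n) (hn : q = r ^ n) (hK : Fintype.card K = q ^ 3) (a : ↥(twistedD4 K q)) :
    sig4 k r 1 n (em q f a) = em q f a := by
  have hrp : r.Prime := Fact.out
  have hq : IsPrimePow q := (isPrimePow_nat_iff _).2 ⟨r, n, hrp, hn0, hn.symm⟩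
  obtain ⟨φ, hφ⟩ := D4Fixed.exists_frob hq hK
  rw [sig4_one]
  exact sig_em hφ hK f (Φ := frb k r n) (fun a => by rw [frb_apply, hφ, map_pow, hn]) a

end Cfsg.Agent.BpExc.FamTw.Four

end

-- merged: Cfsg.Agent.BpTri.NodeLine
section

/-!
# Panels over a field (S1332)

`isLine_fam` : the family of the root groups on a panel of a node parametrised by the field `F` is the family of the
root groups of the projective line over `F`; `card_pan` : such a panel has `|F| + 1` chambers.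
-/

set_option autoImplicit false

namespace Cfsg.Agent.BpTri

open Cfsg.Agent.FixBN Cfsg Cfsg.Agent.LieExceptional.BNPairCore Cfsg.Agent.Tits.Core Cfsg.Agent.Tits.Core.Bldg
  Cfsg.Agent.Tits.OfBN Cfsg.Agent.Schreier.BNSch Cfsg.Agent.FixBN.OfBN Cfsg.Agent.FixBN.FieldNode

theorem isLine_of_model {G C : Type*} [Group G] [MulAction G C] {F : Type*} [Field F] (U : C → Subgroup G)
    (hU : ∀ (g : G) (x : C), ∀ u ∈ U x, g * u * g⁻¹ ∈ U (g • x)) {Q : Set C} (φ : Option F ≃ Q) (xx : F → G) (s : G)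
    (hx : ∀ a z, xx a • (φ z : C) = φ (tr a z)) (hs : ∀ z, s • (φ z : C) = φ (ni z))
    (hxU : ∀ a, xx a ∈ U (φ none)) (hUx : ∀ u ∈ U (φ none), ∃ a, ∀ z, u • (φ z : C) = φ (tr a z))
    {fam : Q → Subgroup (Equiv.Perm Q)}
    (hfam : ∀ y g, g ∈ fam y ↔ ∃ u ∈ U y, ∀ z, (g z : C) = u • (z : C)) : IsLine F fam := by
  refine ⟨φ, ?_⟩
  -- the element of `G` acting as `toPt y`
  have hk : ∀ y : Option F, ∃ k : G, ∀ z, k • (φ z : C) = φ (toPt y z) := by
    rintro (_ | t)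
    · exact ⟨1, fun z => by rw [one_smul]; rfl⟩
    · refine ⟨xx t * s, fun z => ?_⟩
      rw [mul_smul, hs, hx]
      rfl
  intro y g
  obtain ⟨k, hk⟩ := hk y
  have hky : k • (φ none : C) = φ y := by rw [hk, toPt_apply]
  have hk' : ∀ z, k⁻¹ • (φ z : C) = φ ((toPt y)⁻¹ z) := by
    intro z
    rw [inv_smul_eq_iff, hk]
    congr 2
    exact ((toPt y).apply_symm_apply z).symm
  rw [hfam, mem_lineFam]
  constructor
  · rintro ⟨a, rfl⟩
    refine ⟨k * xx a * k⁻¹, ?_, ?_⟩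
    · rw [← hky]
      exact hU k _ _ (hxU a)
    · intro z
      obtain ⟨z, rfl⟩ := φ.surjective z
      rw [mul_smul, mul_smul, hk', hx, hk]
      congr 1
      show φ ((toPt y * tr a * (toPt y)⁻¹) (φ.symm (φ z))) = _
      rw [φ.symm_apply_apply]
      rfl
  · rintro ⟨u, hu, h⟩
    have hv : k⁻¹ * u * k ∈ U (φ none) := by
      have h1 := hU k⁻¹ _ u hu
      rwa [inv_inv, ← hky, inv_smul_smul] at h1
    obtain ⟨a, ha⟩ := hUx _ hv
    refine ⟨a, ?_⟩
    apply Equiv.ext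
    intro z
    apply φ.injective
    apply Subtype.ext
    have h1 := h (φ z)
    have h2 : φ.permCongr g (φ z) = φ (g z) := by
      show φ (g (φ.symm (φ z))) = _
      rw [φ.symm_apply_apply]
    rw [h2] at h1
    rw [h1]
    have h3 : u = k * (k⁻¹ * u * k) * k⁻¹ := by group
    rw [h3, mul_smul, mul_smul, hk', ha, hk]
    rfl

section Node

variable {K : Type*} [Group K] {P : Cfsg.BNPair K} {U V : Subgroup K} {F : Type*} [Field F]
  [hN : ((P.B ⊓ P.N).subgroupOf P.N).Normal] {p : ℕ} (S : Split P p U)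
  {I : Type*} {M : CoxeterMatrix I} (e : I ≃ P.S) (cs : CoxeterSystem M (WP P))
  (hcs : ∀ i, cs.simple i = QuotientGroup.mk (⟨(e i : K), P.subset (e i).2⟩ : P.N)) (i : I)

include S in
theorem isLine_mk (Nd : Node P U (e i : K) V) (N : FieldNode P U (e i : K) V F) (g : K)
    {fam : (bldg P e cs hcs).Pan i (QuotientGroup.mk g) →
      Subgroup (Equiv.Perm ((bldg P e cs hcs).Pan i (QuotientGroup.mk g)))}
    (hfam : ∀ y f, f ∈ fam y ↔ ∃ u ∈ UU P U (y : K ⧸ P.B), ∀ z, (f z : K ⧸ P.B) = u • (z : K ⧸ P.B)) :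
    IsLine F fam := by
  have hBx : ∀ a, N.x a ∈ P.B := fun a => S.le (N.mem a)
  -- the action of `V`
  have hV : ∀ v ∈ V, ∀ a : F, (QuotientGroup.mk (g * v * N.x a * (e i : K)) : K ⧸ P.B) =
      QuotientGroup.mk (g * N.x a * (e i : K)) := by
    intro v hv a
    rw [mk_eq]
    have h1 : (g * v * N.x a * (e i : K))⁻¹ * (g * N.x a * (e i : K)) =
        ((e i : K)⁻¹ * ((N.x a)⁻¹ * v * (N.x a)⁻¹⁻¹) * (e i : K))⁻¹ := by group
    rw [h1]
    exact inv_mem (S.le (Nd.le (Nd.conj_s _ (Nd.conj_B _ (inv_mem (hBx a)) _ hv))))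
  have hxact : ∀ a z, (g * N.x a * g⁻¹) • (par e cs hcs i S Nd N g z : K ⧸ P.B) =
      par e cs hcs i S Nd N g (tr a z) := by
    rintro a (_ | t)
    · rw [tr_none, par_none, smul_mk, mk_eq]
      have h1 : (g * N.x a * g⁻¹ * g)⁻¹ * g = (N.x a)⁻¹ := by group
      rw [h1]
      exact inv_mem (hBx a)
    · rw [tr_some, par_some, par_some, smul_mk, add_comm t a, N.add]
      congr 1
      group
  refine isLine_of_model (UU P U) (fun g x u hu => (smul_UU S).2 hu) (par e cs hcs i S Nd N g)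
    (fun a => g * N.x a * g⁻¹) (g * (e i : K) * g⁻¹) hxact ?_ ?_ ?_ hfam
  · rintro (_ | t)
    · rw [ni_none, par_none, par_some, smul_mk, N.x_zero]
      congr 1
      group
    · by_cases ht : t = 0
      · subst ht
        rw [ni_zero, par_none, par_some, smul_mk, mk_eq, N.x_zero]
        have h1 : (g * (e i : K) * g⁻¹ * (g * 1 * (e i : K)))⁻¹ * g = ((e i : K) * (e i : K))⁻¹ := by group
        rw [h1]
        exact inv_mem (P.sq_mem _ (e i).2)
      · rw [ni_some ht, par_some, par_some, smul_mk, mk_eq]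
        have h1 : (g * (e i : K) * g⁻¹ * (g * N.x t * (e i : K)))⁻¹ * (g * N.x (-t⁻¹) * (e i : K)) =
            ((N.x (-t⁻¹) * (e i : K))⁻¹ * ((e i : K) * N.x t * (e i : K)))⁻¹ := by group
        rw [h1]
        exact inv_mem (N.inv t ht)
  · intro a
    rw [par_none, mem_UU S]
    have h1 : g⁻¹ * (g * N.x a * g⁻¹) * g = N.x a := by group
    rw [h1]
    exact N.mem a
  · intro u hu
    rw [par_none, mem_UU S] at hu
    obtain ⟨a, ha⟩ := N.cover _ hu
    refine ⟨a, fun z => ?_⟩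
    have h1 : u = (g * N.x a * g⁻¹) * (g * ((N.x a)⁻¹ * (g⁻¹ * u * g)) * g⁻¹) := by group
    have h2 : (g * ((N.x a)⁻¹ * (g⁻¹ * u * g)) * g⁻¹) • (par e cs hcs i S Nd N g z : K ⧸ P.B) =
        par e cs hcs i S Nd N g z := by
      rcases z with _ | t
      · rw [par_none, smul_mk_eq]
        have h3 : g⁻¹ * (g * ((N.x a)⁻¹ * (g⁻¹ * u * g)) * g⁻¹) * g = (N.x a)⁻¹ * (g⁻¹ * u * g) := by group
        rw [h3]
        exact S.le (Nd.le ha)
      · rw [par_some, smul_mk]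
        have h3 : g * ((N.x a)⁻¹ * (g⁻¹ * u * g)) * g⁻¹ * (g * N.x t * (e i : K)) =
            g * ((N.x a)⁻¹ * (g⁻¹ * u * g)) * N.x t * (e i : K) := by group
        rw [h3]
        exact hV _ ha t
    rw [h1, mul_smul, h2, hxact]

include S in
/-- **The root groups on a panel of a node over a field.** -/
theorem isLine_fam (Nd : Node P U (e i : K) V) (N : FieldNode P U (e i : K) V F)
    (x : K ⧸ P.B) {fam : (bldg P e cs hcs).Pan i x → Subgroup (Equiv.Perm ((bldg P e cs hcs).Pan i x))}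
    (hfam : ∀ y f, f ∈ fam y ↔ ∃ u ∈ UU P U (y : K ⧸ P.B), ∀ z, (f z : K ⧸ P.B) = u • (z : K ⧸ P.B)) :
    IsLine F fam := by
  induction x using QuotientGroup.induction_on with
  | _ g => exact isLine_mk S e cs hcs i Nd N g hfam

include S in
/-- The panels of a node over `F` have `|F| + 1` chambers. -/
theorem card_pan [Finite F] (Nd : Node P U (e i : K) V) (N : FieldNode P U (e i : K) V F) (x : K ⧸ P.B) :
    Nat.card ((bldg P e cs hcs).Pan i x) = Nat.card F + 1 := by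
  induction x using QuotientGroup.induction_on with
  | _ g => rw [← Nat.card_congr (par e cs hcs i S Nd N g), Finite.card_option]

end Node

end Cfsg.Agent.BpTri

end

-- merged: Cfsg.Agent.BpHecke.RGDTwo
section

/-!
# Automorphisms of order three of groups with a root group datum of rank two (S1332)

`bps_of_rgd` : `Y` with a root group datum of type `{a, b}`, `4 ≤ M a b ≤ 8`, characteristic `p ≠ 3`, whose rank one
groups are images of `SL(2, F)`, `2 ≠ 0` in `F`, with trivial `core B` and solvable torus: then `Good 3 (C_Y(x))` for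
every automorphism `x` of order `3`.
-/

set_option autoImplicit false
set_option linter.unusedSectionVars false

open scoped Pointwise MatrixGroups

namespace Cfsg.Agent.BpHecke.RGDTwo

open CoxeterSystem Cfsg.Agent.ChevalleyStructure.CoxeterGeom Cfsg.Agent.Tits.Roots Cfsg.Agent.Tits.Core
  Cfsg.Agent.Tits.RootComb Cfsg.Agent.Nodes.Comb Cfsg.Agent.Nodes.Reps Cfsg.Agent.Nodes.BNOf Cfsg.Agent.Nodes.BNOf.RGD
  Cfsg.Agent.Schreier.BNSch Cfsg.Agent.FixBN Cfsg.Agent.FixBN.FieldRGD Cfsg.Agent.Tits.OfBN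
  Cfsg.Agent.OddHalf.Table.AutRGD Cfsg.Agent.BpTri Cfsg.Agent.BpTab Cfsg.Agent.Schreier.Basic

variable {I W Y : Type*} [Fintype I] [DecidableEq I] [Group W] [Group Y] {M : CoxeterMatrix I}
  {cs : CoxeterSystem M W} {A : I → I → ℤ} {h : IsCartan M A} {p : ℕ} {T : Subgroup Y} {n : I → Y}
  {X : (I → ℤ) → Subgroup Y} [Finite W]

theorem fieldNode_of_sl (R : RGD cs h p T n X) (hgen : RGD.B cs h T X ⊔ NN cs R.nsys = ⊤) {i : I}
    (H : SLNode cs h T n X i) : ∃ (F : Type) (_ : Field F) (_ : Finite F), (2 : F) ≠ 0 ∧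
      Nonempty (FieldNode (R.bnPair hgen) (Sup X (Pos cs h)) (n i) (Sup X (PosNe cs h i)) F) := by
  obtain ⟨F, _, _, φ, b, hb, h2, hr, hi, hd, hw⟩ := H
  refine ⟨F, inferInstance, inferInstance, h2, ⟨?_⟩⟩
  refine fieldNode_of_rgd R hgen i (fun a => φ (uu (b * a))) (fun a c => ?_) (fun y => ?_) (fun a ha => ?_)
    (fun a ha => ?_)
  · rw [mul_add, uu_add, map_mul]
  · rw [hr]
    constructor
    · rintro ⟨a, rfl⟩
      exact ⟨b⁻¹ * a, by rw [mul_inv_cancel_left₀ hb]⟩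
    · rintro ⟨a, rfl⟩
      exact ⟨_, rfl⟩
  · exact (mul_eq_zero.1 (hi _ ha)).resolve_left hb
  · show (φ (uu (b * -a⁻¹)) * n i)⁻¹ * (n i * φ (uu (b * a)) * n i) ∈ _
    rw [← hw, ← map_mul, ← map_mul, ← map_mul, ← map_inv, ← map_mul, inv_key ha hb, map_mul]
    exact mul_mem (hd _ _) (U_le_B (mem_U ((hr _).2 ⟨_, rfl⟩)))

/-- **Root group data of rank two, automorphisms of order three.** -/
theorem bps_of_rgd [Finite Y] [Fact p.Prime] (R : RGD cs h p T n X)
    (hgen : RGD.B cs h T X ⊔ NN cs R.nsys = ⊤) (hcore : (RGD.B cs h T X).normalCore = ⊥) (hT : Group.IsSolvable T)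
    (hnode : ∀ i, SLNode cs h T n X i) {a b : I} (hI : ∀ i, i = a ∨ i = b) (hab : a ≠ b) (hM : 4 ≤ M a b)
    (hM8 : M a b ≤ 8) (hp3 : 3 ≠ p)
    (hS : ∀ x : MulAut Y, ∀ J : Subgroup ↥(Cfsg.fixedSubgroup x), IsComponent J → Sch (↥J ⧸ Subgroup.center ↥J)) :
    BpS 3 Y := by
  intro x hx
  obtain ⟨hN, cs', hcs, hW, S⟩ := exists_setup R hgen hcore
  obtain ⟨t, ht, hθ⟩ := FixOdd.exists_tw S (eS R hgen) cs' hcs x
  have hx3 : x ^ 3 = 1 := by rw [← hx]; exact pow_orderOf_eq_one x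
  have e : t.cent = Cfsg.fixedSubgroup x := by
    ext g
    rw [t.mem_cent, ht]
    exact Iff.rfl
  have h1 := RankTwo.good (t := t) (FixBN.OfBN.sys (eS R hgen) cs' hcs S) (thick _ (eS R hgen) cs' hcs) hI hab hM hM8
    hp3 ⟨by rw [ht]; exact hx3, hθ 3 hx3⟩ (fun z => isSolvable_stabilizer (isSolvable_B R hT) z) (fun i z => by
      obtain ⟨F, _, _, h2, ⟨N⟩⟩ := fieldNode_of_sl R hgen (hnode i)
      exact (isLine_fam S (eS R hgen) cs' hcs i (NodeRGD.node R hgen i) N z (fun y f => Iff.rfl)).goodFamP h2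
        Nat.prime_three) (by rw [e]; exact hS x)
  rw [e] at h1
  exact h1

end Cfsg.Agent.BpHecke.RGDTwo

end

-- merged: Cfsg.Agent.BpHecke.TriD4
section

/-!
# `³D₄(q)`, automorphisms of order three, `q` prime to `6` (S1332)

`bps_twD4` : `BpS 3 ³D₄(q)`, for all (inner and outer) automorphisms of order three, characteristic different
from `2` and `3`.
-/

set_option autoImplicit false
set_option linter.unusedSectionVars false
set_option maxHeartbeats 400000

namespace Cfsg.Agent.BpHecke.TriD4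

open CoxeterSystem Cfsg.Agent.ChevalleyStructure.CoxeterGeom Cfsg.Agent.Tits.Roots Cfsg.Agent.Tits.Core
  Cfsg.Agent.Tits.RootComb Cfsg.Agent.Nodes.Comb Cfsg.Agent.Nodes.Reps Cfsg.Agent.Nodes.BNOf Cfsg.Agent.Nodes.BNOf.RGD
open Cfsg.Lie Cfsg.Agent.ChevalleyStructure Cfsg.Agent.ChevalleyStructure.Elts
  Cfsg.Agent.Nodes.RGDChev Cfsg.Agent.Nodes.RGDFold Cfsg.Agent.Nodes.RGDFoldSL Cfsg.Agent.FixBN.FieldRGD
  Cfsg.Agent.FixBN Cfsg.Agent.FixBN.TwGood Cfsg.Agent.BpTab Cfsg.Agent.Schreier.Basic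

section Fold

variable {D : ChevalleyDatum} {l : ℕ} {M' : CoxeterMatrix (Fin l)} {hp : IsType D l M'} {K : Type} [Field K]
  {m : ℕ} {M : CoxeterMatrix (Fin m)} {A : Fin m → Fin m → ℤ}
  {J : Fin m → List (Fin l)} {L : List (List ℕ)} {σ : GL D.Idx K →* GL D.Idx K} {ρ ρ' : ℕ → ℕ}
  {f : ℕ → K → K} {G : Subgroup (GL D.Idx K)}

theorem bps_fold [Finite K] (p : ℕ) [CharP K p] (hp2 : p ≠ 2) (hp3 : 3 ≠ p) [IsSimpleGroup ↥G]
    (h : IsCartan M A) (FD : FoldData D M A J L) (FG : FoldGrp hp K J L σ ρ ρ' f G) (r : Fin m → ℕ)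
    (o : Fin m → List ℕ) (N : ∀ i, NodeOK D J L ρ i (r i) (o i)) {φ : K →+* K}
    (hf : ∀ i, ∀ s ∈ r i :: o i, ∀ t, f s t = φ t) {a b : Fin m} (hI : ∀ i, i = a ∨ i = b) (hab : a ≠ b)
    (hM : 4 ≤ M a b) (hM8 : M a b ≤ 8)
    (hS : ∀ x : MulAut ↥G, ∀ J : Subgroup ↥(Cfsg.fixedSubgroup x), IsComponent J →
      Sch (↥J ⧸ Subgroup.center ↥J)) : BpS 3 ↥G := by
  have hpp : p.Prime := CharP.char_is_prime K p
  have : Fact p.Prime := ⟨hpp⟩
  have : Finite M.Group := finite_W (hp := hp) M.toCoxeterSystem h FD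
  have hR := Nodes.RGDFold.rgd M.toCoxeterSystem h FD FG p
  have hgen := Cfsg.Agent.Nodes.RGDLib.rgd_gen_of_G1 hR (Nodes.RGDFold.G1_eq_top M.toCoxeterSystem h FD FG p)
  have hcore : (RGD.B M.toCoxeterSystem h ((D.diagonalSubgroup K ⊓ G).subgroupOf G)
      (fun z => (R D hp K J σ z).subgroupOf G)).normalCore = ⊥ := by
    rcases (inferInstance : (RGD.B M.toCoxeterSystem h ((D.diagonalSubgroup K ⊓ G).subgroupOf G)
      (fun z => (R D hp K J σ z).subgroupOf G)).normalCore.Normal).eq_bot_or_eq_top with h1 | h1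
    · exact h1
    · exfalso
      apply hR.not_neg_le_B a
      intro x _
      have h2 : x ∈ (RGD.B M.toCoxeterSystem h ((D.diagonalSubgroup K ⊓ G).subgroupOf G)
        (fun z => (R D hp K J σ z).subgroupOf G)).normalCore := by rw [h1]; exact Subgroup.mem_top x
      exact Subgroup.normalCore_le _ h2
  exact RGDTwo.bps_of_rgd hR hgen hcore (isSolvable_T hp)
    (fun i => slNode_fold M.toCoxeterSystem h FG (N i) (hf i) (two_ne hp2)) hI hab hM hM8 hp3 hS

end Fold

/-- **`³D₄(q)`, `q` prime to `6`, automorphisms of order three.** -/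
theorem bps_twD4 {K : Type} [Field K] [Fintype K] {q : ℕ} (hq : IsPrimePow q) (hK : Fintype.card K = q ^ 3)
    (p : ℕ) [CharP K p] (hp2 : p ≠ 2) (hp3 : p ≠ 3)
    (hS : Schreier.Cases.SchFor.{0} @IsKnownSimple')
    (hkn : ∀ (X : Type) [Group X] [Finite X] [IsSimpleGroup X], IsKnownSimple' X) :
    BpS 3 ↥(twistedD4 K q) := by
  obtain ⟨φ, hφ⟩ := D4Fixed.exists_frob hq hK
  have : IsSimpleGroup ↥(twistedD4 K q) := (Cfsg.Agent.S1071.result hq hK).1
  refine bps_fold p hp2 hp3.symm Nodes.RGDTwD4.isCartan Nodes.RGDTwD4.foldData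
    (Nodes.RGDTwD4.foldGrp hφ (D4Fixed.twisted_le_fix hK hφ)) _ _ Nodes.RGDTwNode.D4.nodeOK (φ := φ)
    (fun i s hs t => by rw [Nodes.RGDTwNode.D4.eps_one i s hs, Int.cast_one, one_mul]) (a := 0) (b := 1)
    (fun i => by fin_cases i <;> simp) (by decide) (by decide) (by decide) fun x J hJ => ?_
  have hQ : IsQuasisimple ↥J := hJ.2
  have := hQ.2
  exact hS _ (Schreier.KBalance.not_isMulCommutative_quotient hQ) (hkn _)

end Cfsg.Agent.BpHecke.TriD4

end

-- merged: Cfsg.Agent.BpExc.RowsAll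
section

/-!
# S1332-EXC: the rows `G₂`, `F₄`, `E₆`, `E₇`, `E₈`, `²E₆`, `³D₄` (helper79)

`row_g2`, `row_f4`, `row_e6`, `row_e7`, `row_e8`, `row_twE6` : no hypothesis besides `p ≠ 2`;
`row_triD4` : for `p = 3` with the inputs `BpTwo.Inp` (Feit-Thompson, Schreier property, classification).
-/

set_option autoImplicit false
set_option linter.unusedSectionVars false

namespace Cfsg.Agent.BpExc.RowsAll

open CoxeterSystem Subgroup Cfsg Cfsg.Lie Cfsg.Lie.ChevalleyDatum
open Cfsg.Agent.ChevalleyStructure Cfsg.Agent.ChevalleyStructure.Elts Cfsg.Agent.ChevalleyStructure.CoxeterGeom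
  Cfsg.Agent.ChevalleyStructure.CoxeterGeomTypes Cfsg.Agent.ChevalleyStructure.NPerm
open Cfsg.Agent.Nodes.RGDChev Cfsg.Agent.KFacts.RgdChevCoord Cfsg.Agent.GpExc.Field
open Cfsg.Agent.BpTab Cfsg.Agent.BpExc Cfsg.Agent.BpExc.TowChev Cfsg.Agent.BpExc.FamUntw Cfsg.Agent.BpExc.FamInst
  Cfsg.Agent.BpExc.LangFr Cfsg.Agent.BpExc.FamField Cfsg.Agent.BpExc.RowsUntw Cfsg.Agent.BpExc.FamTw.Frame

universe u

variable {p : ℕ} [Fact p.Prime]

theorem endR {D : ChevalleyDatum} {l : ℕ} {M : CoxeterMatrix (Fin l)} (hp : IsType D l M) (r : ℕ) [Fact r.Prime] :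
    EndR hp r p :=
  EndInst.end_good hp M.toCoxeterSystem (locFin_of_isAlgebraic r _) r p

/-! ### untwisted -/

theorem row_g2 (hp2 : p ≠ 2) : Row.{u} p fun X _ => Lie.IsoChevG2 X :=
  RowsUntw.row_g2 hp2 fun r _ _ => endR g2T r

theorem row_f4 (hp2 : p ≠ 2) : Row.{u} p fun X _ => Lie.IsoF4 X :=
  RowsUntw.row_f4 hp2 fun r _ _ => endR f4T r

theorem row_e6 (hp2 : p ≠ 2) : Row.{u} p fun X _ => Lie.IsoChevE6 X :=
  RowsUntw.row_e6 hp2 fun r _ _ => endR e6T r

theorem row_e7 (hp2 : p ≠ 2) : Row.{u} p fun X _ => Lie.IsoE7 X :=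
  RowsUntw.row_e7 hp2 fun r _ _ => endR e7T r

theorem row_e8 (hp2 : p ≠ 2) : Row.{u} p fun X _ => Lie.IsoE8 X :=
  RowsUntw.row_e8 hp2 fun r _ _ => endR e8T r

/-! ### twisted -/

theorem toral {D : ChevalleyDatum} {l : ℕ} {M : CoxeterMatrix (Fin l)} (hp : IsType D l M) {r : ℕ} [Fact r.Prime]
    (hpr : p ≠ r) (y : ↥(D.group (AlgebraicClosure (ZMod r)))) (hy : y ^ p = 1) :
    ∃ z : ↥(D.group (AlgebraicClosure (ZMod r))), z * y * z⁻¹ ∈ TT D (AlgebraicClosure (ZMod r)) := by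
  obtain ⟨z, hz⟩ := TorAll.exists_toral' hp r Fact.out hpr hy
  exact ⟨z⁻¹, by rwa [inv_inv]⟩

/-- normality of the image of a subgroup of `GL` -/
theorem exists_conj {D : ChevalleyDatum} {F k : Type} [Field F] [Field k] {f : F →+* k} {G : Subgroup (GL D.Idx F)}
    {ι : ↥G →* ↥(D.group k)} (hι : ∀ a, ((ι a : ↥(D.group k)) : GL D.Idx k) = glMap D f (a : GL D.Idx F))
    {y : ↥(D.group k)}
    (hy : (y : GL D.Idx k) ∈ Subgroup.normalizer (G.map (glMap D f) : Set (GL D.Idx k))) (a : ↥G) :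
    ∃ b, y * ι a * y⁻¹ = ι b := by
  have h2 : (glMap D f (a : GL D.Idx F) : GL D.Idx k) ∈ G.map (glMap D f) := ⟨a, a.2, rfl⟩
  obtain ⟨z, hz, e⟩ := (Subgroup.mem_normalizer_iff.1 hy _).1 h2
  refine ⟨⟨z, hz⟩, Subtype.ext ?_⟩
  rw [hι]
  refine Eq.trans ?_ e.symm
  rw [← hι]
  rfl

theorem bps_twE6 {K : Type} [Field K] [Fintype K] {q r n : ℕ} [Fact r.Prime] [CharP K r] (hp2 : p ≠ 2) (hpr : p ≠ r)
    (hn0 : 0 < n) (hn : q = r ^ n) (hK : Fintype.card K = q ^ 2) : BpS p ↥(twistedE6 K q) := by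
  obtain ⟨f⟩ := exists_emb r K
  have hk : LocFin (AlgebraicClosure (ZMod r)) := locFin_of_isAlgebraic r _
  have hF := isFrob_sig6 (k := AlgebraicClosure (ZMod r)) r n
  have hfin : Finite ↥(fixedSubgroup (sig6 (AlgebraicClosure (ZMod r)) r n)) := Sig.finite_fixed hk hn0 hF
  have hq : IsPrimePow q := (isPrimePow_nat_iff _).2 ⟨r, n, Fact.out, hn0, hn.symm⟩
  have hφ : ∀ t, ((frb (AlgebraicClosure (ZMod r)) r n : AlgebraicClosure (ZMod r) ≃+* AlgebraicClosure (ZMod r)) :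
      AlgebraicClosure (ZMod r) →+* AlgebraicClosure (ZMod r)) t = t ^ q := by
    intro t
    rw [hn]
    exact frb_apply _ r n t
  refine Asm.bps e6T CoxeterMatrix.E₆.toCoxeterSystem hk (endR e6T r) (toral e6T hpr) hn0 hF
    (fr_sig6 hk r e6T CoxeterMatrix.E₆.toCoxeterSystem n) (FamTw.Six.em q f) (FamTw.Six.em_injective f)
    (FamTw.Six.em_fix f r hn0 hn hK) (fun y hy a => ?_)
    (FamTw.Six.fam hk f r e6T CoxeterMatrix.E₆.toCoxeterSystem hn0 hn hK Fact.out hp2)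
  exact exists_conj (FamTw.Six.coe_em f) (EmbInst.twE6_normalizer hq hK hφ y.2 (congrArg Subtype.val hy)) a

theorem bps_triD4 {K : Type} [Field K] [Fintype K] {q r n : ℕ} [Fact r.Prime] [CharP K r] (hp3 : p ≠ 3) (hpr : p ≠ r)
    (hn0 : 0 < n) (hn : q = r ^ n) (hK : Fintype.card K = q ^ 3) : BpS p ↥(twistedD4 K q) := by
  obtain ⟨f⟩ := exists_emb r K
  have hk : LocFin (AlgebraicClosure (ZMod r)) := locFin_of_isAlgebraic r _
  have hF := isFrob_sig4 (k := AlgebraicClosure (ZMod r)) r 1 n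
  have hfin : Finite ↥(fixedSubgroup (sig4 (AlgebraicClosure (ZMod r)) r 1 n)) := Sig.finite_fixed hk hn0 hF
  have hq : IsPrimePow q := (isPrimePow_nat_iff _).2 ⟨r, n, Fact.out, hn0, hn.symm⟩
  have hφ' : ∀ t, ((frb (AlgebraicClosure (ZMod r)) r n : AlgebraicClosure (ZMod r) ≃+* AlgebraicClosure (ZMod r)) :
      AlgebraicClosure (ZMod r) →+* AlgebraicClosure (ZMod r)) t = t ^ r ^ n := fun t => frb_apply _ r n t
  have hφ : ∀ t, ((frb (AlgebraicClosure (ZMod r)) r n : AlgebraicClosure (ZMod r) ≃+* AlgebraicClosure (ZMod r)) :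
      AlgebraicClosure (ZMod r) →+* AlgebraicClosure (ZMod r)) t = t ^ q := by
    intro t
    rw [hn]
    exact hφ' t
  refine Asm.bps Nodes.RGDTwD4.hp coxeterD4.toCoxeterSystem hk (endR Nodes.RGDTwD4.hp r)
    (toral Nodes.RGDTwD4.hp hpr) hn0 hF
    (fr_sig4_one hk r Nodes.RGDTwD4.hp coxeterD4.toCoxeterSystem n) (FamTw.Four.em q f) (FamTw.Four.em_injective f)
    (FamTw.Four.em_fix f r hn0 hn hK) (fun y hy a => ?_)
    (FamTw.Four.fam4 hk f r coxeterD4.toCoxeterSystem hn0 hn hK Fact.out hp3)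
  refine exists_conj (FamTw.Four.coe_em f) (EmbInst.twD4_normalizer hq hK hφ y.2 ?_) a
  rw [← FamTw.Four.sig4_coe r n hφ' y, hy]

theorem exists_pow {K : Type} [Field K] [Fintype K] {q r m : ℕ} [hr : Fact r.Prime] [CharP K r] (hm : 0 < m)
    (hq : IsPrimePow q) (hK : Fintype.card K = q ^ m) : ∃ n, 0 < n ∧ q = r ^ n := by
  obtain ⟨s, n, hs, hn, h⟩ := (isPrimePow_nat_iff _).1 hq
  obtain ⟨N, -, hN⟩ := FiniteField.card K r
  have h1 : s ∣ r ^ (N : ℕ) := by
    rw [← hN, hK, ← h, ← pow_mul]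
    exact dvd_pow_self s (Nat.mul_pos hn hm).ne'
  have h2 : s = r := (Nat.prime_dvd_prime_iff_eq hs hr.out).1 (hs.dvd_of_dvd_pow h1)
  exact ⟨n, hn, by rw [← h, h2]⟩

theorem row_twE6 (hp2 : p ≠ 2) : Row.{u} p fun X _ => Lie.Iso2E6 X := by
  rintro X _ _ ⟨K, _, _, q, hq, hK, ⟨e⟩⟩
  obtain ⟨r, hr, hF⟩ := exists_char K
  by_cases hpr : p = r
  · subst hpr
    exact BpLieP.Main.bpS_of_twisted hr hp2 (X := X) ⟨K, inferInstance, inferInstance, hF, q, hq, Or.inl ⟨hK, ⟨e⟩⟩⟩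
  · have : Fact r.Prime := ⟨hr⟩
    obtain ⟨n, hn0, hn⟩ := exists_pow (r := r) (by norm_num : 0 < 2) hq hK
    exact BpS.congr (bps_twE6 hp2 hpr hn0 hn hK) e.symm

theorem row_triD4 (hp2 : p ≠ 2) (hI : BpTwo.Inp.{0}) : Row.{u} p fun X _ => Lie.Iso3D4 X := by
  rintro X _ _ ⟨K, _, _, q, hq, hK, ⟨e⟩⟩
  obtain ⟨r, hr, hF⟩ := exists_char K
  by_cases hpr : p = r
  · subst hpr
    exact BpLieP.Main.bpS_of_twisted hr hp2 (X := X) ⟨K, inferInstance, inferInstance, hF, q, hq, Or.inr ⟨hK, ⟨e⟩⟩⟩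
  · have : Fact r.Prime := ⟨hr⟩
    obtain ⟨n, hn0, hn⟩ := exists_pow (r := r) (by norm_num : 0 < 3) hq hK
    refine BpS.congr ?_ e.symm
    by_cases hp3 : p = 3
    · subst hp3
      by_cases hr2 : r = 2
      · subst hr2
        have : IsSimpleGroup ↥(twistedD4 K q) := (Cfsg.Agent.S1071.result hq hK).1
        exact BpTwo.bpS_of_lie_two hI hp2 (Or.inr (Or.inr (Or.inr (Or.inr (Or.inr (Or.inr (Or.inr (Or.inl
          ⟨K, inferInstance, inferInstance, hF, q, hq, Or.inr ⟨hK, ⟨MulEquiv.refl _⟩⟩⟩))))))))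
      · exact BpHecke.TriD4.bps_twD4 hq hK r hr2 (fun h => hpr h.symm) hI.sch hI.kn
    · exact bps_triD4 hp3 hpr hn0 hn hK

end Cfsg.Agent.BpExc.RowsAll

end

-- merged: Cfsg.Agent.BpSpor.Inn.M11
section

/-!
# Automorphisms of odd prime order: `M11` (helper5)
-/

set_option autoImplicit false

namespace Cfsg.Agent.BpSpor.Inn

open Cfsg

theorem m11 {K : Type*} [Group K] (h : Spor.IsoM11 K) : OddInn K := by
  have : Finite K := by
    obtain ⟨e⟩ := h
    exact Finite.of_equiv _ e.symm.toEquiv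
  exact of_inner (Cfsg.Agent.UGT.End.MEleven.inner h)

end Cfsg.Agent.BpSpor.Inn

end

-- merged: Cfsg.Agent.BpSpor.Row.M11
section

/-!
# S1332, the row `M11` for all odd primes, from the primes whose square divides the order (helper5)
-/

set_option autoImplicit false

namespace Cfsg.Agent.BpSpor.Row

open Cfsg Cfsg.Agent.BpTab

universe u

theorem dat_m11 {K : Type u} [Group K] (h : Spor.IsoM11 K) : Dat K 7920 where
  simple := (Cfsg.Agent.Cit.Eleven.isM11 h).1
  card := (Cfsg.Agent.Cit.Eleven.isM11 h).2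
  inn := Inn.m11 h

theorem m11_of {K : Type u} [Group K] (h : Spor.IsoM11 K) (h3 : BpS 3 K) {p : ℕ} (hp : p.Prime)
    (hp2 : p ≠ 2) : BpS p K := by
  refine (dat_m11 h).bps (l := [(2, 4), (3, 2), (5, 1), (11, 1)]) (by decide +kernel)
    (by norm_num) (fun x hx hx2 hx3 => ?_) hp hp2
  simp only [List.mem_cons, List.not_mem_nil, or_false] at hx
  rcases hx with rfl | rfl | rfl | rfl
  · exact absurd rfl hx3
  · exact h3
  · exact absurd hx2 (by norm_num)
  · exact absurd hx2 (by norm_num)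

end Cfsg.Agent.BpSpor.Row

end

-- merged: Cfsg.Agent.BpSpor.Inn.M12
section

/-!
# Automorphisms of odd prime order: `M12` (helper5)
-/

set_option autoImplicit false

namespace Cfsg.Agent.BpSpor.Inn

open Cfsg

theorem of_mem_or_mem {K : Type*} [Group K] {a : MulAut K} (ha : a * a = 1)
    (h : ∀ φ : MulAut K, φ ∈ (MulAut.conj : K →* MulAut K).range ∨ a * φ ∈ (MulAut.conj : K →* MulAut K).range) :
    OddInn K := by
  apply of_pow
  intro α
  rcases h α with h1 | ⟨x, hx⟩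
  · exact pow_mem h1 2
  · have h2 : α = a * MulAut.conj x := by rw [hx, ← mul_assoc, ha, one_mul]
    refine ⟨a x * x, ?_⟩
    rw [h2, pow_two]
    ext u
    have h3 : ∀ v : K, a (a v) = v := fun v => by
      rw [← MulAut.mul_apply, ha, MulAut.one_apply]
    simp only [MulAut.mul_apply, MulAut.conj_apply, map_mul, map_inv, h3, mul_inv_rev, mul_assoc]

theorem m12 {K : Type*} [Group K] (h : Spor.IsoM12 K) : OddInn K := by
  obtain ⟨e⟩ := h
  exact OddInn.congr e (of_mem_or_mem Cfsg.Agent.OddHalf.Table.OutMTwelve.al_mul_al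
    Cfsg.Agent.OddHalf.Table.OutMTwelve.mem_or_mem)

end Cfsg.Agent.BpSpor.Inn

end

-- merged: Cfsg.Agent.BpSpor.Row.M12
section

/-!
# S1332, the row `M12` for all odd primes, from the primes whose square divides the order (helper5)
-/

set_option autoImplicit false

namespace Cfsg.Agent.BpSpor.Row

open Cfsg Cfsg.Agent.BpTab

universe u

theorem dat_m12 {K : Type u} [Group K] (h : Spor.IsoM12 K) : Dat K 95040 where
  simple := by
    obtain ⟨e⟩ := h
    exact (MulEquiv.isSimpleGroup_congr e).2 Cfsg.Agent.Schreier.MTwelve.isSimpleGroup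
  card := by
    obtain ⟨e⟩ := h
    rw [Nat.card_congr e.toEquiv, Cfsg.Agent.MTwelveType.SylowModel.card_M12]
  inn := Inn.m12 h

theorem m12_of {K : Type u} [Group K] (h : Spor.IsoM12 K) (h3 : BpS 3 K) {p : ℕ} (hp : p.Prime)
    (hp2 : p ≠ 2) : BpS p K := by
  refine (dat_m12 h).bps (l := [(2, 6), (3, 3), (5, 1), (11, 1)]) (by decide +kernel)
    (by norm_num) (fun x hx hx2 hx3 => ?_) hp hp2
  simp only [List.mem_cons, List.not_mem_nil, or_false] at hx
  rcases hx with rfl | rfl | rfl | rfl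
  · exact absurd rfl hx3
  · exact h3
  · exact absurd hx2 (by norm_num)
  · exact absurd hx2 (by norm_num)

end Cfsg.Agent.BpSpor.Row

end

-- merged: Cfsg.Agent.BpSpor.Inn.M22
section

/-!
# Automorphisms of odd prime order: `M22` (helper5)
-/

set_option autoImplicit false

namespace Cfsg.Agent.BpSpor.Inn

open Cfsg

open Cfsg.Agent.J4Type.Aut22 (D22 mem_D22_iff M22_le_D22 exists_conj eq_one_of_centralizes)
open Cfsg.Agent.SporadicA.MathieuRecog (mem_M22_iff simple_M22)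

theorem sq_mem_M22 {d : Equiv.Perm GolayPt} (hd : d ∈ D22) : d * d ∈ Spor.M22 := by
  obtain ⟨hM, h⟩ := (mem_D22_iff d).1 hd
  refine (mem_M22_iff _).2 ⟨M24.mul_mem hM hM, ?_⟩
  rcases h with h | h
  · exact ⟨by rw [Equiv.Perm.mul_apply, h.1, h.1], by rw [Equiv.Perm.mul_apply, h.2, h.2]⟩
  · exact ⟨by rw [Equiv.Perm.mul_apply, h.1, h.2], by rw [Equiv.Perm.mul_apply, h.2, h.1]⟩

theorem m22 {K : Type*} [Group K] (h : Spor.IsoM22 K) : OddInn K := by
  obtain ⟨e⟩ := h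
  refine OddInn.congr e (of_pow fun φ => ?_)
  obtain ⟨d, hd, hφ⟩ := exists_conj φ
  refine ⟨⟨d * d, sq_mem_M22 hd⟩, ?_⟩
  ext1 x
  apply Subtype.ext
  show d * d * (x : Equiv.Perm GolayPt) * (d * d)⁻¹ = (((φ ^ 2) x : ↥Spor.M22) : Equiv.Perm GolayPt)
  rw [pow_two, MulAut.mul_apply, hφ, hφ]
  group

end Cfsg.Agent.BpSpor.Inn

end

-- merged: Cfsg.Agent.BpSpor.Row.M22
section

/-!
# S1332, the row `M22` for all odd primes, from the primes whose square divides the order (helper5)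
-/

set_option autoImplicit false

namespace Cfsg.Agent.BpSpor.Row

open Cfsg Cfsg.Agent.BpTab

universe u

theorem dat_m22 {K : Type u} [Group K] (h : Spor.IsoM22 K) : Dat K 443520 where
  simple := by
    obtain ⟨e⟩ := h
    exact (MulEquiv.isSimpleGroup_congr e).2 Cfsg.Agent.SporadicA.MathieuRecog.simple_M22
  card := by
    obtain ⟨e⟩ := h
    rw [Nat.card_congr e.toEquiv, Cfsg.Agent.SporadicA.MathieuRecog.card_M22]
  inn := Inn.m22 h

theorem m22_of {K : Type u} [Group K] (h : Spor.IsoM22 K) (h3 : BpS 3 K) {p : ℕ} (hp : p.Prime)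
    (hp2 : p ≠ 2) : BpS p K := by
  refine (dat_m22 h).bps (l := [(2, 7), (3, 2), (5, 1), (7, 1), (11, 1)]) (by decide +kernel)
    (by norm_num) (fun x hx hx2 hx3 => ?_) hp hp2
  simp only [List.mem_cons, List.not_mem_nil, or_false] at hx
  rcases hx with rfl | rfl | rfl | rfl | rfl
  · exact absurd rfl hx3
  · exact h3
  · exact absurd hx2 (by norm_num)
  · exact absurd hx2 (by norm_num)
  · exact absurd hx2 (by norm_num)

end Cfsg.Agent.BpSpor.Row

end

-- merged: Cfsg.Agent.BpSpor.Inn.M23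
section

/-!
# Automorphisms of odd prime order: `M23` (helper5)
-/

set_option autoImplicit false

namespace Cfsg.Agent.BpSpor.Inn

open Cfsg

theorem m23 {K : Type*} [Group K] (h : Spor.IsoM23 K) : OddInn K := by
  obtain ⟨e⟩ := h
  exact OddInn.congr e (of_inner fun α => Cfsg.Agent.UGT.MTwentyThree.Aut.exists_conj α)

end Cfsg.Agent.BpSpor.Inn

end

-- merged: Cfsg.Agent.BpSpor.Row.M23
section

/-!
# S1332, the row `M23` for all odd primes, from the primes whose square divides the order (helper5)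
-/

set_option autoImplicit false

namespace Cfsg.Agent.BpSpor.Row

open Cfsg Cfsg.Agent.BpTab

universe u

theorem dat_m23 {K : Type u} [Group K] (h : Spor.IsoM23 K) : Dat K 10200960 where
  simple := by
    obtain ⟨e⟩ := h
    exact (MulEquiv.isSimpleGroup_congr e).2 Cfsg.Agent.Omega.TwoF.simple_M23
  card := by
    obtain ⟨e⟩ := h
    rw [Nat.card_congr e.toEquiv, Cfsg.Agent.SporadicA.MathieuRecog.card_M23]
  inn := Inn.m23 h

theorem m23_of {K : Type u} [Group K] (h : Spor.IsoM23 K) (h3 : BpS 3 K) {p : ℕ} (hp : p.Prime)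
    (hp2 : p ≠ 2) : BpS p K := by
  refine (dat_m23 h).bps (l := [(2, 7), (3, 2), (5, 1), (7, 1), (11, 1), (23, 1)]) (by decide +kernel)
    (by norm_num) (fun x hx hx2 hx3 => ?_) hp hp2
  simp only [List.mem_cons, List.not_mem_nil, or_false] at hx
  rcases hx with rfl | rfl | rfl | rfl | rfl | rfl
  · exact absurd rfl hx3
  · exact h3
  · exact absurd hx2 (by norm_num)
  · exact absurd hx2 (by norm_num)
  · exact absurd hx2 (by norm_num)
  · exact absurd hx2 (by norm_num)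

end Cfsg.Agent.BpSpor.Row

end

-- merged: Cfsg.Agent.BpSpor.Inn.M24
section

/-!
# Automorphisms of odd prime order: `M24` (helper5)
-/

set_option autoImplicit false

namespace Cfsg.Agent.BpSpor.Inn

open Cfsg

theorem m24 {K : Type*} [Group K] (h : Spor.IsoM24 K) : OddInn K := by
  obtain ⟨e⟩ := h
  exact OddInn.congr e (of_inner fun α => Cfsg.Agent.KFacts.M24Two.Out.exists_conj α)

end Cfsg.Agent.BpSpor.Inn

end

-- merged: Cfsg.Agent.BpSpor.Row.M24
section

/-!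
# S1332, the row `M24` for all odd primes, from the primes whose square divides the order (helper5)
-/

set_option autoImplicit false

namespace Cfsg.Agent.BpSpor.Row

open Cfsg Cfsg.Agent.BpTab

universe u

theorem dat_m24 {K : Type u} [Group K] (h : Spor.IsoM24 K) : Dat K 244823040 where
  simple := by
    obtain ⟨e⟩ := h
    exact (MulEquiv.isSimpleGroup_congr e).2 Cfsg.Agent.S0365.result
  card := by
    obtain ⟨e⟩ := h
    rw [Nat.card_congr e.toEquiv, Cfsg.Agent.S0364.result]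
  inn := Inn.m24 h

theorem m24_of {K : Type u} [Group K] (h : Spor.IsoM24 K) (h3 : BpS 3 K) {p : ℕ} (hp : p.Prime)
    (hp2 : p ≠ 2) : BpS p K := by
  refine (dat_m24 h).bps (l := [(2, 10), (3, 3), (5, 1), (7, 1), (11, 1), (23, 1)]) (by decide +kernel)
    (by norm_num) (fun x hx hx2 hx3 => ?_) hp hp2
  simp only [List.mem_cons, List.not_mem_nil, or_false] at hx
  rcases hx with rfl | rfl | rfl | rfl | rfl | rfl
  · exact absurd rfl hx3
  · exact h3
  · exact absurd hx2 (by norm_num)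
  · exact absurd hx2 (by norm_num)
  · exact absurd hx2 (by norm_num)
  · exact absurd hx2 (by norm_num)

end Cfsg.Agent.BpSpor.Row

end

-- merged: Cfsg.Agent.BpSpor.Inn.J1
section

/-!
# Automorphisms of odd prime order: `J1` (helper5)
-/

set_option autoImplicit false

namespace Cfsg.Agent.BpSpor.Inn

open Cfsg

theorem j1 {K : Type*} [Group K] (h : Spor.IsoJ1 K) : OddInn K := by
  obtain ⟨e⟩ := h
  exact OddInn.congr e (of_inner fun α => Cfsg.Agent.OddHalf.D4.Spor.J1Out.inn α)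

end Cfsg.Agent.BpSpor.Inn

end

-- merged: Cfsg.Agent.BpSpor.Row.J1
section

/-!
# S1332, the row `J1` for all odd primes, from the primes whose square divides the order (helper5)
-/

set_option autoImplicit false

namespace Cfsg.Agent.BpSpor.Row

open Cfsg Cfsg.Agent.BpTab

universe u

theorem dat_j1 {K : Type u} [Group K] (h : Spor.IsoJ1 K) : Dat K 175560 where
  simple := by
    obtain ⟨e⟩ := h
    exact (MulEquiv.isSimpleGroup_congr e).2 Cfsg.Agent.SporadicB.J1.Main.isJ1.1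
  card := by
    obtain ⟨e⟩ := h
    rw [Nat.card_congr e.toEquiv, Cfsg.Agent.SporadicB.J1.Main.isJ1.2]
  inn := Inn.j1 h

theorem j1_of {K : Type u} [Group K] (h : Spor.IsoJ1 K) {p : ℕ} (hp : p.Prime)
    (hp2 : p ≠ 2) : BpS p K := by
  refine (dat_j1 h).bps (l := [(2, 3), (3, 1), (5, 1), (7, 1), (11, 1), (19, 1)]) (by decide +kernel)
    (by norm_num) (fun x hx hx2 hx3 => ?_) hp hp2
  simp only [List.mem_cons, List.not_mem_nil, or_false] at hx
  rcases hx with rfl | rfl | rfl | rfl | rfl | rfl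
  · exact absurd rfl hx3
  · exact absurd hx2 (by norm_num)
  · exact absurd hx2 (by norm_num)
  · exact absurd hx2 (by norm_num)
  · exact absurd hx2 (by norm_num)
  · exact absurd hx2 (by norm_num)

end Cfsg.Agent.BpSpor.Row

end

-- merged: Cfsg.Agent.BpSpor.Inn.J3
section

/-!
# Automorphisms of odd prime order: `J3` (helper5)
-/

set_option autoImplicit false

namespace Cfsg.Agent.BpSpor.Inn

open Cfsg

theorem j3 {K : Type*} [Group K] (h : Spor.IsoJ3 K) : OddInn K := by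
  obtain ⟨z, Q, v, ρ, M, hc, hi, hs⟩ := Cfsg.Agent.OddHalf.D8.RowJ3.sheet' K h
  exact of_index hi

end Cfsg.Agent.BpSpor.Inn

end

-- merged: Cfsg.Agent.BpSpor.Row.J3
section

/-!
# S1332, the row `J3` for all odd primes, from the primes whose square divides the order (helper5)
-/

set_option autoImplicit false

namespace Cfsg.Agent.BpSpor.Row

open Cfsg Cfsg.Agent.BpTab

universe u

theorem dat_j3 {K : Type u} [Group K] (h : Spor.IsoJ3 K) : Dat K 50232960 where
  simple := by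
    obtain ⟨F, _, _, ω, hF, hω, ⟨e⟩⟩ := h
    exact (MulEquiv.isSimpleGroup_congr e).2 (Cfsg.Agent.S1625.result F hF ω hω).2.2.2
  card := by
    obtain ⟨F, _, _, ω, hF, hω, ⟨e⟩⟩ := h
    rw [Nat.card_congr e.toEquiv, (Cfsg.Agent.S1625.result F hF ω hω).2.2.1]
  inn := Inn.j3 h

theorem j3_of {K : Type u} [Group K] (h : Spor.IsoJ3 K) (h3 : BpS 3 K) {p : ℕ} (hp : p.Prime)
    (hp2 : p ≠ 2) : BpS p K := by
  refine (dat_j3 h).bps (l := [(2, 7), (3, 5), (5, 1), (17, 1), (19, 1)]) (by decide +kernel)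
    (by norm_num) (fun x hx hx2 hx3 => ?_) hp hp2
  simp only [List.mem_cons, List.not_mem_nil, or_false] at hx
  rcases hx with rfl | rfl | rfl | rfl | rfl
  · exact absurd rfl hx3
  · exact h3
  · exact absurd hx2 (by norm_num)
  · exact absurd hx2 (by norm_num)
  · exact absurd hx2 (by norm_num)

end Cfsg.Agent.BpSpor.Row

end

-- merged: Cfsg.Agent.BpSpor.Inn.J4
section

/-!
# Automorphisms of odd prime order: `J4` (helper5)
-/

set_option autoImplicit false

namespace Cfsg.Agent.BpSpor.Inn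

open Cfsg

theorem j4 {K : Type*} [Group K] (h : Spor.IsoJ4 K) : OddInn K := by
  obtain ⟨h1, h2, ⟨F⟩⟩ := Cfsg.Agent.KFacts.J4.Base.exists_full h
  exact of_inner (Cfsg.Agent.KFacts.J4.SheetJ4.inner F)

end Cfsg.Agent.BpSpor.Inn

end

-- merged: Cfsg.Agent.BpSpor.Row.J4
section

/-!
# S1332, the row `J4` for all odd primes, from the primes whose square divides the order (helper5)
-/

set_option autoImplicit false

namespace Cfsg.Agent.BpSpor.Row

open Cfsg Cfsg.Agent.BpTab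

universe u

theorem dat_j4 {K : Type u} [Group K] (h : Spor.IsoJ4 K) : Dat K 86775571046077562880 where
  simple := by
    obtain ⟨e⟩ := h
    exact (MulEquiv.isSimpleGroup_congr e).2 Cfsg.Agent.S1703.result.1
  card := by
    obtain ⟨e⟩ := h
    rw [Nat.card_congr e.toEquiv, Cfsg.Agent.S1703.result.2]
  inn := Inn.j4 h

theorem j4_of {K : Type u} [Group K] (h : Spor.IsoJ4 K) (h3 : BpS 3 K) (h11 : BpS 11 K) {p : ℕ} (hp : p.Prime)
    (hp2 : p ≠ 2) : BpS p K := by
  refine (dat_j4 h).bps (l := [(2, 21), (3, 3), (5, 1), (7, 1), (11, 3), (23, 1), (29, 1), (31, 1), (37, 1), (43, 1)]) (by decide +kernel)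
    (by norm_num) (fun x hx hx2 hx3 => ?_) hp hp2
  simp only [List.mem_cons, List.not_mem_nil, or_false] at hx
  rcases hx with rfl | rfl | rfl | rfl | rfl | rfl | rfl | rfl | rfl | rfl
  · exact absurd rfl hx3
  · exact h3
  · exact absurd hx2 (by norm_num)
  · exact absurd hx2 (by norm_num)
  · exact h11
  · exact absurd hx2 (by norm_num)
  · exact absurd hx2 (by norm_num)
  · exact absurd hx2 (by norm_num)
  · exact absurd hx2 (by norm_num)
  · exact absurd hx2 (by norm_num)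

end Cfsg.Agent.BpSpor.Row

end

-- merged: Cfsg.Agent.BpSpor.Inn.Co2
section

/-!
# Automorphisms of odd prime order: `Co2` (helper5)
-/

set_option autoImplicit false

namespace Cfsg.Agent.BpSpor.Inn

open Cfsg

theorem co2 {K : Type*} [Group K] (h : Spor.IsoCo2 K) : OddInn K := by
  obtain ⟨e⟩ := h
  have := Cfsg.Agent.Schreier.CoTwoStab.finite
  exact OddInn.congr e (of_inner fun α => Cfsg.Agent.KFacts.CoTwo.QuotInst.dataT.allInner α)

end Cfsg.Agent.BpSpor.Inn

end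

-- merged: Cfsg.Agent.BpSpor.Row.Co2
section

/-!
# S1332, the row `Co2` for all odd primes, from the primes whose square divides the order (helper5)
-/

set_option autoImplicit false

namespace Cfsg.Agent.BpSpor.Row

open Cfsg Cfsg.Agent.BpTab

universe u

theorem dat_co2 {K : Type u} [Group K] (h : Spor.IsoCo2 K) : Dat K 42305421312000 where
  simple := by
    obtain ⟨e⟩ := h
    exact (MulEquiv.isSimpleGroup_congr e).2 Cfsg.Agent.Schreier.CoTwoStab.isSimpleGroup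
  card := by
    obtain ⟨e⟩ := h
    rw [Nat.card_congr e.toEquiv, Cfsg.Agent.Co2Type.CardCo2.card_co2]
  inn := Inn.co2 h

theorem co2_of {K : Type u} [Group K] (h : Spor.IsoCo2 K) (h3 : BpS 3 K) (h5 : BpS 5 K) {p : ℕ} (hp : p.Prime)
    (hp2 : p ≠ 2) : BpS p K := by
  refine (dat_co2 h).bps (l := [(2, 18), (3, 6), (5, 3), (7, 1), (11, 1), (23, 1)]) (by decide +kernel)
    (by norm_num) (fun x hx hx2 hx3 => ?_) hp hp2
  simp only [List.mem_cons, List.not_mem_nil, or_false] at hx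
  rcases hx with rfl | rfl | rfl | rfl | rfl | rfl
  · exact absurd rfl hx3
  · exact h3
  · exact h5
  · exact absurd hx2 (by norm_num)
  · exact absurd hx2 (by norm_num)
  · exact absurd hx2 (by norm_num)

end Cfsg.Agent.BpSpor.Row

end

-- merged: Cfsg.Agent.BpSpor.Inn.McL
section

/-!
# Automorphisms of odd prime order: `McL` (helper5)
-/

set_option autoImplicit false

namespace Cfsg.Agent.BpSpor.Inn

open Cfsg

theorem mcl {K : Type*} [Group K] (h : Spor.IsoMcL K) : OddInn K := by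
  obtain ⟨hfin, hs, hcard, ⟨L⟩⟩ := Cfsg.Agent.TypeM.FactsMcL.facts h
  intro p hp hp2 α hα
  have h1 : Odd (orderOf α) := by
    rw [hα]
    exact hp.odd_of_ne_two hp2
  obtain ⟨g, hg⟩ := Cfsg.Agent.UGT.End.McLOuter.inner_of_odd L hcard α h1
  exact ⟨g, hg.symm⟩

end Cfsg.Agent.BpSpor.Inn

end

-- merged: Cfsg.Agent.BpSpor.Row.McL
section

/-!
# S1332, the row `McL` for all odd primes, from the primes whose square divides the order (helper5)
-/

set_option autoImplicit false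

namespace Cfsg.Agent.BpSpor.Row

open Cfsg Cfsg.Agent.BpTab

universe u

theorem dat_mcl {K : Type u} [Group K] (h : Spor.IsoMcL K) : Dat K 898128000 where
  simple := by
    obtain ⟨e⟩ := h
    exact (MulEquiv.isSimpleGroup_congr e).2 Cfsg.Agent.Schreier.McLaughlin.isSimple_mcl
  card := by
    obtain ⟨e⟩ := h
    rw [Nat.card_congr e.toEquiv, Cfsg.Agent.Schreier.McLaughlin.card_mcl]
  inn := Inn.mcl h

theorem mcl_of {K : Type u} [Group K] (h : Spor.IsoMcL K) (h3 : BpS 3 K) (h5 : BpS 5 K) {p : ℕ} (hp : p.Prime)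
    (hp2 : p ≠ 2) : BpS p K := by
  refine (dat_mcl h).bps (l := [(2, 7), (3, 6), (5, 3), (7, 1), (11, 1)]) (by decide +kernel)
    (by norm_num) (fun x hx hx2 hx3 => ?_) hp hp2
  simp only [List.mem_cons, List.not_mem_nil, or_false] at hx
  rcases hx with rfl | rfl | rfl | rfl | rfl
  · exact absurd rfl hx3
  · exact h3
  · exact h5
  · exact absurd hx2 (by norm_num)
  · exact absurd hx2 (by norm_num)

end Cfsg.Agent.BpSpor.Row

end

-- merged: Cfsg.Agent.BpSpor.Inn.ON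
section

/-!
# Automorphisms of odd prime order: `ON` (helper5)
-/

set_option autoImplicit false

namespace Cfsg.Agent.BpSpor.Inn

open Cfsg

theorem on {K : Type*} [Group K] (h : Spor.IsoON K) : OddInn K := by
  obtain ⟨e⟩ := h
  refine OddInn.congr e (of_index ?_)
  have h1 := Cfsg.Agent.KFacts.ON.Aut.index_le
  have h2 := Cfsg.Agent.KFacts.ON.Aut.finite_aut
  have h0 : (MulAut.conj : Cfsg.Spor.ON →* MulAut Cfsg.Spor.ON).range.index ≠ 0 := Subgroup.index_ne_zero_of_finite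
  omega

end Cfsg.Agent.BpSpor.Inn

end

-- merged: Cfsg.Agent.BpSpor.Row.ON
section

/-!
# S1332, the row `ON` for all odd primes, from the primes whose square divides the order (helper5)
-/

set_option autoImplicit false

namespace Cfsg.Agent.BpSpor.Row

open Cfsg Cfsg.Agent.BpTab

universe u

theorem dat_on {K : Type u} [Group K] (h : Spor.IsoON K) : Dat K 460815505920 where
  simple := by
    obtain ⟨e⟩ := h
    exact (MulEquiv.isSimpleGroup_congr e).2 Cfsg.Agent.S1699.result.1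
  card := by
    obtain ⟨e⟩ := h
    rw [Nat.card_congr e.toEquiv, Cfsg.Agent.S1699.result.2]
  inn := Inn.on h

theorem on_of {K : Type u} [Group K] (h : Spor.IsoON K) (h3 : BpS 3 K) (h7 : BpS 7 K) {p : ℕ} (hp : p.Prime)
    (hp2 : p ≠ 2) : BpS p K := by
  refine (dat_on h).bps (l := [(2, 9), (3, 4), (5, 1), (7, 3), (11, 1), (19, 1), (31, 1)]) (by decide +kernel)
    (by norm_num) (fun x hx hx2 hx3 => ?_) hp hp2
  simp only [List.mem_cons, List.not_mem_nil, or_false] at hx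
  rcases hx with rfl | rfl | rfl | rfl | rfl | rfl | rfl
  · exact absurd rfl hx3
  · exact h3
  · exact absurd hx2 (by norm_num)
  · exact h7
  · exact absurd hx2 (by norm_num)
  · exact absurd hx2 (by norm_num)
  · exact absurd hx2 (by norm_num)

end Cfsg.Agent.BpSpor.Row

end

-- merged: Cfsg.Agent.BpSpor.Inn.Ly
section

/-!
# Automorphisms of odd prime order: `Ly` (helper5)
-/

set_option autoImplicit false

namespace Cfsg.Agent.BpSpor.Inn

open Cfsg

theorem ly {K : Type*} [Group K] (h : Spor.IsoLy K) : OddInn K :=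
  of_inner' (Cfsg.Agent.TypeM.OutLyFin.inner h)

end Cfsg.Agent.BpSpor.Inn

end

-- merged: Cfsg.Agent.BpSpor.Row.Ly
section

/-!
# S1332, the row `Ly` for all odd primes, from the primes whose square divides the order (helper5)
-/

set_option autoImplicit false

namespace Cfsg.Agent.BpSpor.Row

open Cfsg Cfsg.Agent.BpTab

universe u

theorem dat_ly {K : Type u} [Group K] (h : Spor.IsoLy K) : Dat K 51765179004000000 where
  simple := by
    obtain ⟨e⟩ := h
    exact (MulEquiv.isSimpleGroup_congr e).2 Cfsg.Agent.S1702.result.1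
  card := by
    obtain ⟨e⟩ := h
    rw [Nat.card_congr e.toEquiv, Cfsg.Agent.S1702.result.2]
  inn := Inn.ly h

theorem ly_of {K : Type u} [Group K] (h : Spor.IsoLy K) (h3 : BpS 3 K) (h5 : BpS 5 K) {p : ℕ} (hp : p.Prime)
    (hp2 : p ≠ 2) : BpS p K := by
  refine (dat_ly h).bps (l := [(2, 8), (3, 7), (5, 6), (7, 1), (11, 1), (31, 1), (37, 1), (67, 1)]) (by decide +kernel)
    (by norm_num) (fun x hx hx2 hx3 => ?_) hp hp2
  simp only [List.mem_cons, List.not_mem_nil, or_false] at hx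
  rcases hx with rfl | rfl | rfl | rfl | rfl | rfl | rfl | rfl
  · exact absurd rfl hx3
  · exact h3
  · exact h5
  · exact absurd hx2 (by norm_num)
  · exact absurd hx2 (by norm_num)
  · exact absurd hx2 (by norm_num)
  · exact absurd hx2 (by norm_num)
  · exact absurd hx2 (by norm_num)

end Cfsg.Agent.BpSpor.Row

end

-- merged: Cfsg.Agent.BpSpor.Inn.Fi22
section

/-!
# Automorphisms of odd prime order: `Fi22` (helper5)
-/

set_option autoImplicit false

namespace Cfsg.Agent.BpSpor.Inn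

open Cfsg

theorem fi22 {K : Type*} [Group K] (h : Spor.IsoFi22 K) : OddInn K := by
  obtain ⟨e⟩ := h
  refine OddInn.congr e (of_sq fun α => ?_)
  by_cases hα : ∃ x, α = MulAut.conj x
  · obtain ⟨x, rfl⟩ := hα
    exact ⟨x * x, by rw [map_mul]⟩
  · push Not at hα
    exact Cfsg.Agent.OddHalf.Table.OutFi22.mul_outer α α hα hα

end Cfsg.Agent.BpSpor.Inn

end

-- merged: Cfsg.Agent.BpSpor.Row.Fi22
section

/-!
# S1332, the row `Fi22` for all odd primes, from the primes whose square divides the order (helper5)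
-/

set_option autoImplicit false

namespace Cfsg.Agent.BpSpor.Row

open Cfsg Cfsg.Agent.BpTab

universe u

theorem dat_fi22 {K : Type u} [Group K] (h : Spor.IsoFi22 K) : Dat K 64561751654400 where
  simple := by
    obtain ⟨e⟩ := h
    exact (MulEquiv.isSimpleGroup_congr e).2 Cfsg.Agent.S1696.result.1
  card := by
    obtain ⟨e⟩ := h
    rw [Nat.card_congr e.toEquiv, Cfsg.Agent.S1696.result.2]
  inn := Inn.fi22 h

theorem fi22_of {K : Type u} [Group K] (h : Spor.IsoFi22 K) (h3 : BpS 3 K) (h5 : BpS 5 K) {p : ℕ} (hp : p.Prime)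
    (hp2 : p ≠ 2) : BpS p K := by
  refine (dat_fi22 h).bps (l := [(2, 17), (3, 9), (5, 2), (7, 1), (11, 1), (13, 1)]) (by decide +kernel)
    (by norm_num) (fun x hx hx2 hx3 => ?_) hp hp2
  simp only [List.mem_cons, List.not_mem_nil, or_false] at hx
  rcases hx with rfl | rfl | rfl | rfl | rfl | rfl
  · exact absurd rfl hx3
  · exact h3
  · exact h5
  · exact absurd hx2 (by norm_num)
  · exact absurd hx2 (by norm_num)
  · exact absurd hx2 (by norm_num)

end Cfsg.Agent.BpSpor.Row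

end

-- merged: Cfsg.Agent.BpSpor.Inn.HN
section

/-!
# Automorphisms of odd prime order: `HN` (helper5)
-/

set_option autoImplicit false

namespace Cfsg.Agent.BpSpor.Inn

open Cfsg

theorem hn {K : Type*} [Group K] (h : Spor.IsoHN K) : OddInn K := by
  obtain ⟨e⟩ := h
  exact OddInn.congr e (of_index Cfsg.Agent.KFacts.HN.out_index)

end Cfsg.Agent.BpSpor.Inn

end

-- merged: Cfsg.Agent.BpSpor.Row.HN
section

/-!
# S1332, the row `HN` for all odd primes, from the primes whose square divides the order (helper5)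
-/

set_option autoImplicit false

namespace Cfsg.Agent.BpSpor.Row

open Cfsg Cfsg.Agent.BpTab

universe u

theorem dat_hn {K : Type u} [Group K] (h : Spor.IsoHN K) : Dat K 273030912000000 where
  simple := by
    obtain ⟨e⟩ := h
    exact (MulEquiv.isSimpleGroup_congr e).2 Cfsg.Agent.S1701.result.1
  card := by
    obtain ⟨e⟩ := h
    rw [Nat.card_congr e.toEquiv, Cfsg.Agent.S1701.result.2]
  inn := Inn.hn h

theorem hn_of {K : Type u} [Group K] (h : Spor.IsoHN K) (h3 : BpS 3 K) (h5 : BpS 5 K) {p : ℕ} (hp : p.Prime)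
    (hp2 : p ≠ 2) : BpS p K := by
  refine (dat_hn h).bps (l := [(2, 14), (3, 6), (5, 6), (7, 1), (11, 1), (19, 1)]) (by decide +kernel)
    (by norm_num) (fun x hx hx2 hx3 => ?_) hp hp2
  simp only [List.mem_cons, List.not_mem_nil, or_false] at hx
  rcases hx with rfl | rfl | rfl | rfl | rfl | rfl
  · exact absurd rfl hx3
  · exact h3
  · exact h5
  · exact absurd hx2 (by norm_num)
  · exact absurd hx2 (by norm_num)
  · exact absurd hx2 (by norm_num)

end Cfsg.Agent.BpSpor.Row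

end

-- merged: Cfsg.Agent.BpSpor.Inn.Th
section

/-!
# Automorphisms of odd prime order: `Th` (helper5)
-/

set_option autoImplicit false

namespace Cfsg.Agent.BpSpor.Inn

open Cfsg

theorem th {K : Type*} [Group K] (h : Spor.IsoTh K) : OddInn K := by
  obtain ⟨e⟩ := h
  exact OddInn.congr e (of_inner Cfsg.Agent.KFacts.Th.Main.inner)

end Cfsg.Agent.BpSpor.Inn

end

-- merged: Cfsg.Agent.BpSpor.Row.Th
section

/-!
# S1332, the row `Th` for all odd primes, from the primes whose square divides the order (helper5)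
-/

set_option autoImplicit false

namespace Cfsg.Agent.BpSpor.Row

open Cfsg Cfsg.Agent.BpTab

universe u

theorem dat_th {K : Type u} [Group K] (h : Spor.IsoTh K) : Dat K 90745943887872000 where
  simple := by
    obtain ⟨e⟩ := h
    exact (MulEquiv.isSimpleGroup_congr e).2 Cfsg.Agent.S1700.result.1
  card := by
    obtain ⟨e⟩ := h
    rw [Nat.card_congr e.toEquiv, Cfsg.Agent.S1700.result.2]
  inn := Inn.th h

theorem th_of {K : Type u} [Group K] (h : Spor.IsoTh K) (h3 : BpS 3 K) (h5 : BpS 5 K) (h7 : BpS 7 K) {p : ℕ} (hp : p.Prime)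
    (hp2 : p ≠ 2) : BpS p K := by
  refine (dat_th h).bps (l := [(2, 15), (3, 10), (5, 3), (7, 2), (13, 1), (19, 1), (31, 1)]) (by decide +kernel)
    (by norm_num) (fun x hx hx2 hx3 => ?_) hp hp2
  simp only [List.mem_cons, List.not_mem_nil, or_false] at hx
  rcases hx with rfl | rfl | rfl | rfl | rfl | rfl | rfl
  · exact absurd rfl hx3
  · exact h3
  · exact h5
  · exact h7
  · exact absurd hx2 (by norm_num)
  · exact absurd hx2 (by norm_num)
  · exact absurd hx2 (by norm_num)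

end Cfsg.Agent.BpSpor.Row

end

-- merged: Cfsg.Agent.BpSpor.Main
section

/-!
# S1332, the sporadic rows and the Tits row, all odd primes, from the list `Pairs` of 54 pairs (helper5)

* `Pairs.x` : `Row.{u} p (IsoX)` for every odd prime `p`, all 26 sporadic groups and the Tits group.
-/

set_option autoImplicit false

namespace Cfsg.Agent.BpSpor.Main

open Cfsg Cfsg.Agent.BpTab Cfsg.Agent.BpSpor.Row

universe u

theorem fin_of_dat {K : Type u} [Group K] {N : ℕ} (D : Dat K N) (hN : N ≠ 0) : Finite K :=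
  Nat.finite_of_card_ne_zero (by rw [D.card]; exact hN)

theorem bps_model {K : Type u} {Y : Type} [Group K] [Group Y] {N q : ℕ} (hq : q.Prime) (D : Dat Y N) (hN : N ≠ 0)
    (h : BpS q Y) (e : K ≃* Y) : BpS q K := by
  have : Fact q.Prime := ⟨hq⟩
  have : Finite Y := fin_of_dat D hN
  exact h.congr e.symm

theorem isoTits_self : Lie.IsoTits Lie.TitsGroup := by
  refine Nonempty.intro ?_
  exact MulEquiv.refl Lie.TitsGroup

variable (P : Pairs) {p : ℕ} (hp : p.Prime) (hp2 : p ≠ 2)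

include P hp hp2

theorem Pairs.m11 : Row.{u} p fun X _ => Spor.IsoM11 X := by
  intro K _ _ h
  have h0 := h
  obtain ⟨e⟩ := h
  have h3 : BpS 3 K := bps_model (by norm_num) (dat_m11 ⟨MulEquiv.refl Spor.M11⟩) (by norm_num) P.m11_3 e
  exact m11_of h0 h3 hp hp2

theorem Pairs.m12 : Row.{u} p fun X _ => Spor.IsoM12 X := by
  intro K _ _ h
  have h0 := h
  obtain ⟨e⟩ := h
  have h3 : BpS 3 K := bps_model (by norm_num) (dat_m12 ⟨MulEquiv.refl Spor.M12⟩) (by norm_num) P.m12_3 e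
  exact m12_of h0 h3 hp hp2

theorem Pairs.m22 : Row.{u} p fun X _ => Spor.IsoM22 X := by
  intro K _ _ h
  have h0 := h
  obtain ⟨e⟩ := h
  have h3 : BpS 3 K := bps_model (by norm_num) (dat_m22 ⟨MulEquiv.refl Spor.M22⟩) (by norm_num) P.m22_3 e
  exact m22_of h0 h3 hp hp2

theorem Pairs.m23 : Row.{u} p fun X _ => Spor.IsoM23 X := by
  intro K _ _ h
  have h0 := h
  obtain ⟨e⟩ := h
  have h3 : BpS 3 K := bps_model (by norm_num) (dat_m23 ⟨MulEquiv.refl Spor.M23⟩) (by norm_num) P.m23_3 e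
  exact m23_of h0 h3 hp hp2

theorem Pairs.m24 : Row.{u} p fun X _ => Spor.IsoM24 X := by
  intro K _ _ h
  have h0 := h
  obtain ⟨e⟩ := h
  have h3 : BpS 3 K := bps_model (by norm_num) (dat_m24 ⟨MulEquiv.refl M24⟩) (by norm_num) P.m24_3 e
  exact m24_of h0 h3 hp hp2

theorem Pairs.j1 : Row.{u} p fun X _ => Spor.IsoJ1 X := by
  intro K _ _ h
  have _ := P
  exact j1_of h hp hp2

theorem Pairs.j2 : Row.{u} p fun X _ => Spor.IsoJ2 X := by
  intro K _ _ h
  have h0 := h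
  obtain ⟨e⟩ := h
  have h3 : BpS 3 K := bps_model (by norm_num) (dat_j2 ⟨MulEquiv.refl Spor.J2⟩) (by norm_num) P.j2_3 e
  have h5 : BpS 5 K := bps_model (by norm_num) (dat_j2 ⟨MulEquiv.refl Spor.J2⟩) (by norm_num) P.j2_5 e
  exact j2_of h0 h3 h5 hp hp2

theorem Pairs.j3 : Row.{u} p fun X _ => Spor.IsoJ3 X := by
  intro K _ _ h
  have h0 := h
  obtain ⟨F, _, _, ω, hF, hω, ⟨e⟩⟩ := h
  have h3 : BpS 3 K := bps_model (by norm_num) (dat_j3 ⟨F, _, _, ω, hF, hω, ⟨MulEquiv.refl _⟩⟩) (by norm_num)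
    (P.j3_3 F ω hF hω) e
  exact j3_of h0 h3 hp hp2

theorem Pairs.j4 : Row.{u} p fun X _ => Spor.IsoJ4 X := by
  intro K _ _ h
  have h0 := h
  obtain ⟨e⟩ := h
  have h3 : BpS 3 K := bps_model (by norm_num) (dat_j4 ⟨MulEquiv.refl Spor.J4⟩) (by norm_num) P.j4_3 e
  have h11 : BpS 11 K := bps_model (by norm_num) (dat_j4 ⟨MulEquiv.refl Spor.J4⟩) (by norm_num) P.j4_11 e
  exact j4_of h0 h3 h11 hp hp2

theorem Pairs.co1 : Row.{u} p fun X _ => Spor.IsoCo1 X := by
  intro K _ _ h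
  have h0 := h
  obtain ⟨e⟩ := h
  have h3 : BpS 3 K := bps_model (by norm_num) (dat_co1 ⟨MulEquiv.refl Spor.Co1⟩) (by norm_num) P.co1_3 e
  have h5 : BpS 5 K := bps_model (by norm_num) (dat_co1 ⟨MulEquiv.refl Spor.Co1⟩) (by norm_num) P.co1_5 e
  have h7 : BpS 7 K := bps_model (by norm_num) (dat_co1 ⟨MulEquiv.refl Spor.Co1⟩) (by norm_num) P.co1_7 e
  exact co1_of h0 h3 h5 h7 hp hp2

theorem Pairs.co2 : Row.{u} p fun X _ => Spor.IsoCo2 X := by
  intro K _ _ h
  have h0 := h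
  obtain ⟨e⟩ := h
  have h3 : BpS 3 K := bps_model (by norm_num) (dat_co2 ⟨MulEquiv.refl Spor.Co2⟩) (by norm_num) P.co2_3 e
  have h5 : BpS 5 K := bps_model (by norm_num) (dat_co2 ⟨MulEquiv.refl Spor.Co2⟩) (by norm_num) P.co2_5 e
  exact co2_of h0 h3 h5 hp hp2

theorem Pairs.co3 : Row.{u} p fun X _ => Spor.IsoCo3 X := by
  intro K _ _ h
  have h0 := h
  obtain ⟨e⟩ := h
  have h3 : BpS 3 K := bps_model (by norm_num) (dat_co3 ⟨MulEquiv.refl Spor.Co3⟩) (by norm_num) P.co3_3 e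
  have h5 : BpS 5 K := bps_model (by norm_num) (dat_co3 ⟨MulEquiv.refl Spor.Co3⟩) (by norm_num) P.co3_5 e
  exact co3_of h0 h3 h5 hp hp2

theorem Pairs.mcl : Row.{u} p fun X _ => Spor.IsoMcL X := by
  intro K _ _ h
  have h0 := h
  obtain ⟨e⟩ := h
  have h3 : BpS 3 K := bps_model (by norm_num) (dat_mcl ⟨MulEquiv.refl Spor.McL⟩) (by norm_num) P.mcl_3 e
  have h5 : BpS 5 K := bps_model (by norm_num) (dat_mcl ⟨MulEquiv.refl Spor.McL⟩) (by norm_num) P.mcl_5 e
  exact mcl_of h0 h3 h5 hp hp2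

theorem Pairs.hs : Row.{u} p fun X _ => Spor.IsoHS X := by
  intro K _ _ h
  have h0 := h
  obtain ⟨e⟩ := h
  have h3 : BpS 3 K := bps_model (by norm_num) (dat_hs ⟨MulEquiv.refl Spor.HS⟩) (by norm_num) P.hs_3 e
  have h5 : BpS 5 K := bps_model (by norm_num) (dat_hs ⟨MulEquiv.refl Spor.HS⟩) (by norm_num) P.hs_5 e
  exact hs_of h0 h3 h5 hp hp2

theorem Pairs.suz : Row.{u} p fun X _ => Spor.IsoSuz X := by
  intro K _ _ h
  have h0 := h
  obtain ⟨e⟩ := h
  have h3 : BpS 3 K := bps_model (by norm_num) (dat_suz ⟨MulEquiv.refl Spor.Suz⟩) (by norm_num) P.suz_3 e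
  have h5 : BpS 5 K := bps_model (by norm_num) (dat_suz ⟨MulEquiv.refl Spor.Suz⟩) (by norm_num) P.suz_5 e
  exact suz_of h0 h3 h5 hp hp2

theorem Pairs.he : Row.{u} p fun X _ => Spor.IsoHe X := by
  intro K _ _ h
  have h0 := h
  obtain ⟨e⟩ := h
  have h3 : BpS 3 K := bps_model (by norm_num) (dat_he ⟨MulEquiv.refl Spor.He⟩) (by norm_num) P.he_3 e
  have h5 : BpS 5 K := bps_model (by norm_num) (dat_he ⟨MulEquiv.refl Spor.He⟩) (by norm_num) P.he_5 e
  have h7 : BpS 7 K := bps_model (by norm_num) (dat_he ⟨MulEquiv.refl Spor.He⟩) (by norm_num) P.he_7 e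
  exact he_of h0 h3 h5 h7 hp hp2

theorem Pairs.ru : Row.{u} p fun X _ => Spor.IsoRu X := by
  intro K _ _ h
  have h0 := h
  obtain ⟨e⟩ := h
  have h3 : BpS 3 K := bps_model (by norm_num) (dat_ru ⟨MulEquiv.refl Spor.Ru⟩) (by norm_num) P.ru_3 e
  have h5 : BpS 5 K := bps_model (by norm_num) (dat_ru ⟨MulEquiv.refl Spor.Ru⟩) (by norm_num) P.ru_5 e
  exact ru_of h0 h3 h5 hp hp2

theorem Pairs.on : Row.{u} p fun X _ => Spor.IsoON X := by
  intro K _ _ h
  have h0 := h
  obtain ⟨e⟩ := h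
  have h3 : BpS 3 K := bps_model (by norm_num) (dat_on ⟨MulEquiv.refl Spor.ON⟩) (by norm_num) P.on_3 e
  have h7 : BpS 7 K := bps_model (by norm_num) (dat_on ⟨MulEquiv.refl Spor.ON⟩) (by norm_num) P.on_7 e
  exact on_of h0 h3 h7 hp hp2

theorem Pairs.ly : Row.{u} p fun X _ => Spor.IsoLy X := by
  intro K _ _ h
  have h0 := h
  obtain ⟨e⟩ := h
  have h3 : BpS 3 K := bps_model (by norm_num) (dat_ly ⟨MulEquiv.refl Spor.Ly⟩) (by norm_num) P.ly_3 e
  have h5 : BpS 5 K := bps_model (by norm_num) (dat_ly ⟨MulEquiv.refl Spor.Ly⟩) (by norm_num) P.ly_5 e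
  exact ly_of h0 h3 h5 hp hp2

theorem Pairs.fi22 : Row.{u} p fun X _ => Spor.IsoFi22 X := by
  intro K _ _ h
  have h0 := h
  obtain ⟨e⟩ := h
  have h3 : BpS 3 K := bps_model (by norm_num) (dat_fi22 ⟨MulEquiv.refl Spor.Fi22⟩) (by norm_num) P.fi22_3 e
  have h5 : BpS 5 K := bps_model (by norm_num) (dat_fi22 ⟨MulEquiv.refl Spor.Fi22⟩) (by norm_num) P.fi22_5 e
  exact fi22_of h0 h3 h5 hp hp2

theorem Pairs.fi23 : Row.{u} p fun X _ => Spor.IsoFi23 X := by
  intro K _ _ h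
  have h0 := h
  obtain ⟨e⟩ := h
  have h3 : BpS 3 K := bps_model (by norm_num) (dat_fi23 ⟨MulEquiv.refl Spor.Fi23⟩) (by norm_num) P.fi23_3 e
  have h5 : BpS 5 K := bps_model (by norm_num) (dat_fi23 ⟨MulEquiv.refl Spor.Fi23⟩) (by norm_num) P.fi23_5 e
  exact fi23_of h0 h3 h5 hp hp2

theorem Pairs.fi24 : Row.{u} p fun X _ => Spor.IsoFi24' X := by
  intro K _ _ h
  have h0 := h
  obtain ⟨e⟩ := h
  have h3 : BpS 3 K := bps_model (by norm_num) (dat_fi24 ⟨MulEquiv.refl Spor.Fi24'⟩) (by norm_num) P.fi24_3 e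
  have h5 : BpS 5 K := bps_model (by norm_num) (dat_fi24 ⟨MulEquiv.refl Spor.Fi24'⟩) (by norm_num) P.fi24_5 e
  have h7 : BpS 7 K := bps_model (by norm_num) (dat_fi24 ⟨MulEquiv.refl Spor.Fi24'⟩) (by norm_num) P.fi24_7 e
  exact fi24_of h0 h3 h5 h7 hp hp2

theorem Pairs.hn : Row.{u} p fun X _ => Spor.IsoHN X := by
  intro K _ _ h
  have h0 := h
  obtain ⟨e⟩ := h
  have h3 : BpS 3 K := bps_model (by norm_num) (dat_hn ⟨MulEquiv.refl Spor.HN⟩) (by norm_num) P.hn_3 e
  have h5 : BpS 5 K := bps_model (by norm_num) (dat_hn ⟨MulEquiv.refl Spor.HN⟩) (by norm_num) P.hn_5 e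
  exact hn_of h0 h3 h5 hp hp2

theorem Pairs.th : Row.{u} p fun X _ => Spor.IsoTh X := by
  intro K _ _ h
  have h0 := h
  obtain ⟨e⟩ := h
  have h3 : BpS 3 K := bps_model (by norm_num) (dat_th ⟨MulEquiv.refl Spor.Th⟩) (by norm_num) P.th_3 e
  have h5 : BpS 5 K := bps_model (by norm_num) (dat_th ⟨MulEquiv.refl Spor.Th⟩) (by norm_num) P.th_5 e
  have h7 : BpS 7 K := bps_model (by norm_num) (dat_th ⟨MulEquiv.refl Spor.Th⟩) (by norm_num) P.th_7 e
  exact th_of h0 h3 h5 h7 hp hp2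

theorem Pairs.b : Row.{u} p fun X _ => Spor.IsoB X := by
  intro K _ _ h
  have h0 := h
  obtain ⟨e⟩ := h
  have h3 : BpS 3 K := bps_model (by norm_num) (dat_b ⟨MulEquiv.refl Spor.BabyMonster⟩) (by norm_num) P.b_3 e
  have h5 : BpS 5 K := bps_model (by norm_num) (dat_b ⟨MulEquiv.refl Spor.BabyMonster⟩) (by norm_num) P.b_5 e
  have h7 : BpS 7 K := bps_model (by norm_num) (dat_b ⟨MulEquiv.refl Spor.BabyMonster⟩) (by norm_num) P.b_7 e
  exact b_of h0 h3 h5 h7 hp hp2

theorem Pairs.m : Row.{u} p fun X _ => Spor.IsoM X := by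
  intro K _ _ h
  have h0 := h
  obtain ⟨e⟩ := h
  have h3 : BpS 3 K := bps_model (by norm_num) (dat_m ⟨MulEquiv.refl Spor.Monster⟩) (by norm_num) P.m_3 e
  have h5 : BpS 5 K := bps_model (by norm_num) (dat_m ⟨MulEquiv.refl Spor.Monster⟩) (by norm_num) P.m_5 e
  have h7 : BpS 7 K := bps_model (by norm_num) (dat_m ⟨MulEquiv.refl Spor.Monster⟩) (by norm_num) P.m_7 e
  have h11 : BpS 11 K := bps_model (by norm_num) (dat_m ⟨MulEquiv.refl Spor.Monster⟩) (by norm_num) P.m_11 e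
  have h13 : BpS 13 K := bps_model (by norm_num) (dat_m ⟨MulEquiv.refl Spor.Monster⟩) (by norm_num) P.m_13 e
  exact m_of h0 h3 h5 h7 h11 h13 hp hp2

theorem Pairs.tits : Row.{u} p fun X _ => Lie.IsoTits X := by
  intro K _ _ h
  have h0 := h
  obtain ⟨e⟩ := h
  have hD : Dat Lie.TitsGroup 17971200 := dat_tits isoTits_self
  have h3 : BpS 3 K := bps_model (by norm_num) hD (by norm_num) P.tits_3 e
  have h5 : BpS 5 K := bps_model (by norm_num) hD (by norm_num) P.tits_5 e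
  exact tits_of h0 h3 h5 hp hp2

end Cfsg.Agent.BpSpor.Main

end

-- merged: Cfsg.Agent.BpTab.Assembly
section

/-!
# The assembly of the table of S1332

`rows_of` : the table `Rows p`; the sporadic rows are in the hypothesis `BpSpor.Main.Pairs`.
-/

set_option autoImplicit false

namespace Cfsg.Agent.BpTab.Assembly

open Cfsg Cfsg.Agent.BpTab

universe u

/-- The row of the alternating groups. -/
theorem alt {p : ℕ} [hp : Fact p.Prime] (hp2 : p ≠ 2) : Row.{u} p fun X _ => IsAlternating X := by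
  rintro X _ _ ⟨n, hn, ⟨e⟩⟩
  exact (BpAlt.row hn hp.out hp2).congr e.symm

/-- **The table of S1332 for an odd prime `p`.** -/
theorem rows_of {p : ℕ} [hp : Fact p.Prime] (hp2 : p ≠ 2) (hI : BpTwo.Inp.{0}) (hIu : BpTwo.Inp.{u})
    (hT : BpCl.TriOdd) (P : BpSpor.Main.Pairs) : Rows.{u} p where
  alt := alt hp2
  psl := BpField.Rows.psl hp2
  psp := BpCl.psp_row hp2
  psu := BpField.Rows.psu hp2
  omegaOdd := BpCl.omegaOdd_row hp2
  omegaPlus := BpCl.omegaPlus_row hI hT hp2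
  omegaMinus := BpCl.omegaMinus_row hp2
  g2 := BpExc.RowsAll.row_g2 hp2
  f4 := BpExc.RowsAll.row_f4 hp2
  e6 := BpExc.RowsAll.row_e6 hp2
  e7 := BpExc.RowsAll.row_e7 hp2
  e8 := BpExc.RowsAll.row_e8 hp2
  twE6 := BpExc.RowsAll.row_twE6 hp2
  triD4 := BpExc.RowsAll.row_triD4 hp2 hI
  sz := BpTwo.row_sz hIu hp2
  ree := BpRee.RRow.ree p hp2
  twF4 := BpTwo.row_twF4 hIu hp2
  tits := P.tits hp.out hp2
  m11 := P.m11 hp.out hp2
  m12 := P.m12 hp.out hp2
  m22 := P.m22 hp.out hp2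
  m23 := P.m23 hp.out hp2
  m24 := P.m24 hp.out hp2
  j1 := P.j1 hp.out hp2
  j2 := P.j2 hp.out hp2
  j3 := P.j3 hp.out hp2
  j4 := P.j4 hp.out hp2
  co1 := P.co1 hp.out hp2
  co2 := P.co2 hp.out hp2
  co3 := P.co3 hp.out hp2
  mcl := P.mcl hp.out hp2
  hs := P.hs hp.out hp2
  suz := P.suz hp.out hp2
  he := P.he hp.out hp2
  ru := P.ru hp.out hp2
  on := P.on hp.out hp2
  ly := P.ly hp.out hp2
  fi22 := P.fi22 hp.out hp2
  fi23 := P.fi23 hp.out hp2
  fi24 := P.fi24 hp.out hp2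
  hn := P.hn hp.out hp2
  th := P.th hp.out hp2
  b := P.b hp.out hp2
  m := P.m hp.out hp2

end Cfsg.Agent.BpTab.Assembly

end

-- merged: Cfsg.Agent.BpTab.FinalOf
section

/-!
# S1332 from the open rows
-/

set_option autoImplicit false

namespace Cfsg.Agent.BpTab.FinalOf

open Subgroup Cfsg Cfsg.Agent.BpTab

universe u

/-- **S1332 from the open rows**: `Pairs` (sporadic groups and the Tits group) and `TriOdd`. -/
theorem s1332_of (hS0 : Schreier.Cases.SchFor.{0} @IsKnownSimple') (hS : Schreier.Cases.SchFor.{u} @IsKnownSimple')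
    (hFT0 : ∀ (X : Type) [Group X] [Finite X], Odd (Nat.card X) → Group.IsSolvable X)
    (hFT : ∀ (X : Type u) [Group X] [Finite X], Odd (Nat.card X) → Group.IsSolvable X)
    (hBT : ∀ (X : Type u) [Group X] [Finite X], oddCore X = ⊥ → ∀ t : X, orderOf t = 2 →
      pLayer 2 ↥(centralizer ({t} : Set X)) = layer ↥(centralizer ({t} : Set X)))
    (hkn0 : ∀ (X : Type) [Group X] [Finite X] [IsSimpleGroup X], IsKnownSimple' X)
    (hkn : ∀ (X : Type u) [Group X] [Finite X] [IsSimpleGroup X], IsKnownSimple' X)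
    (hT : BpCl.TriOdd) (hP' : BpSpor.Main.Pairs)
    {G : Type u} [Group G] [Finite G] (p : ℕ) [Fact p.Prime] (P : Subgroup G) (hP : IsPGroup p ↥P) :
    (pLayer p ↥(normalizer (P : Set G))).map (normalizer (P : Set G)).subtype ≤ pLayer p G ∧
      (pPrimeCore p G = ⊥ →
        ⁅pLayer p ↥(normalizer (P : Set G)), pPrimeCore p ↥(normalizer (P : Set G))⁆ = ⊥) := by
  refine BpRed.s1332 hS hFT hBT (fun q hq hq2 => ?_) hkn p P hP
  have : Fact q.Prime := ⟨hq⟩
  exact Assembly.rows_of hq2 ⟨hFT0, hS0, hkn0⟩ ⟨hFT, hS, hkn⟩ hT hP'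

end Cfsg.Agent.BpTab.FinalOf

end

-- merged: Cfsg.Agent.BpTri.Sol
section

/-!
# Trialities: the minimal invariant residues have solvable stabilisers (S1332)
-/

set_option autoImplicit false

open scoped Pointwise

namespace Cfsg.Agent.BpTri

open Cfsg.Agent.FixBN (Sys)
open Cfsg.Agent.Tits.Core Cfsg.Agent.Tits.Core.Bldg Cfsg.Agent.Tits.Exchange

variable {I : Type*} {M : CoxeterMatrix I} {W : Type*} [Group W] {cs : CoxeterSystem M W} {C : Type*}
  {Δ : Bldg cs C} {G : Type*} [Group G] [MulAction G C] {p : ℕ}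

/-- `θ` maps the `K`-residues to the `L`-residues if `σ` maps `K` onto `L`. -/
theorem map_Res_iff (t : FixOdd.Tw Δ G) {K L : Set I} (h : ∀ i, i ∈ K ↔ t.σ i ∈ L) (x y : C) :
    t.θ y ∈ Δ.Res L (t.θ x) ↔ y ∈ Δ.Res K x := by
  have hφ' : ∀ i, t.φ.symm (cs.simple i) = cs.simple (t.σ.symm i) := by
    intro i
    rw [MulEquiv.symm_apply_eq, t.φ_simple, Equiv.apply_symm_apply]
  have key : ∀ (f : W ≃* W) (s : Equiv.Perm I) (A B : Set I), (∀ i, f (cs.simple i) = cs.simple (s i)) →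
      (∀ i ∈ A, s i ∈ B) → ∀ w ∈ WJ cs A, f w ∈ WJ cs B := by
    intro f s A B hf hs w hw
    unfold WJ at hw
    induction hw using Subgroup.closure_induction with
    | mem x hx =>
      obtain ⟨i, hi, rfl⟩ := hx
      rw [hf]
      exact simple_mem_WJ cs (hs i hi)
    | one => rw [map_one]; exact one_mem _
    | mul x y _ _ hx hy => rw [map_mul]; exact mul_mem hx hy
    | inv x _ hx => rw [map_inv]; exact inv_mem hx
  rw [Δ.mem_Res, Δ.mem_Res, t.δ_θ]
  constructor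
  · intro h1
    have h2 := key t.φ.symm t.σ.symm L K hφ' (fun i hi => by rw [h, Equiv.apply_symm_apply]; exact hi) _ h1
    rwa [MulEquiv.symm_apply_apply] at h2
  · exact key t.φ t.σ K L t.φ_simple (fun i hi => (h i).1 hi) _

/-- **(N) for trialities.** -/
theorem isSolvable_stab [F : Cfsg.Agent.Tits.OppRes.Cox cs] [Finite C] [Nonempty C] [hp : Fact p.Prime] (S : Sys Δ G p) (hth : Δ.Thick)
    (hinj : Function.Injective cs.simple) {t : FixOdd.Tw Δ G} (ho : t.Ord 3) {a e b c : I} (n : Nodes4 cs a e b c)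
    (ha : t.σ a = b) (hb : t.σ b = c) (hc : t.σ c = a) (he : t.σ e = e)
    (hfam : ∀ x, GoodFamP 3 (S.fam e x)) (hsol : ∀ x : C, Group.IsSolvable (MulAction.stabilizer G x)) {J : Set I}
    {x : C} (h : t.Gd J x) : Group.IsSolvable ↥(t.cent ⊓ MulAction.stabilizer G (Δ.Res J x)) := by
  have : Fintype C := Fintype.ofFinite C
  have hcube : ∀ y, t.θ (t.θ (t.θ y)) = y := by
    intro y
    have h1 : (t.θ ^ 3 : Equiv.Perm C) y = y := by rw [ho.θ]; rfl
    exact h1
  have hq : PanMod Δ p := fun i x => S.card_Pan_eq hth x i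
  -- an invariant panel of type `e`
  obtain ⟨z, hz⟩ := exists_panel Δ hq hinj n t.θ
    (map_Res_iff t fun i => by
      rw [Set.mem_ofPred_eq, Set.mem_ofPred_eq, not_iff_not, ← ha, t.σ.injective.eq_iff])
    (map_Res_iff t fun i => by
      rw [Set.mem_ofPred_eq, Set.mem_ofPred_eq, not_iff_not, ← hb, t.σ.injective.eq_iff])
    (map_Res_iff t fun i => by
      rw [Set.mem_ofPred_eq, Set.mem_ofPred_eq, not_iff_not, ← hc, t.σ.injective.eq_iff]) hcube
  have hmin : MinInv Δ t.θ t.σ J x :=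
    ⟨⟨h.st, h.mem⟩, fun K hK y hy hI => h.min y hy K hK hI.1 hI.2⟩
  have hfix : ∀ i, t.σ i = i → i = e := by
    intro i hi
    rcases n.cov i with rfl | rfl | rfl | rfl
    · exact (n.ab (hi.symm.trans ha)).elim
    · rfl
    · exact (n.bc (hi.symm.trans hb)).elim
    · exact (n.ac (hi.symm.trans hc).symm).elim
  rcases min_type Δ t.δ_θ hinj t.φ_simple he hfix hz hmin with rfl | rfl
  · -- a chamber
    have h1 := hsol x
    refine Group.isSolvable_of_isSolvable_injective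
      (f := Subgroup.inclusion (?_ : t.cent ⊓ MulAction.stabilizer G (Δ.Res ∅ x) ≤ MulAction.stabilizer G x))
      (Subgroup.inclusion_injective _)
    rintro g ⟨-, hg⟩
    have h2 : g • Δ.Res ∅ x = Δ.Res ∅ x := hg
    rw [Δ.Res_empty, Set.smul_set_singleton, Set.singleton_eq_singleton_iff] at h2
    exact h2
  · -- a panel
    have hst : ∀ y, y ∈ Δ.Pan e x ↔ t.θ y ∈ Δ.Pan e x := by
      intro y
      rw [Δ.Pan_eq_Res]
      have h1 : t.θ y ∈ Δ.Res {e} (t.θ x) ↔ y ∈ Δ.Res {e} x := map_Res_iff t (fun i => by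
        rw [Set.mem_singleton_iff, Set.mem_singleton_iff]
        constructor
        · rintro rfl; exact he
        · intro h2; exact t.σ.injective (h2.trans he.symm)) x y
      rw [← h1, Δ.Res_eq_of_mem h.mem]
    refine isSolvable_panel S (hfam x) (hsol x) t.τ t.θ t.θ_smul ho.θ hst ?_ _ (fun g hg => hg.1) ?_
    · intro y hy h1
      rw [Δ.Pan_eq_Res] at hy
      have h2 := h.min y hy ∅ (Set.empty_subset _) (fun i hi => hi.elim) (by rw [h1]; exact Δ.self_mem_Res _ _)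
      exact (Set.singleton_ne_empty e) h2.symm
    · intro g hg
      rw [Δ.Pan_eq_Res]
      exact hg.2

end Cfsg.Agent.BpTri

end

-- merged: Cfsg.Agent.BpTri.TypePres
section

/-!
# Type preserving automorphisms permute the conjugates of a parabolic subgroup (S1332, triality)
-/

set_option autoImplicit false

open scoped Pointwise

namespace Cfsg.Agent.BpTri

open Cfsg Cfsg.Agent.FixBN Cfsg.Agent.Tits.Core Cfsg.Agent.Tits.Core.Bldg Cfsg.Agent.Tits.OfBN

variable {K : Type*} [Group K] [Finite K] {P : Cfsg.BNPair K} {U : Subgroup K} {p : ℕ}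
  [Fact p.Prime] [hN : ((P.B ⊓ P.N).subgroupOf P.N).Normal] (S : Split P p U)
  {I : Type*} {M : CoxeterMatrix I} (e : I ≃ P.S) (cs : CoxeterSystem M (WP P))
  (hcs : ∀ i, cs.simple i = QuotientGroup.mk (⟨(e i : K), P.subset (e i).2⟩ : P.N))

include S in
/-- A subgroup containing a conjugate of `B` is mapped to one of its conjugates by a type preserving automorphism. -/
theorem map_eq_of_type (t : FixOdd.Tw (bldg P e cs hcs) K) (hσ : ∀ i, t.σ i = i) (L : Subgroup K) {g : K}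
    (hL : ∀ b ∈ P.B, g * b * g⁻¹ ∈ L) :
    ∃ k : K, L.map t.τ.toMonoidHom = L.map (MulAut.conj k).toMonoidHom := by
  have hφ : ∀ w, t.φ w = w := by
    intro w
    have h1 : t.φ.toMonoidHom = MonoidHom.id _ := cs.ext_simple fun i => by
      change t.φ (cs.simple i) = cs.simple i
      rw [t.φ_simple, hσ]
    exact DFunLike.congr_fun h1 w
  have hδ : ∀ x y, (bldg P e cs hcs).δ (t.θ x) (t.θ y) = (bldg P e cs hcs).δ x y := fun x y => by
    rw [t.δ_θ, hφ]
  set x₀ : K ⧸ P.B := QuotientGroup.mk g with hx₀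
  obtain ⟨g₁, hg₁⟩ := QuotientGroup.mk_surjective (t.θ x₀)
  set k : K := g₁ * g⁻¹ with hk
  have hkx : k • x₀ = t.θ x₀ := by
    rw [hx₀, OfBN.smul_mk, hk, inv_mul_cancel_right, hg₁]
  have hiso : ∀ (c : K) x y, (bldg P e cs hcs).δ (c • x) (c • y) = (bldg P e cs hcs).δ x y :=
    (OfBN.sys e cs hcs S).iso
  have hst : ∀ c : K, c • x₀ = x₀ → c ∈ L := by
    intro c hc
    rw [hx₀, OfBN.smul_mk_eq] at hc
    have h1 := hL _ hc
    have h2 : g * (g⁻¹ * c * g) * g⁻¹ = c := by group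
    rwa [h2] at h1
  have key : ∀ m ∈ L, k⁻¹ * t.τ m * k ∈ L := by
    intro m hm
    -- the distances agree
    have h1 : (bldg P e cs hcs).δ x₀ ((k⁻¹ * t.τ m * k) • x₀) = (bldg P e cs hcs).δ x₀ (m • x₀) := by
      rw [mul_smul, mul_smul, hkx, ← hiso k x₀, smul_inv_smul, hkx, ← t.θ_smul, hδ]
    obtain ⟨u, hu, hu2⟩ := OfBN.trans (P := P) (p := p) S h1.symm
    have hux : u • x₀ = x₀ := OfBN.fix S hu
    have h3 : (u * m)⁻¹ * (k⁻¹ * t.τ m * k) ∈ L := by
      apply hst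
      rw [mul_smul, inv_smul_eq_iff, mul_smul u m, hu2]
    have h4 : u * m ∈ L := mul_mem (hst u hux) hm
    have h5 := mul_mem h4 h3
    rwa [mul_inv_cancel_left] at h5
  refine ⟨k, Subgroup.eq_of_le_of_card_ge ?_ ?_⟩
  · rintro _ ⟨m, hm, rfl⟩
    refine ⟨k⁻¹ * t.τ m * k, key m hm, ?_⟩
    change k * (k⁻¹ * t.τ m * k) * k⁻¹ = t.τ m
    group
  · rw [Nat.card_congr (L.equivMapOfInjective _ (MulAut.conj k).injective).toEquiv.symm,
      Nat.card_congr (L.equivMapOfInjective _ t.τ.injective).toEquiv.symm]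

end Cfsg.Agent.BpTri

end

-- merged: Cfsg.Agent.BpTri.Asm
section

/-!
# Automorphisms of order three of groups with root group data of type `D₄` (S1332, triality)

`stab_or_type` : the automorphism is type preserving or the stabilisers of the minimal invariant residues are solvable.
-/

set_option autoImplicit false
set_option linter.unusedSectionVars false

open scoped Pointwise

namespace Cfsg.Agent.BpTri

open CoxeterSystem Cfsg.Agent.ChevalleyStructure.CoxeterGeom Cfsg.Agent.Tits.Roots Cfsg.Agent.Tits.Core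
  Cfsg.Agent.Tits.RootComb Cfsg.Agent.Nodes.Comb Cfsg.Agent.Nodes.Reps Cfsg.Agent.Nodes.BNOf Cfsg.Agent.Nodes.BNOf.RGD
  Cfsg.Agent.Tits.OfBN Cfsg.Agent.FixBN Cfsg.Agent.FixBN.FieldRGD Cfsg.Agent.Schreier.BNSch

variable {I W Y : Type*} [Fintype I] [DecidableEq I] [Group W] [Group Y] {M : CoxeterMatrix I}
variable {cs : CoxeterSystem M W} {A : I → I → ℤ} {h : IsCartan M A} {r : ℕ} {T : Subgroup Y} {n : I → Y}
  {X : (I → ℤ) → Subgroup Y} [Finite W]

section

variable (R : RGD cs h r T n X) (hgen : RGD.B cs h T X ⊔ NN cs R.nsys = ⊤)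
  [hN : (((R.bnPair hgen).B ⊓ (R.bnPair hgen).N).subgroupOf (R.bnPair hgen).N).Normal]
  {M' : CoxeterMatrix (R.bnPair hgen).S} (cs' : CoxeterSystem M' (WP (R.bnPair hgen)))
  (hcs : ∀ i, cs'.simple i =
    QuotientGroup.mk (⟨(Equiv.refl (R.bnPair hgen).S i : Y), (R.bnPair hgen).subset (Equiv.refl (R.bnPair hgen).S i).2⟩ :
      (R.bnPair hgen).N))

/-- The panels of a node of type `SL₂` are projective lines. -/
theorem isLine_of_sl [Finite Y] [Fact r.Prime] (S : Split (R.bnPair hgen) r (Sup X (Pos cs h))) {i : I}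
    (H : SLNode cs h T n X i) (x : Y ⧸ (R.bnPair hgen).B) :
    ∃ (F : Type) (_ : Field F) (_ : Finite F), (2 : F) ≠ 0 ∧
      IsLine F ((OfBN.sys (Equiv.refl (R.bnPair hgen).S) cs' hcs S).fam (node R hgen i) x) := by
  obtain ⟨F, _, _, φ, b, hb, h2, hr, hi, hd, hw⟩ := H
  refine ⟨F, inferInstance, inferInstance, h2, ?_⟩
  have FN : FieldNode (R.bnPair hgen) (Sup X (Pos cs h)) (n i) (Sup X (PosNe cs h i)) F := by
    refine fieldNode_of_rgd R hgen i (fun a => φ (uu (b * a))) (fun a c => ?_) (fun y => ?_) (fun a ha => ?_)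
      (fun a ha => ?_)
    · rw [mul_add, uu_add, map_mul]
    · rw [hr]
      constructor
      · rintro ⟨a, rfl⟩
        exact ⟨b⁻¹ * a, by rw [mul_inv_cancel_left₀ hb]⟩
      · rintro ⟨a, rfl⟩
        exact ⟨_, rfl⟩
    · exact (mul_eq_zero.1 (hi _ ha)).resolve_left hb
    · show (φ (uu (b * -a⁻¹)) * n i)⁻¹ * (n i * φ (uu (b * a)) * n i) ∈ _
      rw [← hw, ← map_mul, ← map_mul, ← map_mul, ← map_inv, ← map_mul, inv_key ha hb, map_mul]
      exact mul_mem (hd _ _) (U_le_B (mem_U ((hr _).2 ⟨_, rfl⟩)))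
  exact isLine_fam S (Equiv.refl (R.bnPair hgen).S) cs' hcs (node R hgen i) (NodeRGD.node R hgen i) FN x
    fun y f => Iff.rfl

/-- **Automorphisms of order three.** -/
theorem stab_or_type [Finite Y] [Fact r.Prime] (S : Split (R.bnPair hgen) r (Sup X (Pos cs h)))
    (hT : Group.IsSolvable T) {a e b c : I} (N : Nodes4 cs a e b c) (hsl : SLNode cs h T n X e)
    {t : FixOdd.Tw (bldg (R.bnPair hgen) (Equiv.refl (R.bnPair hgen).S) cs' hcs) Y} (ho : t.Ord 3) :
    (∀ i, t.σ i = i) ∨ ∀ J z, t.Gd J z →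
      Group.IsSolvable ↥(t.cent ⊓ MulAction.stabilizer Y
        ((bldg (R.bnPair hgen) (Equiv.refl (R.bnPair hgen).S) cs' hcs).Res J z)) := by
  have hI : Finite (R.bnPair hgen).S := OfBN.finite_I (Equiv.refl (R.bnPair hgen).S)
  have hC : Tits.OppRes.Cox cs' := inferInstance
  have hinj : Function.Injective cs'.simple := hC.inj
  have hth := thick (R.bnPair hgen) (Equiv.refl (R.bnPair hgen).S) cs' hcs
  have N' := nodes4_bn R hgen cs' hcs N
  by_cases hσ : ∀ i, t.σ i = i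
  · exact Or.inl hσ
  push Not at hσ
  right
  -- the order of the type permutation
  have h3 : ∀ i, t.σ (t.σ (t.σ i)) = i := by
    intro i
    apply hinj
    rw [← t.φ_simple, ← t.φ_simple, ← t.φ_simple]
    obtain ⟨y, hy⟩ := (bldg (R.bnPair hgen) (Equiv.refl (R.bnPair hgen).S) cs' hcs).exists_δ
      (QuotientGroup.mk 1) (cs'.simple i)
    rw [← hy, ← t.δ_θ, ← t.δ_θ, ← t.δ_θ]
    have hcube : ∀ y, t.θ (t.θ (t.θ y)) = y := by
      intro y
      have h1 : (t.θ ^ 3 : Equiv.Perm _) y = y := by rw [ho.θ]; rfl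
      exact h1
    rw [hcube, hcube]
  obtain ⟨b', c', N'', hb, hc, ha, he⟩ := N'.cycle hinj t.φ_simple h3 hσ
  have hBs : Group.IsSolvable (R.bnPair hgen).B := isSolvable_B R hT
  intro J z hgd
  refine isSolvable_stab (OfBN.sys (Equiv.refl (R.bnPair hgen).S) cs' hcs S) hth hinj ho N'' hb hc ha he ?_ ?_ hgd
  · intro x
    obtain ⟨F, _, _, h2, hl⟩ := isLine_of_sl R hgen cs' hcs S hsl x
    exact hl.goodFamP h2 Nat.prime_three
  · exact fun x => isSolvable_stabilizer hBs x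

end

end Cfsg.Agent.BpTri

end

-- merged: Cfsg.Agent.BpTri.Norm
section

/-!
# The normaliser of the groups `P Q` in the centraliser (S1332, triality)

`isSolvable_normalizer` : `BpHecke.Norm.isSolvable_normalizer` with a bound for the number of the elements of the Weyl
group fixed by the type automorphism instead of the bound for its order.
-/

set_option autoImplicit false
set_option linter.unusedSectionVars false

open scoped Pointwise

namespace Cfsg.Agent.BpTri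

open Cfsg.Agent.Tits.Core Cfsg.Agent.Tits.Core.Bldg Cfsg.Agent.Tits.Exchange Cfsg.Agent.Tits
open Cfsg.Agent.FixBN (Sys)
open Cfsg.Agent.FixOdd Cfsg.Agent.FixOdd.Tw
open Cfsg.Agent.BpHecke.Norm

variable {I : Type*} {M : CoxeterMatrix I} {W : Type*} [Group W] {cs : CoxeterSystem M W} {C : Type*}

variable {Δ : Bldg cs C} {G : Type*} [Group G] [MulAction G C] {p r : ℕ} {t : Tw Δ G}
  [F : OppRes.Cox cs] [Finite I] [Finite G] [hp : Fact p.Prime] [hr : Fact r.Prime] [Finite C]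

/-- **The normaliser of `P Q`.** -/
theorem isSolvable_normalizer (S : Sys Δ G p) (hth : Δ.Thick) (ho : t.Ord r) (hrp : r ≠ p) {J : Set I} {x : C}
    (h : t.Gd J x) (hfin : {w : W | t.φ w = w}.Finite) (hW : {w : W | t.φ w = w}.ncard ≤ 16)
    (h4 : Group.IsSolvable ↥(t.cent ⊓ MulAction.stabilizer G (Δ.Res J x))) :
    Group.IsSolvable ↥(Subgroup.normalizer
      (((t.P S (Δ.Res J x)).subgroupOf t.cent : Subgroup ↥t.cent) : Set ↥t.cent)) := by
  have hmem : ∀ g : ↥t.cent, g ∈ Subgroup.normalizer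
      (((t.P S (Δ.Res J x)).subgroupOf t.cent : Subgroup ↥t.cent) : Set ↥t.cent) →
      ∀ u, u ∈ t.P S (Δ.Res J x) ↔ (g : G) * u * (g : G)⁻¹ ∈ t.P S (Δ.Res J x) := by
    intro g hg u
    rw [Subgroup.mem_normalizer_iff] at hg
    constructor
    · intro hu
      exact Subgroup.mem_subgroupOf.1 ((hg ⟨u, hu.1⟩).1 (Subgroup.mem_subgroupOf.2 hu))
    · intro hu
      have huc : u ∈ t.cent := by
        have h1 := t.cent.mul_mem (t.cent.mul_mem (t.cent.inv_mem g.2) hu.1) g.2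
        have h2 : (g : G)⁻¹ * ((g : G) * u * (g : G)⁻¹) * g = u := by group
        rwa [h2] at h1
      exact Subgroup.mem_subgroupOf.1 ((hg ⟨u, huc⟩).2 (Subgroup.mem_subgroupOf.2 hu))
  set N := Subgroup.normalizer
    (((t.P S (Δ.Res J x)).subgroupOf t.cent : Subgroup ↥t.cent) : Set ↥t.cent) with hNdef
  have hsame : ∀ n : ↥N, Same t S J x (((n : ↥t.cent) : G) • x) := fun n =>
    ⟨gd_smul S h (n : ↥t.cent).2, P_smul S (n : ↥t.cent).2 (hmem _ n.2)⟩
  let D : Subgroup ↥N :=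
    { carrier := {n | ((n : ↥t.cent) : G) • Δ.Res J x = Δ.Res J x}
      one_mem' := one_smul _ _
      mul_mem' := by
        intro a b (ha : ((a : ↥t.cent) : G) • Δ.Res J x = Δ.Res J x)
          (hb : ((b : ↥t.cent) : G) • Δ.Res J x = Δ.Res J x)
        change (((a : ↥t.cent) : G) * ((b : ↥t.cent) : G)) • Δ.Res J x = Δ.Res J x
        rw [mul_smul, hb, ha]
      inv_mem' := by
        intro a (ha : ((a : ↥t.cent) : G) • Δ.Res J x = Δ.Res J x)
        change (((a : ↥t.cent) : G)⁻¹) • Δ.Res J x = Δ.Res J x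
        rw [inv_smul_eq_iff, ha] }
  have hD : ∀ n : ↥N, n ∈ D ↔ ((n : ↥t.cent) : G) • Δ.Res J x = Δ.Res J x := fun n => Iff.rfl
  have hDn : D.Normal := by
    constructor
    intro c hc g
    rw [hD] at hc ⊢
    -- `c` stabilises `g⁻¹ Q`
    have h1 : Same t S J x ((((g⁻¹ : ↥N) : ↥t.cent) : G) • x) := hsame g⁻¹
    have h2 : Same t S J x ((((c * g⁻¹ : ↥N) : ↥t.cent) : G) • x) := hsame (c * g⁻¹)
    have h3 := smul_of_stab S hth ho hrp h h1 hc (by
      have e : (((c * g⁻¹ : ↥N) : ↥t.cent) : G) = ((c : ↥t.cent) : G) * (((g⁻¹ : ↥N) : ↥t.cent) : G) := rfl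
      rw [e, mul_smul] at h2
      exact h2)
    rw [← S.smul_Res] at h3
    have e : (((g * c * g⁻¹ : ↥N) : ↥t.cent) : G) =
        ((g : ↥t.cent) : G) * (((c : ↥t.cent) : G) * (((g⁻¹ : ↥N) : ↥t.cent) : G)) := by
      change ((g : ↥t.cent) : G) * ((c : ↥t.cent) : G) * (((g⁻¹ : ↥N) : ↥t.cent) : G) = _
      rw [mul_assoc]
    rw [e, mul_smul, mul_smul, h3, ← mul_smul]
    change (((g * g⁻¹ : ↥N) : ↥t.cent) : G) • _ = _
    rw [mul_inv_cancel]
    exact one_smul _ _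
  rw [Group.isSolvable_iff_subgroup_quotient D]
  constructor
  · let f : ↥D →* ↥(t.cent ⊓ MulAction.stabilizer G (Δ.Res J x)) :=
      { toFun := fun d => ⟨((d : ↥N) : ↥t.cent), ((d : ↥N) : ↥t.cent).2, d.2⟩
        map_one' := rfl
        map_mul' := fun _ _ => rfl }
    refine Group.isSolvable_of_isSolvable_injective (f := f) ?_
    intro a b hab
    apply Subtype.ext
    apply Subtype.ext
    apply Subtype.ext
    have h1 := congrArg Subtype.val hab
    exact h1
  · refine isSolvable_of_card_le (le_trans ?_ hW)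
    choose pos hpos using fun n : ↥N => exists_pos S h (hsame n)
    have : Finite ↥{w : W | t.φ w = w} := hfin
    rw [← Nat.card_coe_set_eq]
    refine Nat.card_le_card_of_injective (β := ↥{w : W | t.φ w = w})
      (fun q : ↥N ⧸ D => ⟨pos q.out, (hpos q.out).2.1⟩) ?_
    intro a b hab
    obtain ⟨hpa, hφa, ya, hya, ea⟩ := hpos a.out
    obtain ⟨hpb, hφb, yb, hyb, eb⟩ := hpos b.out
    have hab' : pos a.out = pos b.out := congrArg Subtype.val hab
    have h1 := eq_of_pos S hth ho hrp h (hsame a.out) (hsame b.out) hpa hφa hya hyb ea (by rw [eb, hab'])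
    rw [← S.smul_Res, ← S.smul_Res] at h1
    rw [← QuotientGroup.out_eq' a, ← QuotientGroup.out_eq' b, QuotientGroup.eq, hD]
    change (((((a.out : ↥N)⁻¹ : ↥N) : ↥t.cent) : G) * (((b.out : ↥N) : ↥t.cent) : G)) • Δ.Res J x = _
    rw [mul_smul, ← h1]
    change ((((a.out : ↥N) : ↥t.cent) : G)⁻¹) • _ = _
    rw [inv_smul_smul]

end Cfsg.Agent.BpTri

end

-- merged: Cfsg.Agent.BpTri.PtStab
section

/-!
# Point stabilisers contain the normalisers of Sylow subgroups (S1332, triality)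

`F` finite of characteristic `p`, `P Q = E Q / Z(E Q)`: the normaliser of a Sylow `p`-subgroup of `P Q` stabilises a
singular point.
-/

set_option autoImplicit false

namespace Cfsg.Agent.BpTri

open QuadraticMap Cfsg.Agent.LieClassical.OrthCore Cfsg.Agent.LieClassical.OrthTrans
  Cfsg.Agent.LieClassical.OrthSimple Cfsg.Agent.LieClassical.OrthFinite
  Cfsg.Agent.ClassicalGeometry.OrthAut1 Cfsg.Agent.ClassicalGeometry.OrthAut2
  Cfsg.Agent.ClassicalGeometry.OrthAut2b Cfsg.Agent.ClassicalGeometry.OrthAut3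

variable {F V : Type*} [Field F] [AddCommGroup V] [Module F V] {Q : QuadraticForm F V}

theorem exists_perp_ne (hG : Good Q) {u v : V} (hu : Q u = 0) (hu0 : u ≠ 0) (hv : ∀ c : F, v ≠ c • u) : ∃ w, polar Q u w = 0 ∧ polar Q w v ≠ 0 := by
  by_contra hcon
  push Not at hcon
  obtain ⟨z, hz⟩ := Cfsg.Agent.LieClassical.OrthTrans.exists_hyp hG.nondeg hu hu0
  apply hv (polar Q z v)
  rw [← sub_eq_zero]
  apply hG.nondeg
  intro x
  -- decompose `x`
  have h1 : polar Q u (x - polar Q u x • z) = 0 := by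
    rw [polar_sub_right, polar_smul_right, hz.pair, smul_eq_mul, mul_one, sub_self]
  have h2 := hcon _ h1
  rw [polar_sub_left, polar_smul_left, sub_eq_zero, smul_eq_mul] at h2
  rw [polar_sub_left, polar_smul_left, polar_comm Q v x, h2, smul_eq_mul, mul_comm, sub_self]

theorem normalizer_le_stab [Finite F] [FiniteDimensional F V] (hG : Good Q) (p : ℕ)
    [hp : Fact p.Prime] [CharP F p] (S : Sylow p (P Q)) :
    ∃ u : V, u ≠ 0 ∧ Q u = 0 ∧
      Subgroup.normalizer ((S : Subgroup (P Q)) : Set (P Q)) ≤ stab hG (Submodule.span F {u}) := by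
  obtain ⟨u, hu0, hu, hS, hUP⟩ := sylow_ge hG p S
  refine ⟨u, hu0, hu, fun n hn => ?_⟩
  have hne : (S : Subgroup (P Q)) ≠ ⊤ := by
    intro h
    apply stab_ne_top hG (TS_span hu) (Submodule.mem_span_singleton_self u) hu0
    rw [h] at hS
    exact top_le_iff.1 hS
  obtain ⟨g, rfl⟩ := QuotientGroup.mk_surjective n
  have hv : Q ((g : V ≃ₗ[F] V) u) = 0 := by rw [Q_apply, hu]
  have hpact : pact hG (g : P Q) (Submodule.span F {u}) = Submodule.span F {(g : V ≃ₗ[F] V) u} := by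
    rw [pact_mk, mapHom_span]
  have hn' : ∀ s, s ∈ (S : Subgroup (P Q)) ↔ (g : P Q) * s * (g : P Q)⁻¹ ∈ (S : Subgroup (P Q)) :=
    Subgroup.mem_normalizer_iff.1 hn
  -- the second point
  have hUPv : UP Q (Submodule.span F {(g : V ≃ₗ[F] V) u}) ≤ S := by
    intro t ht
    have h1 : (g : P Q)⁻¹ * t * (g : P Q)⁻¹⁻¹ ∈ UP Q (Submodule.span F {u}) := by
      have h2 := conj_mem_UP hG (p := (g : P Q)⁻¹) ht
      rwa [← hpact, ← Equiv.Perm.mul_apply, ← map_mul, inv_mul_cancel, map_one] at h2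
    have h3 := (hn' _).1 (hUP h1)
    have h4 : (g : P Q) * ((g : P Q)⁻¹ * t * (g : P Q)⁻¹⁻¹) * (g : P Q)⁻¹ = t := by group
    rwa [h4] at h3
  have hSv : (S : Subgroup (P Q)) ≤ stab hG (Submodule.span F {(g : V ≃ₗ[F] V) u}) := by
    intro s hs
    have h1 : (g : P Q)⁻¹ * s * (g : P Q) ∈ (S : Subgroup (P Q)) := by
      rw [hn']
      have h4 : (g : P Q) * ((g : P Q)⁻¹ * s * (g : P Q)) * (g : P Q)⁻¹ = s := by group
      rwa [h4]
    have h2 := mem_stab.1 (hS h1)
    rw [mem_stab, ← hpact, ← Equiv.Perm.mul_apply, ← map_mul]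
    have h3 : s * (g : P Q) = (g : P Q) * ((g : P Q)⁻¹ * s * (g : P Q)) := by group
    rw [h3, map_mul, Equiv.Perm.mul_apply, h2]
  have hpol : polar Q u ((g : V ≃ₗ[F] V) u) = 0 :=
    polar_eq_zero_of_mem_spanW hG hne (Submodule.subset_span ⟨hu, hUP⟩) (Submodule.subset_span ⟨hv, hUPv⟩)
  rw [mem_stab, hpact]
  by_contra hcon
  have hnot : ∀ c : F, (g : V ≃ₗ[F] V) u ≠ c • u := by
    intro c hc
    apply hcon
    have hc0 : c ≠ 0 := by
      rintro rfl
      rw [zero_smul] at hc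
      exact hu0 ((g : V ≃ₗ[F] V).map_eq_zero_iff.1 hc)
    rw [hc]
    exact Submodule.span_singleton_smul_eq (IsUnit.mk0 c hc0) u
  obtain ⟨w, hw, hwv⟩ := exists_perp_ne hG hu hu0 hnot
  have h1 : ((sg u w hu hw : ↥(E Q)) : P Q) ∈ stab hG (Submodule.span F {(g : V ≃ₗ[F] V) u}) :=
    hSv (hUP ((mem_UP_span_iff hG.nondeg hu hu0).2 ⟨w, hw, rfl⟩))
  rw [mem_stab, pact_mk, mapHom_span] at h1
  have h2 : ((sg u w hu hw : ↥(E Q)) : V ≃ₗ[F] V) ((g : V ≃ₗ[F] V) u) ∈
      Submodule.span F {(g : V ≃ₗ[F] V) u} := by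
    rw [← h1]
    exact Submodule.mem_span_singleton_self _
  rw [sg_apply, hpol, zero_smul, add_zero, mul_zero, zero_smul, sub_zero] at h2
  have h3 : polar Q w ((g : V ≃ₗ[F] V) u) • u ∈ Submodule.span F {(g : V ≃ₗ[F] V) u} := by
    have h4 := Submodule.sub_mem _ (Submodule.mem_span_singleton_self ((g : V ≃ₗ[F] V) u)) h2
    rwa [sub_sub_cancel] at h4
  have h4 : u ∈ Submodule.span F {(g : V ≃ₗ[F] V) u} := by
    have h5 := Submodule.smul_mem _ (polar Q w ((g : V ≃ₗ[F] V) u))⁻¹ h3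
    rwa [smul_smul, inv_mul_cancel₀ hwv, one_smul] at h5
  obtain ⟨c, hc⟩ := Submodule.mem_span_singleton.1 h4
  have hc0 : c ≠ 0 := by
    rintro rfl
    rw [zero_smul] at hc
    exact hu0 hc.symm
  apply hnot c⁻¹
  rw [← hc, smul_smul, inv_mul_cancel₀ hc0, one_smul, hc]

end Cfsg.Agent.BpTri

end

-- merged: Cfsg.Agent.BpTri.LinkPt
section

/-!
# Type preserving automorphisms permute the singular points (S1332, triality)

`pt_of_type` : `Y ≃ P Q`, `Y` with a split (B, N)-pair of characteristic `r = char F`: an automorphism of `Y` mapping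
every overgroup of a Borel subgroup to one of its conjugates permutes the stabilisers of the singular points.
-/

set_option autoImplicit false

namespace Cfsg.Agent.BpTri

open QuadraticMap Cfsg.Agent.LieClassical.OrthCore Cfsg.Agent.LieClassical.OrthTrans
  Cfsg.Agent.LieClassical.OrthSimple Cfsg.Agent.LieClassical.OrthFinite
  Cfsg.Agent.ClassicalGeometry.OrthAut1 Cfsg.Agent.ClassicalGeometry.OrthAut2
  Cfsg.Agent.ClassicalGeometry.OrthAut2b Cfsg.Agent.ClassicalGeometry.OrthAut3 Cfsg.Agent.AutOrth.Main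

variable {F V : Type*} [Field F] [AddCommGroup V] [Module F V] {Q : QuadraticForm F V}

theorem map_conj_stab (hG : Good Q) (q : P Q) (W : Submodule F V) :
    (stab hG W).map (MulAut.conj q).toMonoidHom = stab hG (pact hG q W) := by
  ext m
  rw [mem_stab]
  constructor
  · rintro ⟨s, hs, rfl⟩
    change pact hG (q * s * q⁻¹) (pact hG q W) = pact hG q W
    rw [← Equiv.Perm.mul_apply, ← map_mul, inv_mul_cancel_right, map_mul, Equiv.Perm.mul_apply]
    exact congrArg _ hs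
  · intro h
    refine ⟨q⁻¹ * m * q, ?_, ?_⟩
    · change pact hG (q⁻¹ * m * q) W = W
      rw [map_mul, Equiv.Perm.mul_apply, map_mul, Equiv.Perm.mul_apply, h, ← Equiv.Perm.mul_apply, ← map_mul,
        inv_mul_cancel, map_one]
      rfl
    · change q * (q⁻¹ * m * q) * q⁻¹ = m
      group

theorem pt_of_map (hG : Good Q) {α : MulAut (P Q)} {u : V} (hu : Q u = 0) (hu0 : u ≠ 0) {k : P Q}
    (h : (stab hG (Submodule.span F {u})).map α.toMonoidHom =
      (stab hG (Submodule.span F {u})).map (MulAut.conj k).toMonoidHom) : Pt hG α := by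
  intro x hx hx0
  obtain ⟨q, hq⟩ := exists_pact_eq hG hu hx hu0 hx0
  obtain ⟨g, hg⟩ := QuotientGroup.mk_surjective (α q * k)
  refine ⟨(g : V ≃ₗ[F] V) u, by rw [Q_apply, hu], fun h0 => hu0 ((g : V ≃ₗ[F] V).map_eq_zero_iff.1 h0), ?_⟩
  rw [← mapHom_span, ← pact_mk hG, hg, ← hq, ← map_conj_stab, ← map_conj_stab, map_mul]
  -- both sides are conjugates of `stab u`
  have h1 : (Subgroup.map (MulAut.conj q).toMonoidHom (stab hG (Submodule.span F {u}))).map α.toMonoidHom =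
      ((stab hG (Submodule.span F {u})).map α.toMonoidHom).map (MulAut.conj (α q)).toMonoidHom := by
    rw [Subgroup.map_map, Subgroup.map_map]
    congr 1
    ext m
    change α (q * m * q⁻¹) = α q * α m * (α q)⁻¹
    rw [map_mul, map_mul, map_inv]
  rw [h1, h, Subgroup.map_map]
  rfl

open Cfsg.Agent.FixBN in
theorem pt_of_type [Finite F] [FiniteDimensional F V] (hG : Good Q) (r : ℕ) [hr : Fact r.Prime] [CharP F r]
    {Y : Type*} [Group Y] [Finite Y] (e : Y ≃* P Q) {B : Cfsg.BNPair Y} {U : Subgroup Y} (S : Split B r U)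
    (x : MulAut Y) (hx : ∀ L : Subgroup Y, (∃ g, ∀ b ∈ B.B, g * b * g⁻¹ ∈ L) →
      ∃ k, L.map x.toMonoidHom = L.map (MulAut.conj k).toMonoidHom) : Pt hG (MulAut.congr e x) := by
  obtain ⟨Sy⟩ : Nonempty (Sylow r (P Q)) := inferInstance
  obtain ⟨u, hu0, hu, hN⟩ := normalizer_le_stab hG r Sy
  -- the Sylow subgroup of `Y`
  set V' : Subgroup Y := (Sy : Subgroup (P Q)).map e.symm.toMonoidHom with hV'
  have hVp : IsPGroup r V' := Sy.isPGroup'.map _
  obtain ⟨c, hc⟩ := OfBN.exists_fix S V' hVp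
  have hle := OfBN.max S c V' hVp hc
  obtain ⟨g, rfl⟩ := QuotientGroup.mk_surjective c
  -- `e (g U g⁻¹) = Sy`
  have hSy : ((OfBN.UU B U (QuotientGroup.mk g)).map e.toMonoidHom) = (Sy : Subgroup (P Q)) := by
    refine Sy.is_maximal' ((OfBN.isP S _).map _) ?_
    intro s hs
    refine ⟨e.symm s, hle ⟨s, hs, rfl⟩, ?_⟩
    change e (e.symm s) = s
    exact e.apply_symm_apply s
  have hmem : ∀ v : Y, e v ∈ (Sy : Subgroup (P Q)) ↔ g⁻¹ * v * g ∈ U := by
    intro v
    rw [← hSy, ← OfBN.mem_UU S]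
    constructor
    · rintro ⟨w, hw, hw2⟩
      have : w = v := e.injective hw2
      rwa [← this]
    · exact fun h => ⟨v, h, rfl⟩
  set L : Subgroup Y := (stab hG (Submodule.span F {u})).comap e.toMonoidHom with hL
  obtain ⟨k, hk⟩ := hx L ⟨g, fun b hb => by
    change e (g * b * g⁻¹) ∈ stab hG (Submodule.span F {u})
    apply hN
    rw [Subgroup.mem_normalizer_iff]
    intro s
    obtain ⟨v, rfl⟩ := e.surjective s
    rw [← map_inv, ← map_mul, ← map_mul, hmem, hmem]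
    have h1 : g⁻¹ * (g * b * g⁻¹ * v * (g * b * g⁻¹)⁻¹) * g = b * (g⁻¹ * v * g) * b⁻¹ := by group
    rw [h1]
    have h2 : b ∈ Subgroup.normalizer (U : Set Y) := by rw [S.normalizer_eq]; exact hb
    exact Subgroup.mem_normalizer_iff.1 h2 _⟩
  refine pt_of_map hG hu hu0 (k := e k) ?_
  have hLmap : stab hG (Submodule.span F {u}) = L.map e.toMonoidHom := by
    rw [hL, Subgroup.map_comap_eq_self_of_surjective e.surjective]
  have h1 : (L.map e.toMonoidHom).map (MulAut.congr e x).toMonoidHom = (L.map x.toMonoidHom).map e.toMonoidHom := by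
    rw [Subgroup.map_map, Subgroup.map_map]
    congr 1
    ext m
    change e (x (e.symm (e m))) = e (x m)
    rw [e.symm_apply_apply]
  have h2 : (L.map e.toMonoidHom).map (MulAut.conj (e k)).toMonoidHom =
      (L.map (MulAut.conj k).toMonoidHom).map e.toMonoidHom := by
    rw [Subgroup.map_map, Subgroup.map_map]
    congr 1
    ext m
    change e k * e m * (e k)⁻¹ = e (k * m * k⁻¹)
    rw [map_mul, map_mul, map_inv]
  rw [hLmap, h1, h2, hk]

end Cfsg.Agent.BpTri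

end

-- merged: Cfsg.Agent.BpTri.Main
section

/-!
# Automorphisms of order three of groups with root group data of type `D₄` (S1332, triality)

`good_or_type` : `Y` with a root group datum of type `D₄`, finite, of characteristic `r ≠ 3`, whose central node is of
type `SL₂`: an automorphism of order three is type preserving or its fixed points are `Good 3`.
-/

set_option autoImplicit false
set_option linter.unusedSectionVars false

open scoped Pointwise

namespace Cfsg.Agent.BpTri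

open CoxeterSystem Cfsg.Agent.ChevalleyStructure.CoxeterGeom Cfsg.Agent.Tits.Roots Cfsg.Agent.Tits.Core
  Cfsg.Agent.Tits.RootComb Cfsg.Agent.Nodes.Comb Cfsg.Agent.Nodes.Reps Cfsg.Agent.Nodes.BNOf Cfsg.Agent.Nodes.BNOf.RGD
  Cfsg.Agent.Tits.OfBN Cfsg.Agent.FixBN Cfsg.Agent.FixBN.FieldRGD Cfsg.Agent.Schreier.BNSch
  Cfsg.Agent.OddHalf.Table.AutRGD Cfsg.Agent.BpTab Cfsg.Agent.Schreier.Basic

section Perm

variable {I : Type*} {M : CoxeterMatrix I} {W : Type*} [Group W] {cs : CoxeterSystem M W} {a e b c b' c' : I}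

theorem Nodes4.mul_eq (n : Nodes4 cs a e b c) (n' : Nodes4 cs a e b' c') :
    cs.simple b' * cs.simple c' = cs.simple b * cs.simple c := by
  rcases n.cov b' with h | h | h | h
  · exact (n'.ab h.symm).elim
  · exact (n'.be h).elim
  · rcases n.cov c' with h' | h' | h' | h'
    · exact (n'.ac h'.symm).elim
    · exact (n'.ce h').elim
    · exact (n'.bc (h.trans h'.symm)).elim
    · rw [h, h']
  · rcases n.cov c' with h' | h' | h' | h'
    · exact (n'.ac h'.symm).elim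
    · exact (n'.ce h').elim
    · rw [h, h', n.rel.bd]
    · exact (n'.bc (h.trans h'.symm)).elim

end Perm

variable {I W Y : Type*} [Fintype I] [DecidableEq I] [Group W] [Group Y] {M : CoxeterMatrix I}
variable {cs : CoxeterSystem M W} {A : I → I → ℤ} {h : IsCartan M A} {r : ℕ} {T : Subgroup Y} {n : I → Y}
  {X : (I → ℤ) → Subgroup Y} [Finite W]

/-- **Automorphisms of order three.** -/
theorem good_or_type [Finite Y] [Fact r.Prime] (R : RGD cs h r T n X) (hgen : RGD.B cs h T X ⊔ NN cs R.nsys = ⊤)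
    (hcore : (RGD.B cs h T X).normalCore = ⊥) (hT : Group.IsSolvable T) {a e b c : I} (N : Nodes4 cs a e b c)
    (h6 : cs.wordProd [e, a, b, c, e, a, b, c, e, a, b, c, e, a, b, c, e, a, b, c, e, a, b, c] = 1)
    (hsl : SLNode cs h T n X e) (hr3 : 3 ≠ r) {x : MulAut Y} (hx : orderOf x = 3)
    (hS : ∀ J : Subgroup ↥(Cfsg.fixedSubgroup x), IsComponent J → Sch (↥J ⧸ Subgroup.center ↥J)) :
    Good 3 ↥(Cfsg.fixedSubgroup x) ∨ ∃ (B : Cfsg.BNPair Y) (U : Subgroup Y), Split B r U ∧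
      ∀ L : Subgroup Y, (∃ g, ∀ b ∈ B.B, g * b * g⁻¹ ∈ L) →
        ∃ k, L.map x.toMonoidHom = L.map (MulAut.conj k).toMonoidHom := by
  have : Fact (Nat.Prime 3) := ⟨Nat.prime_three⟩
  obtain ⟨hN, -, -, hW, S⟩ := exists_setup R hgen hcore
  obtain ⟨M', cs', hcs⟩ := Cfsg.Agent.S0320.result (R.bnPair hgen)
  obtain ⟨t, ht, hθ⟩ := FixOdd.exists_tw S (Equiv.refl (R.bnPair hgen).S) cs' hcs x
  have hx3 : x ^ 3 = 1 := by rw [← hx]; exact pow_orderOf_eq_one x
  have ho : t.Ord 3 := ⟨by rw [ht]; exact hx3, hθ 3 hx3⟩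
  have hI : Finite (R.bnPair hgen).S := OfBN.finite_I (Equiv.refl (R.bnPair hgen).S)
  have hC : Tits.OppRes.Cox cs' := inferInstance
  have hinj : Function.Injective cs'.simple := hC.inj
  have hth := thick (R.bnPair hgen) (Equiv.refl (R.bnPair hgen).S) cs' hcs
  by_cases hσ : ∀ i, t.σ i = i
  · refine Or.inr ⟨R.bnPair hgen, _, S, ?_⟩
    rintro L ⟨g, hg⟩
    rw [← ht]
    exact map_eq_of_type S (Equiv.refl (R.bnPair hgen).S) cs' hcs t hσ L hg
  left
  have hst : ∀ J z, t.Gd J z → Group.IsSolvable ↥(t.cent ⊓ MulAction.stabilizer Y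
        ((bldg (R.bnPair hgen) (Equiv.refl (R.bnPair hgen).S) cs' hcs).Res J z)) :=
    (stab_or_type R hgen cs' hcs S hT N hsl ho).resolve_left hσ
  push Not at hσ
  have N' := nodes4_bn R hgen cs' hcs N
  have hcent : t.cent = Cfsg.fixedSubgroup x := by
    ext g
    rw [t.mem_cent, ht]
    exact Iff.rfl
  -- the order of the type permutation
  have h3 : ∀ i, t.σ (t.σ (t.σ i)) = i := by
    intro i
    apply hinj
    rw [← t.φ_simple, ← t.φ_simple, ← t.φ_simple]
    obtain ⟨y, hy⟩ := (bldg (R.bnPair hgen) (Equiv.refl (R.bnPair hgen).S) cs' hcs).exists_δ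
      (QuotientGroup.mk 1) (cs'.simple i)
    rw [← hy, ← t.δ_θ, ← t.δ_θ, ← t.δ_θ]
    have hcube : ∀ y, t.θ (t.θ (t.θ y)) = y := by
      intro y
      have h1 : (t.θ ^ 3 : Equiv.Perm _) y = y := by rw [ho.θ]; rfl
      exact h1
    rw [hcube, hcube]
  obtain ⟨b', c', N'', hb, hc, ha, he⟩ := N'.cycle hinj t.φ_simple h3 hσ
  -- the fixed elements of the Weyl group
  have hcard : {w | t.φ w = w}.ncard ≤ 12 := by
    refine card_fixed_le N'' hinj ?_ ?_ ?_ ?_ ?_ ?_
    · exact length_map (bldg (R.bnPair hgen) (Equiv.refl (R.bnPair hgen).S) cs' hcs) t.φ_simple t.δ_θ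
        (QuotientGroup.mk 1)
    · rw [t.φ_simple, hb]
    · rw [t.φ_simple, hc]
    · rw [t.φ_simple, ha]
    · rw [t.φ_simple, he]
    · have h7 := word_bn R hgen cs' hcs _ h6
      rw [N'.mul_eq N'']
      simpa [pow_succ, mul_assoc] using h7
  let Sy := OfBN.sys (Equiv.refl (R.bnPair hgen).S) cs' hcs S
  obtain ⟨x0, -⟩ := Sy.exists_fix ⊥ IsPGroup.of_bot
  obtain ⟨J, -, z, -, hz⟩ := FixOdd.Tw.exists_gd (t := t) (J := Set.univ) (x := x0) (fun _ _ => Set.mem_univ _) (by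
    rw [Bldg.Res_univ]; exact Set.mem_univ _)
  have hU : t.HU Sy := fun V hV hVp => FixOdd.Tw.exists_UR_smith Sy hth ho hV hVp
  obtain ⟨P, hP⟩ := FixOdd.Tw.exists_sylow Sy hth hU ho hr3 hz
  have h5 := isSolvable_normalizer Sy hth ho hr3 hz (Set.toFinite _) (hcard.trans (by norm_num)) (hst J z hz)
  rw [← hP] at h5
  rw [← hcent] at hS ⊢
  exact BpGate.good_of_isSolvable (FixOdd.Tw.gsys Sy hth hU ho hr3) (FixOdd.Tw.inter Sy hth)
    (FixOdd.Tw.opp Sy hth hU ho hr3) hS P h5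

end Cfsg.Agent.BpTri

end

-- merged: Cfsg.Agent.BpTri.Tri
section

/-!
# `POmega8+(q)`, `q` prime to `6`: the automorphisms of order three which are not induced by semisimilitudes (S1332)

`triOdd : BpCl.TriOdd`.
-/

set_option autoImplicit false

namespace Cfsg.Agent.BpTri

open Cfsg Cfsg.Lie Cfsg.Agent.BpTab Cfsg.Agent.BpCl QuadraticMap
open Cfsg.Agent.ChevalleyStructure Cfsg.Agent.ChevalleyStructure.CoxeterGeomTypes Cfsg.Agent.Nodes.RGDChev
  Cfsg.Agent.FixBN Cfsg.Agent.Nodes.BNOf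
open Cfsg.Agent.LieClassical.OrthCore Cfsg.Agent.LieClassical.OrthForms Cfsg.Agent.ClassicalGeometry.OrthSemi
  Cfsg.Agent.ClassicalGeometry.OrthSemiForms Cfsg.Agent.ClassicalGeometry.OrthAut1

theorem isType_D4 : IsType chevD4 4 coxeterD4 := by simp [IsType, typeList]

/-- `D₄(F)`, automorphisms of order three. -/
theorem d4_good_or_type (hS : Schreier.Cases.SchFor.{0} @IsKnownSimple')
    (hkn : ∀ (X : Type) [Group X] [Finite X] [IsSimpleGroup X], IsKnownSimple' X)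
    {F : Type} [Field F] [Fintype F] (h2 : (2 : F) ≠ 0) {r : ℕ} [Fact r.Prime] [CharP F r] (hr3 : 3 ≠ r)
    {x : MulAut ↥(chevD4.group F)} (hx : orderOf x = 3) :
    Good 3 ↥(Cfsg.fixedSubgroup x) ∨ ∃ (B : Cfsg.BNPair ↥(chevD4.group F)) (U : Subgroup ↥(chevD4.group F)),
      Split B r U ∧ ∀ L : Subgroup ↥(chevD4.group F), (∃ g, ∀ b ∈ B.B, g * b * g⁻¹ ∈ L) →
        ∃ k, L.map x.toMonoidHom = L.map (MulAut.conj k).toMonoidHom := by
  have hs : IsSimpleGroup ↥(chevD4.group F) := by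
    obtain ⟨e⟩ := Cfsg.Agent.S1082.result (F := F)
    have h1 := Cfsg.Agent.S0296.result (F := F) 4 le_rfl
    exact e.isSimpleGroup
  have : Finite coxeterD4.Group := finite_W isType_D4 coxeterD4.toCoxeterSystem
  have hR := rgd (K := F) isType_D4 coxeterD4.toCoxeterSystem r
  have hgen := gen (K := F) isType_D4 coxeterD4.toCoxeterSystem r
  have hcore : (RGD.B coxeterD4.toCoxeterSystem isType_D4.isCartan
      ((chevD4.diagonalSubgroup F).subgroupOf (chevD4.group F))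
      (fun x => (XV chevD4 4 F x).subgroupOf (chevD4.group F))).normalCore = ⊥ := by
    rcases (inferInstance : (RGD.B coxeterD4.toCoxeterSystem isType_D4.isCartan
      ((chevD4.diagonalSubgroup F).subgroupOf (chevD4.group F))
      (fun x => (XV chevD4 4 F x).subgroupOf (chevD4.group F))).normalCore.Normal).eq_bot_or_eq_top with h1 | h1
    · exact h1
    · exfalso
      apply hR.not_neg_le_B 0
      intro x _
      have h2 : x ∈ (RGD.B coxeterD4.toCoxeterSystem isType_D4.isCartan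
        ((chevD4.diagonalSubgroup F).subgroupOf (chevD4.group F))
        (fun x => (XV chevD4 4 F x).subgroupOf (chevD4.group F))).normalCore := by rw [h1]; exact Subgroup.mem_top x
      exact Subgroup.normalCore_le _ h2
  refine good_or_type hR hgen hcore (ChevGood.isSolvable_T F isType_D4) (nodes4_D4 coxeterD4.toCoxeterSystem)
    (six_D4 coxeterD4.toCoxeterSystem) (ChevGood.slNode isType_D4 coxeterD4.toCoxeterSystem F h2 1) hr3 hx fun J hJ => ?_
  have hQ : IsQuasisimple ↥J := hJ.2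
  have := hQ.2
  exact hS _ (Schreier.KBalance.not_isMulCommutative_quotient hQ) (hkn _)

/-- **The triality automorphisms**, `q` prime to `6`. -/
theorem triOdd_of (hS : Schreier.Cases.SchFor.{0} @IsKnownSimple')
    (hkn : ∀ (X : Type) [Group X] [Finite X] [IsSimpleGroup X], IsKnownSimple' X) : TriOdd := by
  intro F _ _ h2 h3 x hx hnot
  obtain ⟨r, hr, hc⟩ := exists_char F
  have : Fact r.Prime := ⟨hr⟩
  have hr3 : 3 ≠ r := by
    rintro rfl
    apply h3
    exact_mod_cast (CharP.cast_eq_zero_iff F 3 3).2 dvd_rfl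
  have hG := good_plus (F := F) (m := 4) (by omega)
  obtain ⟨e0⟩ := Cfsg.Agent.S1082.result (F := F)
  rw [← coe_plusForm] at e0
  let e : ↥(chevD4.group F) ≃* P (plusForm 4 F) := e0.trans (pomegaEquiv hG)
  have : Finite ↥(E (plusForm 4 F)) := finite_subgroup _
  let y : MulAut ↥(chevD4.group F) := (MulAut.congr e).symm x
  have hy : orderOf y = 3 := by
    rw [← hx]
    exact orderOf_injective (MulAut.congr e).symm.toMonoidHom (MulAut.congr e).symm.injective x
  have key : ∀ k, e (y k) = x (e k) := by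
    intro k
    change e (e.symm (x (e k))) = x (e k)
    exact e.apply_symm_apply _
  rcases d4_good_or_type hS hkn h2 hr3 hy with h | ⟨B, U, S, hL⟩
  · let f : ↥(Cfsg.fixedSubgroup y) ≃* ↥(Cfsg.fixedSubgroup x) :=
      { toFun := fun k => ⟨e k.1, by
          change x (e k.1) = e k.1
          rw [← key, show y k.1 = k.1 from k.2]⟩
        invFun := fun k => ⟨e.symm k.1, by
          change y (e.symm k.1) = e.symm k.1
          apply e.injective
          rw [key, e.apply_symm_apply, show x k.1 = k.1 from k.2]⟩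
        left_inv := fun k => Subtype.ext (e.symm_apply_apply _)
        right_inv := fun k => Subtype.ext (e.apply_symm_apply _)
        map_mul' := fun a b => Subtype.ext (map_mul e _ _) }
    exact h.congr f
  · exfalso
    apply hnot
    have h1 := pt_of_type hG r e S y hL
    have h4 : MulAut.congr e y = x := (MulAut.congr e).apply_symm_apply x
    rw [h4] at h1
    refine AutOrth.Final.mem_range_of_pt hG ?_ h1
    rw [Module.finrank_fintype_fun_eq_card, Fintype.card_sum, Fintype.card_fin]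
    omega

/-- **The triality automorphisms**, from the inputs of the table. -/
theorem triOdd (hI : BpTwo.Inp.{0}) : TriOdd :=
  triOdd_of hI.sch hI.kn

end Cfsg.Agent.BpTri

end

-- merged: Cfsg.Agent.BpTab.Final
section

/-!
# S1332 from the sporadic pairs and S0000; Schreier, S0205, S1727 and the triality row are plugged in
-/

set_option autoImplicit false

namespace Cfsg.Agent.BpTab.Final

open Subgroup Cfsg Cfsg.Agent.BpTab

universe u

/-- **S1332 from `Pairs` and S0000.** -/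
theorem s1332 (hP' : BpSpor.Main.Pairs)
    (hkn0 : ∀ (X : Type) [Group X] [Finite X] [IsSimpleGroup X], IsKnownSimple' X)
    (hkn : ∀ (X : Type u) [Group X] [Finite X] [IsSimpleGroup X], IsKnownSimple' X)
    {G : Type u} [Group G] [Finite G] (p : ℕ) [Fact p.Prime] (P : Subgroup G) (hP : IsPGroup p ↥P) :
    (pLayer p ↥(normalizer (P : Set G))).map (normalizer (P : Set G)).subtype ≤ pLayer p G ∧
      (pPrimeCore p G = ⊥ →
        ⁅pLayer p ↥(normalizer (P : Set G)), pPrimeCore p ↥(normalizer (P : Set G))⁆ = ⊥) :=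
  FinalOf.s1332_of Schreier.Assembly.known Schreier.Assembly.known (fun _ _ _ h => S0205.result h)
    (fun _ _ _ h => S0205.result h) (fun _ _ _ hO t ht => S1727.result hO t ht) hkn0 hkn
    (BpTri.triOdd ⟨fun _ _ _ h => S0205.result h, Schreier.Assembly.known, hkn0⟩) hP' p P hP

end Cfsg.Agent.BpTab.Final

end
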