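import Cfsg.Agent.BpMon.Thirteen
import Cfsg.Agent.MThirteen.TwoA
import Cfsg.Agent.LThreeMB.CoOneFin
import Cfsg.Agent.CpAutBFive.Final
import Cfsg.Agent.OrdDiv.Table
import Mathlib
import Cfsg.Agent.BpSpor.RowTool
import Cfsg.Agent.BpSpor.JFourThree
import Cfsg.Agent.CpAutJThree.Row
import Cfsg.Agent.OddHalf.Small.J3
import Cfsg.Agent.CpAutJ4.Row
import Cfsg.Agent.S0205
import Cfsg.Agent.CpAutON.Seven
import Cfsg.Agent.BpSpor.CoThreeCent
import Cfsg.Agent.BpSpor.CoThreeTF
import Cfsg.Agent.BpSpor.NoComp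
import Cfsg.Agent.BpSpor.Row.Co3
import Cfsg.Agent.BpSpor.FiTThFive
import Cfsg.Agent.BpAlt.Row
import Cfsg.Agent.LThreeFi22.Inst
import Cfsg.Agent.CpAutFiFive.Fi22
import Cfsg.Agent.SporRec.Co3.FiveHom
import Cfsg.Agent.BpSpor.Inn.Fi24
import Cfsg.Agent.BpSpor.RowAll
import Cfsg.Agent.LThreeFi24.FiveConj
import Cfsg.Agent.S1698
import Cfsg.Agent.CpAutFiSeven.None
import Cfsg.Agent.BpSpor.HNThree
import Cfsg.Agent.CpAutHN.Main
import Cfsg.Agent.BpSpor.HNFiveQD
import Cfsg.Agent.S0204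
import Cfsg.Agent.BpSpor.BdRow
import Cfsg.Agent.BpSpor.HSInv
import Cfsg.Agent.BpSpor.Row.HS
import Cfsg.Agent.BpSpor.HeThree
import Cfsg.Agent.BpSpor.Row.He
import Cfsg.Agent.BpSpor.Row.J2
import Cfsg.Agent.CpAutTThree.JTwo
import Cfsg.Agent.BpSpor.Row.Ru
import Cfsg.Agent.CpAutRuFive.Main
import Cfsg.Agent.RuLat.Main
import Cfsg.Agent.BpSpor.CoThreeFive
import Cfsg.Agent.CpAutTits.Row
import Cfsg.Agent.BpSpor.RuThreeC
import Cfsg.Agent.CTwoTab.Ru
import Cfsg.Agent.CpAut.LyFiveRow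
import Cfsg.Agent.BpSpor.BThreeZero
import Cfsg.Agent.BpSpor.MFiveTop
import Cfsg.Agent.BpSpor.Inn.M
import Cfsg.Agent.LThreeB.Asm
import Cfsg.Agent.LThreeMB.Row
import Cfsg.Agent.MFive.Fus
import Cfsg.Agent.MFiveHN.Inst
import Cfsg.Agent.S1619
import Cfsg.Agent.S1620
import Cfsg.Agent.LThreeCo1Six.Main
import Cfsg.Agent.LThreeCo1.Ranks
import Cfsg.Agent.CoFive.Ranks
import Cfsg.Agent.CoFiveC.Row
import Cfsg.Agent.BpSpor.CoOneSeven
import Cfsg.Agent.MFive.JTwo
import Cfsg.Agent.LThreeB.FromM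
import Cfsg.Agent.BpTab.Base
import Cfsg.Agent.BpSpor.BFiveAsm
import Cfsg.Agent.CpAutBFive.RowB
import Cfsg.Agent.LThreeM.FiRow
import Cfsg.Agent.LThreeB.Row
import Cfsg.Agent.LThreeMB.COct
import Cfsg.Agent.BpSpor.SuzFiveA
import Cfsg.Agent.BpSpor.Inv
import Cfsg.Agent.BpSpor.Row.Suz
import Cfsg.Agent.CTwoTab.Suz
import Cfsg.Agent.BpSpor.ThThree
import Cfsg.Agent.KFacts.Th.Main
import Cfsg.Agent.MonsterX.ThOneClass
import Cfsg.Agent.CpAutLy.Row
import Cfsg.Agent.BpSpor.PairList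
import Cfsg.Agent.BpSpor.ONanThree
import Cfsg.Agent.BpSpor.CoTwoRow
import Cfsg.Agent.BpSpor.CoTwoFive
import Cfsg.Agent.BpSpor.FiTTThree
import Cfsg.Agent.LThreeFi24N.GoodD
import Cfsg.Agent.BpSpor.Row.Tits
import Cfsg.Agent.BpSpor.McLThree
import Cfsg.Agent.BpSpor.MFiveHA
import Cfsg.Agent.BpRankZero.MRow
import Cfsg.Agent.BpRankZero.MSix
import Cfsg.Agent.CpAutMSeven.SixRow
import Cfsg.Agent.BpMon.BSeven
import Cfsg.Agent.BpSpor.MBigEleven
import Cfsg.Agent.BpSpor.SuzThree
import Cfsg.Agent.CTwoTab.FiTF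
import Cfsg.Agent.MThirteen.FiveRow
import Cfsg.Agent.PreUniq.Fi24Row
import Cfsg.Agent.LThreeFi24.EmptyAbs
import Cfsg.Agent.LThreeFi24.EmptyInv
import Cfsg.Agent.LThreeFi24.EmptyDat

-- merged: Cfsg.Agent.BpMon.ThirteenRow
section

/-!
# S1332: the row `M`, `p = 13` (helper80; the 2A case is helper75's)
-/

set_option autoImplicit false
set_option maxRecDepth 100000

namespace Cfsg.Agent.BpMon.Thirteen

open Cfsg Cfsg.Agent.BpTab

/-- **Row `M`, `p = 13`.** -/
theorem bps_thirteen (hS : CpAut.AllKnown.{0}) : BpS 13 Spor.Monster :=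
  bps_of fun _ _ hx _ _ hex => MThirteen.TwoARow.good hex LThreeMB.CoOneFin.coOne CpAutBFive.Final.coFive
    CpAutBFive.Final.hJ hS OrdDiv.table hx

end Cfsg.Agent.BpMon.Thirteen

end

-- merged: Cfsg.Agent.BpSpor.JThree
section

/-!
# S1332: the row `J3`, `p = 3` (helper77)

`J3` is of characteristic 2 type and `2^8` does not divide its order.
-/

set_option autoImplicit false

namespace Cfsg.Agent.BpSpor.JThree

open Subgroup Cfsg Cfsg.Agent.BpTab Cfsg.Agent.BpSpor.RowTool

universe u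

theorem bps {K : Type u} [Group K] (h : Spor.IsoJ3 K) : BpS 3 K := by
  have h3 : Fact (Nat.Prime 3) := ⟨Nat.prime_three⟩
  have hs := (KFacts.J3.exists_facts h).1
  obtain ⟨hcard, -, -, -⟩ := CpAutJThree.base h
  have hfin : Finite K := Nat.finite_of_card_ne_zero (by rw [hcard]; norm_num)
  have hna : ¬ IsMulCommutative K := by
    intro hcomm
    have h1 : ∀ a b : K, a * b = b * a := hcomm.is_comm.comm
    let _ : CommGroup K := { (inferInstance : Group K) with mul_comm := h1 }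
    have h2 := IsSimpleGroup.prime_card (α := K)
    rw [hcard] at h2
    norm_num at h2
  refine bps_of_charTwo (by norm_num) (CpAut.center_eq_bot_of_simple hna)
    (CpAutJThree.autInner h Nat.prime_three (by norm_num)) (OddHalf.Small.J3.j3 K h) ?_ ?_ ?_ ?_ ?_
  · intro j h1 h2
    rw [hcard]
    exact Mathieu.pow_of (k := 8) (by norm_num) (by have := Mathieu.two_le_of_three h1 h2; omega)
  · intro h; exact absurd rfl h
  · intro _; rw [hcard]; norm_num
  · intro _; rw [hcard]; norm_num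
  · intro r hr h11 _
    exact no_sq 7 5 1 0 [17, 19] (hcard.trans (by norm_num)) (by simp; norm_num) (by simp) r hr h11

end Cfsg.Agent.BpSpor.JThree

end

-- merged: Cfsg.Agent.BpSpor.JFour
section

/-!
# S1332: the row `J4`, `p = 11` (helper77)

The centralizers of the elements of order 11 are solvable (helper76).
-/

set_option autoImplicit false

namespace Cfsg.Agent.BpSpor.JFour

open Subgroup Cfsg Cfsg.Agent.BpTab Cfsg.Agent.BpSpor.RowTool
open Cfsg.Agent.CpAut (AutInner)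

theorem center_bot : center Spor.J4 = ⊥ := by
  obtain ⟨hfin, hsim, ⟨F⟩⟩ := KFacts.J4.Base.exists_full (K := Cfsg.Spor.J4) ⟨MulEquiv.refl _⟩
  refine CpAut.center_eq_bot_of_simple ?_
  intro hc
  have h3 := F.C.ρ_order
  rcases F.C.Q_cent F.C.ρ (fun q _ => hc.is_comm.comm _ _) with h1 | h1
  · rw [h1, orderOf_one] at h3
    exact absurd h3 (by norm_num)
  · rw [h1, F.C.z_order] at h3
    exact absurd h3 (by norm_num)

theorem autInner (p : ℕ) : AutInner p Spor.J4 := by
  obtain ⟨hfin, hsim, ⟨F⟩⟩ := KFacts.J4.Base.exists_full (K := Cfsg.Spor.J4) ⟨MulEquiv.refl _⟩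
  intro α _
  exact KFacts.J4.SheetJ4.inner F α

theorem bps_eleven : BpS 11 Spor.J4 := by
  obtain ⟨hfin, hsim, ⟨F⟩⟩ := KFacts.J4.Base.exists_full (K := Cfsg.Spor.J4) ⟨MulEquiv.refl _⟩
  refine bps_of_inner center_bot (autInner 11) fun g hg => ?_
  exact good_of_solvable (CpAutJ4.solvable_eleven (fun K _ _ h => S0205.result h) g hg)

end Cfsg.Agent.BpSpor.JFour

end

-- merged: Cfsg.Agent.BpSpor.ONan
section

/-!
# S1332: the row `O'N`, `p = 7` (helper77)

The centralizers of the elements of order 7 are solvable (helper69).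
-/

set_option autoImplicit false

namespace Cfsg.Agent.BpSpor.ONan

open Subgroup Cfsg Cfsg.Agent.BpTab Cfsg.Agent.BpSpor.RowTool

theorem bps_seven : BpS 7 Spor.ON :=
  have : Finite Spor.ON := KFacts.ON.Cent.finite_ON
  bps_of_inner CpAutON.Seven.center_bot (CpAutON.Seven.autInner (by norm_num) (by norm_num)) fun _ hg =>
    good_of_solvable (CpAutON.Seven.solvable (fun K _ _ h => S0205.result h) hg)

end Cfsg.Agent.BpSpor.ONan

end

-- merged: Cfsg.Agent.BpSpor.CoThreeThree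
section

/-!
# S1332: the row `BpS 3 Co3` (helper25)
-/

set_option autoImplicit false

namespace Cfsg.Agent.BpSpor.Co3

open Subgroup Cfsg Cfsg.Agent.BpTab Cfsg.Agent.SporRec.Co3.Chain Cfsg.Agent.SporRec.Co3.Ident
open Cfsg.Agent.SporRec.Co3.Model (equivCo3)

/-- the centralizers of the elements of order three -/
theorem good_three {x : G3} (hx : orderOf x = 3) : Good 3 ↥(centralizer ({x} : Set G3)) := by
  have : Fact (Nat.Prime 3) := ⟨Nat.prime_three⟩
  have := CoThree.finite_G3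
  have hcard : Nat.card G3 = 495766656000 := isCo3_G3.2
  have hd := card_subgroup_dvd_card (centralizer ({x} : Set G3))
  refine BpNum.good_of_card (fun _ => CoThree.not_sixty_four hx) (fun h => absurd rfl h) (fun _ h => ?_)
    (fun _ h => ?_) (fun r hr h11 _ h => ?_)
  · refine CoThreeTF.not_dvd (H := ↥(centralizer ({x} : Set G3))) PreUniqCo.Facts.facts
      (φ := G3.subtype.comp (centralizer ({x} : Set G3)).subtype) (v := Spor.leechV)
      (x := ⟨x, mem_centralizer_singleton_iff.2 rfl⟩) ?_ PreUniqCo.Rows.leechV_ne ?_ ?_ ?_ ?_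
    · exact (subtype_injective _).comp (subtype_injective _)
    · intro h
      exact (h : G3).2
    · rw [Subgroup.orderOf_mk, hx]
    · intro g
      exact Subtype.ext (mem_centralizer_singleton_iff.1 g.2)
    · exact dvd_trans (by norm_num) h
  · have h1 := h.trans hd
    rw [hcard] at h1
    norm_num at h1
  · exact RowTool.no_sq 10 7 3 1 [11, 23] (hcard.trans (by norm_num)) (by simp; norm_num) (by simp) r hr h11 (h.trans hd)

theorem bps_G3 : BpS 3 G3 := by
  have h : Spor.IsoCo3 G3 := ⟨equivCo3⟩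
  have hD := BpSpor.Row.dat_co3 h
  refine RowTool.bps_of_inner ?_ (hD.inn 3 Nat.prime_three (by norm_num)) fun g hg => good_three hg
  have := CoThree.finite_G3
  exact center_eq_bot_of_card hD.simple (by rw [hD.card]; norm_num)

/-- **The row Co3, `p = 3`.** -/
theorem bps_three : BpS 3 Spor.Co3 := by
  have : Fact (Nat.Prime 3) := ⟨Nat.prime_three⟩
  have := CoThree.finite_G3
  have : Finite Spor.Co3 := Finite.of_equiv _ equivCo3.toEquiv
  exact bpS_congr equivCo3 bps_G3

end Cfsg.Agent.BpSpor.Co3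

end

-- merged: Cfsg.Agent.BpSpor.FiTTFive
section

/-!
# S1332, row `(Fi22, 5)` (helper36)

For `u` of order 5 the 10 transpositions commuting with `u` generate a normal subgroup `S5` of `C(u)`.
-/

set_option autoImplicit false

namespace Cfsg.Agent.BpSpor.FiTT

open Subgroup Cfsg Cfsg.Agent.BpTab Equiv
open Cfsg.Agent.LThreeFi22
open Cfsg.Agent.SporRec.Co3.FiveHom (tp exists_hom injective_of)

universe v

variable {K : Type v} [Group K] {T : Set K}

/-- commuting elements `x`, `y` with `x ^ 3 = y ^ 3 = 1` generating more than `⟨x⟩` -/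
theorem nine_dvd {H : Type*} [Group H] [Finite H] {x y : H} (hx : x ^ 3 = 1) (hy : y ^ 3 = 1) (hx1 : x ≠ 1)
    (hxy : x * y = y * x) (hne : y ∉ zpowers x) : 9 ∣ Nat.card H := by
  have : Fact (Nat.Prime 3) := ⟨Nat.prime_three⟩
  have ho : orderOf x = 3 := orderOf_eq_prime hx hx1
  have hc : ∀ a ∈ zpowers x, ∀ b ∈ zpowers y, a * b = b * a := by
    rintro _ ⟨i, rfl⟩ _ ⟨j, rfl⟩
    exact ((show Commute x y from hxy).zpow_zpow i j).eq
  have hle : zpowers y ≤ normalizer (zpowers x : Set H) := by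
    intro b hb
    rw [mem_normalizer_iff]
    intro a
    constructor
    · intro ha
      rw [← hc a ha b hb, mul_inv_cancel_right]
      exact ha
    · intro ha
      have h1 := hc _ ha b hb
      have h2 : b * a * b⁻¹ = a := by
        have h3 : b * a * b⁻¹ * b = b * (b * a * b⁻¹) := h1
        have h4 : a = b * a * b⁻¹ := by
          have h5 : b * a = b * (b * a * b⁻¹) := by
            rw [← h3]
            group
          exact mul_left_cancel h5
        exact h4.symm
      rwa [h2] at ha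
  have hPx : IsPGroup 3 ↥(zpowers x) := IsPGroup.of_card (n := 1) (by rw [Nat.card_zpowers, ho, pow_one])
  have hPy : IsPGroup 3 ↥(zpowers y) := by
    obtain ⟨m, hm, hm'⟩ := (Nat.dvd_prime_pow Nat.prime_three).1 (orderOf_dvd_of_pow_eq_one (by rw [pow_one]; exact hy : y ^ 3 ^ 1 = 1))
    exact IsPGroup.of_card (n := m) (by rw [Nat.card_zpowers, hm'])
  have hP : IsPGroup 3 ↥(zpowers x ⊔ zpowers y : Subgroup H) := hPx.to_sup_of_normal_left' hPy hle
  obtain ⟨m, hm⟩ := IsPGroup.iff_card.1 hP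
  have hlt : Nat.card ↥(zpowers x) < Nat.card ↥(zpowers x ⊔ zpowers y : Subgroup H) := by
    refine lt_of_le_of_ne (card_le_of_le le_sup_left) ?_
    intro h1
    apply hne
    have h3 : zpowers x = zpowers x ⊔ zpowers y := eq_of_le_of_card_ge le_sup_left h1.ge
    rw [h3]
    exact mem_sup_right (mem_zpowers y)
  have hm2 : 2 ≤ m := by
    by_contra h1
    rw [hm, Nat.card_zpowers, ho] at hlt
    have : 3 ^ m ≤ 3 ^ 1 := Nat.pow_le_pow_right (by norm_num) (by omega)
    omega
  refine (pow_dvd_pow 3 hm2).trans ?_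
  rw [← hm]
  exact card_subgroup_dvd_card _

section five

variable (C : Ctx K T) {u : K} (hu : u ^ 5 = 1) (hu1 : u ≠ 1)
include C hu hu1

/-- no two orthogonal noncommuting pairs -/
theorem no_sq {a b c d : K} (ha : a ∈ Fx T u) (hb : b ∈ Fx T u) (hc : c ∈ Fx T u) (hd : d ∈ Fx T u) (hab : a * b ≠ b * a)
    (hcd : c * d ≠ d * c) (hac : a * c = c * a) (had : a * d = d * a) (hbc : b * c = c * b) (hbd : b * d = d * b) : False := by
  have := C.finite
  apply C.nine_five hu hu1
  have h3 : (a * b) ^ 3 = 1 := C.cube ha.1 hb.1 hab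
  have h4 : (c * d) ^ 3 = 1 := C.cube hc.1 hd.1 hcd
  have m1 : a * b ∈ centralizer ({u} : Set K) := by
    rw [mem_centralizer_singleton_iff, mul_assoc, ← hb.2, ← mul_assoc, ← ha.2, mul_assoc]
  have m2 : c * d ∈ centralizer ({u} : Set K) := by
    rw [mem_centralizer_singleton_iff, mul_assoc, ← hd.2, ← mul_assoc, ← hc.2, mul_assoc]
  have e1 : Commute a (c * d) := (show Commute a c from hac).mul_right had
  have e2 : Commute b (c * d) := (show Commute b c from hbc).mul_right hbd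
  refine nine_dvd (x := (⟨a * b, m1⟩ : ↥(centralizer ({u} : Set K)))) (y := ⟨c * d, m2⟩) (Subtype.ext h3) (Subtype.ext h4) ?_
    (Subtype.ext (e1.mul_left e2).eq) ?_
  · intro h
    apply hab
    have h5 : a * b = 1 := congrArg Subtype.val h
    have h6 : a = b⁻¹ := eq_inv_of_mul_eq_one_left h5
    rw [h6, inv_mul_cancel, mul_inv_cancel]
  · rintro ⟨i, hi⟩
    have h5 : (a * b) ^ i = c * d := congrArg Subtype.val hi
    -- `c d` commutes with `a b` and with `c`, `d`
    have h6 : Commute (c * d) c := by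
      rw [← h5]
      have e3 : Commute (a * b) c := (show Commute a c from hac).mul_left hbc
      exact e3.zpow_left i
    apply hcd
    have h7 : c * d * c = c * (c * d) := h6.eq
    have h8 : d * c = c * d := by
      rw [mul_assoc] at h7
      exact mul_left_cancel h7
    exact h8.symm

theorem exists_ne {d : K} (e : K) (hd : d ∈ Fx T u) : ∃ c ∈ Fx T u, c ≠ d ∧ d * c = c * d ∧ c ≠ e := by
  have := C.finite
  have h := C.five_link hu hu1 hd
  by_contra hcon
  push Not at hcon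
  have h1 : {c | c ∈ Fx T u ∧ c ≠ d ∧ d * c = c * d} ⊆ {e} := fun c hc => hcon c hc.1 hc.2.1 hc.2.2
  have h2 := Set.ncard_le_ncard h1 (Set.toFinite _)
  rw [h, Set.ncard_singleton] at h2
  omega

theorem exists_path : ∃ r : Fin 4 → K, (∀ i, r i ∈ Fx T u) ∧ (∀ i j : Fin 4, i.val + 1 < j.val → r i * r j = r j * r i) ∧
    (∀ i j : Fin 4, i.val + 1 = j.val → r i * r j ≠ r j * r i) ∧ r 0 ≠ r 2 := by
  obtain ⟨d, hd1, hd2⟩ := C.ex5 u hu hu1
  have hd : d ∈ Fx T u := ⟨hd1, hd2⟩
  obtain ⟨a, ha, had, hda, -⟩ := exists_ne C hu hu1 d hd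
  obtain ⟨c, hc, hca, hac, hcd⟩ := exists_ne C hu hu1 d ha
  obtain ⟨b, hb, hbd, hdb, hba⟩ := exists_ne C hu hu1 a hd
  have nab : a * b ≠ b * a := fun h => hba (C.five_free hu hu1 hd hb ha hbd had hdb hda h.symm)
  have ncd : c * d ≠ d * c := fun h => hcd (C.five_free hu hu1 ha hc hd hca had.symm hac hda.symm h)
  have nbc : b * c ≠ c * b := fun h => no_sq C hu hu1 ha hb hc hd nab ncd hac hda.symm h hdb.symm
  refine ⟨![a, b, c, d], ?_, ?_, ?_, ?_⟩
  · intro i
    fin_cases i
    · exact ha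
    · exact hb
    · exact hc
    · exact hd
  · intro i j hij
    fin_cases i <;> fin_cases j <;> first | exact absurd hij (by decide) | skip
    · exact hac
    · exact hda.symm
    · exact hdb.symm
  · intro i j hij
    fin_cases i <;> fin_cases j <;> first | exact absurd hij (by decide) | skip
    · exact nab
    · exact nbc
    · exact ncd
  · exact hca.symm

theorem good_five : Good 5 ↥(centralizer ({u} : Set K)) := by
  have := C.finite
  obtain ⟨r, hr, hc, hn, h02⟩ := exists_path C hu hu1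
  have hm : ∀ {x : K}, x ∈ Fx T u → x ∈ centralizer ({u} : Set K) := fun hx => mem_centralizer_singleton_iff.2 hx.2.symm
  let R : Fin 4 → ↥(centralizer ({u} : Set K)) := fun i => ⟨r i, hm (hr i)⟩
  obtain ⟨φ, hφ, -⟩ := exists_hom R (fun i => Subtype.ext (C.sq _ (hr i).1)) (fun i j hij => Subtype.ext (hc i j hij))
    (fun i j hij => Subtype.ext ((C.three _ (hr i).1 _ (hr j).1).resolve_left (hn i j hij)))
  have hinj : Function.Injective φ := by
    apply injective_of
    rw [← Cfsg.Agent.SporRec.Co3.FiveHom.tp_dbl, map_mul, hφ, hφ]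
    intro h
    apply h02
    have h1 : r 0 * r 2 = 1 := congrArg Subtype.val h
    rw [eq_inv_of_mul_eq_one_left h1, C.inv (hr 2).1]
  -- images of transpositions
  have hsw : ∀ i j : Fin 5, i ≠ j → (φ (swap i j) : K) ∈ Fx T u := by
    intro i j hij
    have h1 : (φ (tp 0) : K) ∈ Fx T u := by rw [hφ]; exact hr 0
    obtain ⟨σ, hσ⟩ : ∃ σ : Perm (Fin 5), swap i j = σ * tp 0 * σ⁻¹ := by
      have : ∀ i j : Fin 5, i ≠ j → ∃ σ : Perm (Fin 5), swap i j = σ * tp 0 * σ⁻¹ := by
        intro i j hij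
        have h3 := Perm.isConj_swap (show (0 : Fin 5) ≠ 1 by decide) hij
        rw [isConj_iff] at h3
        obtain ⟨c, hc⟩ := h3
        exact ⟨c, hc.symm⟩
      exact this i j hij
    rw [hσ, map_mul, map_mul, map_inv]
    exact C.fx_conj (mem_centralizer_singleton_iff.1 (φ σ).2) h1
  -- all elements of `Fx`
  have hall : ∀ x ∈ Fx T u, ∃ i j : Fin 5, i ≠ j ∧ x = φ (swap i j) := by
    have hcard : (Fx T u).ncard = 10 := by
      obtain ⟨d, hd1, hd2⟩ := C.ex5 u hu hu1
      exact (C.five_far hu hu1 (d := d) ⟨hd1, hd2⟩).1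
    let S : Finset (Perm (Fin 5)) := (Finset.univ.filter fun p : Fin 5 × Fin 5 => p.1 < p.2).image fun p => swap p.1 p.2
    have hS : S.card = 10 := by decide +kernel
    have hmem : ∀ σ : Perm (Fin 5), σ ∈ S → ∃ i j : Fin 5, i ≠ j ∧ σ = swap i j := by
      intro σ hσ
      obtain ⟨p, hp, rfl⟩ := Finset.mem_image.1 hσ
      exact ⟨p.1, p.2, (Finset.mem_filter.1 hp).2.ne, rfl⟩
    have hi : Function.Injective (fun σ : Perm (Fin 5) => ((φ σ : ↥(centralizer ({u} : Set K))) : K)) :=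
      Subtype.val_injective.comp hinj
    have h1 : ((fun σ : Perm (Fin 5) => ((φ σ : ↥(centralizer ({u} : Set K))) : K)) '' (S : Set (Perm (Fin 5)))) =
        Fx T u := by
      apply Set.eq_of_subset_of_ncard_le
      · rintro _ ⟨σ, hσ, rfl⟩
        obtain ⟨i, j, hij, rfl⟩ := hmem σ hσ
        exact hsw i j hij
      · rw [hcard, Set.ncard_image_of_injective _ hi, Set.ncard_coe_finset, hS]
      · exact Set.toFinite _
    intro x hx
    rw [← h1] at hx
    obtain ⟨σ, hσ, rfl⟩ := hx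
    obtain ⟨i, j, hij, rfl⟩ := hmem σ hσ
    exact ⟨i, j, hij, rfl⟩
  refine good_of_sym φ ?_ (p := 5) (by norm_num) (by norm_num) ?_ (u := ⟨u, mem_centralizer_singleton_iff.2 rfl⟩) ?_ ?_
    (by norm_num) (by norm_num) hinj
  · intro g i j hij
    have h1 := C.fx_conj (mem_centralizer_singleton_iff.1 g.2) (hsw i j hij)
    obtain ⟨i', j', h2, h3⟩ := hall _ h1
    exact ⟨i', j', h2, Subtype.ext h3⟩
  · intro h
    have h1 : 5 ^ 3 ∣ 64561751654400 := by
      rw [← C.card]
      exact h.trans (card_subgroup_dvd_card _)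
    revert h1
    decide
  · rw [Subgroup.orderOf_mk]
    have : Fact (Nat.Prime 5) := ⟨by norm_num⟩
    exact orderOf_eq_prime hu hu1
  · rw [mem_center_iff]
    intro g
    exact Subtype.ext (mem_centralizer_singleton_iff.1 g.2)

end five

/-- **Row `(Fi22, 5)`.** -/
theorem bps_five : BpS 5 Spor.Fi22 := by
  have h5 : Nat.Prime 5 := by norm_num
  refine BpAlt.bpS_of_inner ?_ (CpAutFiFive.Fi22.inner h5 (by norm_num)) ?_
  · have := CpAutFiFive.Fi22.simple
    exact CpAut.center_eq_bot_of_simple CpAutFiFive.Fi22.not_comm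
  · intro g hg
    have C := Inst.ctx (MulEquiv.refl Spor.Fi22)
    exact good_five C (u := g) (by rw [← hg, pow_orderOf_eq_one]) (by
      rintro rfl
      rw [orderOf_one] at hg
      omega)

end Cfsg.Agent.BpSpor.FiTT

end

-- merged: Cfsg.Agent.BpSpor.FiTFFive
section

/-!
# S1332, row `(Fi24', 5)` (helper36)

The centralizer in `Fi24` of an element of order 5 maps onto `S9` with a kernel commuting with the subgroup `S9` generated by the
36 transpositions (helper47's `SNine`).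
-/

set_option autoImplicit false

namespace Cfsg.Agent.BpSpor.FiTF

open Subgroup Cfsg Cfsg.Agent.BpTab Equiv
open Cfsg.Spor (Fi24)
open Cfsg.Agent.LThreeFi24.SNine

universe u

/-- centralizers in a normal subgroup -/
theorem good_cent_of_normal {F : Type u} [Group F] [Finite F] {p : ℕ} [Fact p.Prime] (N : Subgroup F) [hN : N.Normal] (x : ↥N)
    (h : Good p ↥(centralizer ({(x : F)} : Set F))) : Good p ↥(centralizer ({x} : Set ↥N)) := by
  let H : Subgroup F := centralizer ({(x : F)} : Set F)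
  have hn : (N.subgroupOf H).Normal := inferInstance
  have h1 : Good p ↥(N.subgroupOf H) := h.subnormal hn.isSubnormal
  refine h1.congr ?_
  exact
    { toFun := fun y => ⟨⟨(y : ↥H), y.2⟩, by
        rw [mem_centralizer_singleton_iff]
        exact Subtype.ext (mem_centralizer_singleton_iff.1 (y : ↥H).2)⟩
      invFun := fun y => ⟨⟨((y : ↥N) : F), mem_centralizer_singleton_iff.2 (congrArg Subtype.val
        (mem_centralizer_singleton_iff.1 y.2))⟩, (y : ↥N).2⟩
      left_inv := fun _ => rfl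
      right_inv := fun _ => rfl
      map_mul' := fun _ _ => rfl }

/-- conjugate elements -/
theorem good_cent_conj {F : Type u} [Group F] [Finite F] {p : ℕ} [Fact p.Prime] {x y : F} (g : F) (hg : g * x * g⁻¹ = y)
    (h : Good p ↥(centralizer ({y} : Set F))) : Good p ↥(centralizer ({x} : Set F)) := by
  refine h.congr ?_
  exact
    { toFun := fun c => ⟨g⁻¹ * (c : F) * g, by
        have h1 := mem_centralizer_singleton_iff.1 c.2
        rw [mem_centralizer_singleton_iff]
        calc g⁻¹ * (c : F) * g * x = g⁻¹ * ((c : F) * (g * x * g⁻¹)) * g := by group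
          _ = g⁻¹ * ((g * x * g⁻¹) * (c : F)) * g := by rw [hg, h1]
          _ = x * (g⁻¹ * (c : F) * g) := by group⟩
      invFun := fun c => ⟨g * (c : F) * g⁻¹, by
        have h1 := mem_centralizer_singleton_iff.1 c.2
        rw [mem_centralizer_singleton_iff]
        calc g * (c : F) * g⁻¹ * y = g * ((c : F) * x) * g⁻¹ := by rw [← hg]; group
          _ = g * (x * (c : F)) * g⁻¹ := by rw [h1]
          _ = y * (g * (c : F) * g⁻¹) := by rw [← hg]; group⟩
      left_inv := fun c => Subtype.ext (by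
        change g * (g⁻¹ * (c : F) * g) * g⁻¹ = c
        group)
      right_inv := fun c => Subtype.ext (by
        change g⁻¹ * (g * (c : F) * g⁻¹) * g = c
        group)
      map_mul' := fun a b => Subtype.ext (by
        change g⁻¹ * ((a : F) * b) * g = g⁻¹ * (a : F) * g * (g⁻¹ * (b : F) * g)
        group) }

/-- the action of `C(y0)` on the nine letters -/
noncomputable def act : ↥G0 →* Perm (Fin 9) where
  toFun x := (exists_R x.2).choose
  map_one' := R.uniq (exists_R (one_mem G0)).choose_spec R.one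
  map_mul' a b := R.uniq (exists_R (mul_mem a.2 b.2)).choose_spec
    (R.mul (exists_R a.2).choose_spec (exists_R b.2).choose_spec)

theorem act_spec (x : ↥G0) : R (x : Fi24) (act x) := (exists_R x.2).choose_spec

theorem mem_ker {x : ↥G0} : x ∈ act.ker ↔ R (x : Fi24) 1 := by
  rw [MonoidHom.mem_ker]
  constructor
  · intro h
    have := act_spec x
    rwa [h] at this
  · intro h
    exact R.uniq (act_spec x) h

/-- the kernel commutes with `S9` -/
theorem comm_ker {g n : Fi24} (hg : g ∈ S9) (hn : R n 1) : g * n = n * g := by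
  induction hg using Subgroup.closure_induction with
  | mem y hy =>
    obtain ⟨m, rfl⟩ := hy
    exact (hn.comm m).symm
  | one => rw [one_mul, mul_one]
  | mul a b _ _ ha hb => rw [mul_assoc, hb, ← mul_assoc, ha, mul_assoc]
  | inv a _ ha =>
    have h3 : Commute a n := ha
    exact h3.inv_left.eq

theorem good_G0 : Good 5 ↥G0 := by
  have hfin := Cfsg.Agent.R08.FiTwentyFour.finite_Fi24
  have : Fact (Nat.Prime 5) := ⟨by norm_num⟩
  have hsurj : Function.Surjective act := by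
    intro σ
    obtain ⟨g, hg, hR⟩ := lift σ
    exact ⟨⟨g, S9_le hg⟩, R.uniq (act_spec _) hR⟩
  have h5 : orderOf y0 = 5 := LThreeFi24.FiveConj.orderOf_y0
  refine good_of_quot (p := 5) act hsurj BpAlt.good_perm (S9.subgroupOf G0) ?_ ?_ ?_ (u := ⟨y0, ?_⟩) ?_ ?_ ?_
  · intro σ
    obtain ⟨g, hg, hR⟩ := lift σ
    exact ⟨⟨g, S9_le hg⟩, hg, R.uniq (act_spec _) hR⟩
  · intro s hs k hk
    exact Subtype.ext (comm_ker hs (mem_ker.1 hk))
  · intro h
    have h1 : Nat.card ↥G0 = Nat.card ↥act.ker * (9).factorial := by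
      rw [← Subgroup.card_mul_index act.ker, index_ker, MonoidHom.range_eq_top.2 hsurj, card_top, Nat.card_perm,
        Nat.card_fin]
    have h2 : 5 ^ 2 * (9).factorial ∣ Nat.card Fi24 := by
      refine (mul_dvd_mul_right h _).trans ?_
      rw [← h1]
      exact card_subgroup_dvd_card _
    rw [LThreeFi24.FiveConj.card_Fi24] at h2
    revert h2
    decide
  · exact mem_G0.2 rfl
  · exact mem_ker.2 fun i j hij => rho_y_T hij
  · rw [Subgroup.orderOf_mk]
    exact h5
  · rw [mem_center_iff]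
    intro g
    exact Subtype.ext (mem_G0.1 g.2)

/-- the rows of `Fi24'` from the centralizers in `Fi24` -/
theorem bps_of_cent {p : ℕ} (hp : p.Prime) (hp2 : p ≠ 2)
    (h : ∀ x : Fi24, x ∈ commutator Fi24 → orderOf x = p → Good p ↥(centralizer ({x} : Set Fi24))) : BpS p Spor.Fi24' := by
  have hfin := Cfsg.Agent.R08.FiTwentyFour.finite_Fi24
  have : Fact p.Prime := ⟨hp⟩
  have hs : IsSimpleGroup Spor.Fi24' := Cfsg.Agent.S1698.result.1
  have hc : center Spor.Fi24' = ⊥ := center_eq_bot_of_card hs (by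
    rw [Cfsg.Agent.S1698.result.2]
    norm_num)
  refine bpS_of_inner hc (Inn.fi24 ⟨MulEquiv.refl _⟩ p hp hp2) ?_
  intro x hx
  refine good_cent_of_normal (commutator Fi24) x (h x x.2 ?_)
  rw [← hx]
  exact orderOf_injective (commutator Fi24).subtype (Subgroup.subtype_injective _) x

/-- **Row `(Fi24', 5)`.** -/
theorem bps_five : BpS 5 Spor.Fi24' := by
  have hfin := Cfsg.Agent.R08.FiTwentyFour.finite_Fi24
  have : Fact (Nat.Prime 5) := ⟨by norm_num⟩
  refine bps_of_cent (by norm_num) (by norm_num) fun x _ hx => ?_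
  obtain ⟨g, hg⟩ := LThreeFi24.FiveConj.exists_conj_five hx
  exact good_cent_conj g hg good_G0

end Cfsg.Agent.BpSpor.FiTF

end

-- merged: Cfsg.Agent.BpSpor.FiSeven
section

/-!
# S1332: the row `Fi24'`, `p = 7`

* `good_of_index` : `C` normal of index prime to `p` in `H`, `Good p C`: `Good p H`;
* `good_of_perm` : `f : H →* S_7`, the centralizer of the kernel maps onto `A_7` or `S_7`, the kernel contains a central
  element of order `7` of `H` and has order not divisible by `49`: `Good 7 H`;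
* `Fi24.bps_seven` : `BpS 7 Spor.Fi24'`.
-/

set_option autoImplicit false

namespace Cfsg.Agent.BpSpor.FiSeven

open Subgroup Cfsg Equiv Equiv.Perm
open Cfsg.Agent.Lib Cfsg.Agent.SignalizersComponents
open Cfsg.Agent.BpTab Cfsg.Agent.CpAutFiSeven
open Cfsg.Agent.Intrinsic.Charac (isPComponent_iff)

/-- the `p`-layer lies in every normal subgroup of index prime to `p` -/
theorem pLayer_le {H : Type*} [Group H] [Finite H] {p : ℕ} [hp : Fact p.Prime] (C : Subgroup H) [C.Normal]
    (h : ¬ p ∣ C.index) : pLayer p H ≤ C := by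
  refine sSup_le fun J hJ => ?_
  obtain ⟨-, -, h3⟩ := isPComponent_iff.mp hJ
  rw [← h3]
  refine (Subgroup.closure_le _).mpr ?_
  rintro y ⟨-, n, hn⟩
  have h1 : (y : H ⧸ C) ^ p ^ n = 1 := by rw [← QuotientGroup.mk_pow, hn]; rfl
  have h2 : (y : H ⧸ C) ^ Nat.card (H ⧸ C) = 1 := pow_card_eq_one'
  have h3 : (Nat.card (H ⧸ C)).Coprime (p ^ n) := by
    refine Nat.Coprime.pow_right n ?_
    rw [Nat.coprime_comm, hp.out.coprime_iff_not_dvd]
    exact h
  have h4 : (y : H ⧸ C) ^ (Nat.card (H ⧸ C)).gcd (p ^ n) = 1 := pow_gcd_eq_one.mpr ⟨h2, h1⟩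
  rw [h3, pow_one] at h4
  exact (QuotientGroup.eq_one_iff y).1 h4

theorem good_of_index {H : Type*} [Group H] [Finite H] {p : ℕ} [hp : Fact p.Prime] (C : Subgroup H) [hC : C.Normal]
    (h : ¬ p ∣ C.index) (hg : Good p ↥C) : Good p H :=
  Good.of_normal hC hg (pLayer_le C h)

/-- groups between `A_n` and `S_n` -/
theorem good_perm {n p : ℕ} [hp : Fact p.Prime] (hn : 5 ≤ n) (R : Subgroup (Perm (Fin n)))
    (hR : alternatingGroup (Fin n) ≤ R) : Good p ↥R := by
  have hs : IsSimpleGroup ↥(alternatingGroup (Fin n)) :=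
    alternatingGroup.isSimpleGroup (by rw [Nat.card_eq_fintype_card, Fintype.card_fin]; exact hn)
  have hN : ((alternatingGroup (Fin n)).subgroupOf R).Normal := inferInstance
  refine Good.of_solvable_quotient (N := (alternatingGroup (Fin n)).subgroupOf R)
    ((good_of_simple hs).congr (subgroupOfEquivOfLe hR).symm) ?_
  refine Group.isSolvable_of_comm fun a b => ?_
  induction a using QuotientGroup.induction_on with
  | H a =>
    induction b using QuotientGroup.induction_on with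
    | H b =>
      rw [← QuotientGroup.mk_mul, ← QuotientGroup.mk_mul, QuotientGroup.eq, mem_subgroupOf, mem_alternatingGroup]
      change sign (((a : Perm (Fin n)) * (b : Perm (Fin n)))⁻¹ * ((b : Perm (Fin n)) * (a : Perm (Fin n)))) = 1
      rw [map_mul, map_inv, map_mul, map_mul, mul_comm (sign (b : Perm (Fin n)))]
      exact inv_mul_cancel _

theorem good_of_perm {H : Type*} [Group H] [Finite H] (f : H →* Perm (Fin 7))
    (hA : alternatingGroup (Fin 7) ≤ (centralizer (f.ker : Set H)).map f) {x : H} (hxc : ∀ g : H, g * x = x * g)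
    (hx : orderOf x = 7) (hfx : f x = 1) (hk : ¬ 49 ∣ Nat.card ↥f.ker) : Good 7 H := by
  have hp : Fact (Nat.Prime 7) := ⟨by norm_num⟩
  obtain ⟨C, hC⟩ : ∃ C, C = centralizer (f.ker : Set H) := ⟨_, rfl⟩
  have hCn : C.Normal := by rw [hC]; infer_instance
  rw [← hC] at hA
  let g : ↥C →* ↥(C.map f) := f.subgroupMap C
  have hgs : Function.Surjective g := f.subgroupMap_surjective C
  have hxC : x ∈ C := by
    rw [hC, mem_centralizer_iff]
    exact fun y _ => hxc y
  refine good_of_index C ?_ ?_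
  · intro h7
    have h1 : Nat.card ↥g.ker * Nat.card ↥(C.map f) = Nat.card ↥C := by
      rw [← g.ker.card_mul_index, index_ker, MonoidHom.range_eq_top.2 hgs, card_top]
    have h2 : Nat.card ↥f.ker * Nat.card ↥f.range = Nat.card H := by
      rw [← f.ker.card_mul_index, index_ker]
    have h3 : 7 ∣ Nat.card ↥g.ker := by
      have h4 : (⟨x, hxC⟩ : ↥C) ∈ g.ker := by
        rw [MonoidHom.mem_ker]
        exact Subtype.ext hfx
      have h5 := Subgroup.orderOf_dvd_natCard g.ker h4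
      rwa [orderOf_mk, hx] at h5
    have h4 : 2520 ∣ Nat.card ↥(C.map f) := by
      have h5 := card_dvd_of_le hA
      have h6 : Nat.card ↥(alternatingGroup (Fin 7)) = 2520 := by
        rw [nat_card_alternatingGroup, Nat.card_fin]
        rfl
      rwa [h6] at h5
    have h5 : Nat.card ↥f.range ∣ 5040 := by
      have h6 := card_subgroup_dvd_card f.range
      rw [Nat.card_perm, Nat.card_fin] at h6
      exact h6
    have h6 : 7 * (7 * 2520) ∣ Nat.card ↥f.ker * 5040 := by
      have h7' : 7 * Nat.card ↥C ∣ Nat.card H := by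
        rw [← C.card_mul_index, mul_comm]
        exact mul_dvd_mul_left _ h7
      have h8 : 7 * (7 * 2520) ∣ 7 * Nat.card ↥C := by
        rw [← h1]
        exact mul_dvd_mul_left 7 (mul_dvd_mul h3 h4)
      refine (h8.trans h7').trans ?_
      rw [← h2]
      exact mul_dvd_mul_left _ h5
    apply hk
    have h7' : 2520 * 49 ∣ 2520 * (2 * Nat.card ↥f.ker) := by
      refine Dvd.dvd.trans ?_ (h6.trans (dvd_of_eq ?_))
      · norm_num
      · ring
    have h8 : 49 ∣ 2 * Nat.card ↥f.ker := Nat.dvd_of_mul_dvd_mul_left (by norm_num) h7'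
    exact (by norm_num : Nat.Coprime 49 2).dvd_of_dvd_mul_left h8
  · refine (good_perm (by norm_num) (C.map f) hA).of_surjective hgs ?_
    intro a ha
    rw [mem_centralizer_iff]
    intro b _
    apply Subtype.ext
    have h1 : (a : H) ∈ f.ker := congrArg Subtype.val ((MonoidHom.mem_ker).1 ha)
    have h2 : ∀ c ∈ C, ∀ d ∈ f.ker, d * c = c * d := by
      rw [hC]
      exact fun c hc d hd => mem_centralizer_iff.1 hc d hd
    exact (h2 b b.2 a h1).symm

section Tri

variable {F : Type*} [Group F] [Finite F] {L : Set F} {N : Subgroup F} {x : ↥N} {t : Fin 7 → Fin 7 → F}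

theorem good_of_tri (h : Tri L (x : F) t) (hL : ∀ d ∈ L, ∀ g : F, g * d * g⁻¹ ∈ L)
    (hN : ∀ d ∈ L, ∀ e ∈ L, d * e ∈ N) (hx : orderOf x = 7)
    (hc : ∀ d ∈ L, ¬ 49 ∣ Nat.card ↥(centralizer {d} : Subgroup F)) : Good 7 ↥(centralizer {x} : Subgroup ↥N) := by
  let ι : ↥(centralizer {x} : Subgroup ↥N) →* F := N.subtype.comp (centralizer {x}).subtype
  have hιinj : Function.Injective ι := N.subtype_injective.comp (centralizer {x}).subtype_injective
  have hmem : ∀ g : ↥(centralizer {x} : Subgroup ↥N), (g : ↥N) * x = x * (g : ↥N) := fun g =>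
    (mem_centralizer_singleton_iff.1 g.2)
  obtain ⟨f, hf⟩ := h.exists_hom hL ι (fun g => congrArg Subtype.val (hmem g))
  let x' : ↥(centralizer {x} : Subgroup ↥N) := ⟨x, mem_centralizer_singleton_iff.2 rfl⟩
  have hker : ∀ g ∈ f.ker, ∀ i j, i ≠ j → ι g * t i j = t i j * ι g := by
    intro g hg i j hij
    have h3 := hf g i j hij
    rw [(MonoidHom.mem_ker).1 hg] at h3
    exact mul_inv_eq_iff_eq_mul.1 h3
  refine good_of_perm f ?_ (x := x') ?_ ?_ ?_ ?_
  · -- the range
    apply alt_le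
    rintro _ _ ⟨i, j, hij, rfl⟩ ⟨k, l, hkl, rfl⟩
    have h1 : t i j * t k l ∈ N := hN _ (h.mem i j hij) _ (h.mem k l hkl)
    have h2 : (⟨t i j * t k l, h1⟩ : ↥N) ∈ centralizer {x} := by
      rw [mem_centralizer_singleton_iff]
      apply Subtype.ext
      change t i j * t k l * x = x * (t i j * t k l)
      rw [mul_assoc, ← h.comm k l hkl, ← mul_assoc, ← h.comm i j hij, mul_assoc]
    refine ⟨⟨⟨_, h1⟩, h2⟩, ?_, ?_⟩
    · rw [SetLike.mem_coe, mem_centralizer_iff]
      intro g hg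
      apply hιinj
      rw [map_mul, map_mul]
      change ι g * (t i j * t k l) = t i j * t k l * ι g
      rw [← mul_assoc, hker g hg i j hij, mul_assoc, hker g hg k l hkl, mul_assoc]
    apply h.perm_unique
    intro a b hab
    rw [← hf _ a b hab]
    change t i j * t k l * t a b * (t i j * t k l)⁻¹ = _
    rw [Perm.mul_apply, Perm.mul_apply, ← h.conj i j _ _ hij (fun h3 => hab ((swap k l).injective h3)),
      ← h.conj k l a b hkl hab]
    group
  · intro g
    exact Subtype.ext (hmem g)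
  · rw [← hx, Subgroup.orderOf_mk]
  · apply h.perm_unique
    intro a b hab
    rw [← hf _ a b hab]
    change (x : F) * t a b * (x : F)⁻¹ = t a b
    rw [h.comm a b hab, mul_inv_cancel_right]
  · intro h1
    refine hc (t 0 1) (h.mem 0 1 (by decide)) (h1.trans ?_)
    have h2 : Nat.card ↥(f.ker.map ι) = Nat.card ↥f.ker := card_map_of_injective hιinj
    rw [← h2]
    apply card_dvd_of_le
    rintro _ ⟨g, hg, rfl⟩
    rw [mem_centralizer_singleton_iff]
    exact hker g hg 0 1 (by decide)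

end Tri

open Cfsg.Agent.R08.FiTwentyFour (L)

/-- the centralizer of an element of order 7 of `Fi24'` -/
theorem good_cent (FT : ∀ (K : Type) [Group K] [Finite K], Odd (Nat.card K) → Group.IsSolvable K) (x : Spor.Fi24')
    (hx : orderOf x = 7) : Good 7 ↥(centralizer {x} : Subgroup Spor.Fi24') := by
  have hfin : Finite Spor.Fi24 := R08.FiTwentyFour.finite_Fi24
  have hfin' : Finite Spor.Fi24' := inferInstanceAs (Finite ↥(commutator Spor.Fi24))
  by_cases h1 : ∃ d ∈ L, (x : Spor.Fi24) * d = d * x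
  · obtain ⟨d, hd, hxd⟩ := h1
    have hx' : orderOf (x : Spor.Fi24) = 7 := (Subgroup.orderOf_coe x).trans hx
    obtain ⟨t, ht⟩ := tri hx' hd hxd
    exact good_of_tri (F := Spor.Fi24) (N := commutator Spor.Fi24) ht (fun d hd g => R08.FiTwentyFour.conj hd g)
      (fun d hd e he => R08.FiTwentyFour.even hd he) hx (fun d hd => card_cent hd)
  · push Not at h1
    exact good_of_solvable (solvable_of_not_four FT (not_four_cent hx h1))

end Cfsg.Agent.BpSpor.FiSeven

namespace Cfsg.Agent.BpSpor.Fi24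

open Cfsg

/-- **the row `Fi24'`, `p = 7` of S1332** -/
theorem bps_seven (FT : ∀ (K : Type) [Group K] [Finite K], Odd (Nat.card K) → Group.IsSolvable K) :
    BpTab.BpS 7 Spor.Fi24' :=
  bpS_of_inner CpAutFiSeven.center_eq_bot CpAutFiSeven.autInner (FiSeven.good_cent FT)

end Cfsg.Agent.BpSpor.Fi24

end

-- merged: Cfsg.Agent.BpSpor.HNRowThree
section

/-!
# S1332: the row `BpS 3 HN` (helper25)
-/

set_option autoImplicit false

namespace Cfsg.Agent.BpSpor.HN

open Subgroup Cfsg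
open Cfsg.Agent.BpTab Cfsg.Agent.CpAut

theorem center_bot : center Spor.HN = ⊥ := by
  apply CpAut.center_eq_bot_of_simple
  intro h
  apply CpAutHN.Main.not_comm_A9
  apply CpAutHN.Second.ι_inj
  apply CpAutHN.Alt.Φ_inj
  rw [map_mul, map_mul, map_mul, map_mul]
  exact h.is_comm.comm _ _

/-- **The row HN, `p = 3`.** -/
theorem bps_three : BpS 3 Spor.HN :=
  bpS_of_inner center_bot (CpAutHN.Main.autInner 3 (by norm_num) (by norm_num))
    fun _ hg => HNThree.good_three (fun _ _ _ h => S0205.result h) hg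

end Cfsg.Agent.BpSpor.HN

end

-- merged: Cfsg.Agent.BpSpor.HNRowFive
section

/-!
# S1332: the row `BpS 5 HN` (helper42)

The case distinction of `CpAutHNFive/TauFive.lean` (helper89) with `BpTab.Good 5` in place of the two good cases there.
-/

set_option autoImplicit false

namespace Cfsg.Agent.BpSpor.HNFive

open Cfsg.Agent.HN.Pres Cfsg.Agent.HN.H0Basic
open Cfsg.Agent.HN.P1408 hiding ψ
open Cfsg.Agent.HN.XWords (W0 W0_sq)
open Cfsg.Agent.HN.NormalH (ψ)
open Cfsg Cfsg.Agent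
open Cfsg.Agent.KFacts.HN
open Cfsg.Agent.CpAutHNFive Cfsg.Agent.CpAutHNFive.LFive Cfsg.Agent.CpAutHNFive.PFive
open Cfsg.Agent.CpAutHNFive.TFive Cfsg.Agent.CpAutHNFive.HTab Cfsg.Agent.CpAutHNFive.HFacts
open Cfsg.Agent.CpAutHNFive.TauFive (cequiv cequiv_pow centralizer_pow map_centralizer card_pair solvable_three)
open Subgroup

theorem cases_PP (FT : ∀ (K : Type) [Group K] [Finite K], Odd (Nat.card K) → Group.IsSolvable K)
    (h204 : ∀ (K : Type) [Group K] [Finite K] [IsSimpleGroup K], ¬ IsCyclic K → ∃ E : Subgroup K, IsKleinFour E)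
    {x : G} (hx : orderOf x = 5) (hxW : x * W0 = W0 * x) : BpTab.Good 5 ↥(centralizer ({x} : Set G)) ∨
      ((∃ v : G, IsConj (ψ τ) v ∧ v * x = x * v) ∧
        Nat.card ↥(centralizer ({x} : Set G) ⊓ centralizer ({W0} : Set G) : Subgroup G) ∣ 100) := by
  have : Fact (Nat.Prime 5) := ⟨Nat.prime_five⟩
  have hxP : orderOf (⟨x, mem_PP.2 hxW⟩ : PP) = 5 := by rw [← Subgroup.orderOf_coe]; exact hx
  obtain ⟨g, m, hm1, hm5, h⟩ := conj_std hxP
  let y : PP := g * ⟨x, mem_PP.2 hxW⟩ ^ m * g⁻¹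
  have hy : (y : G) = (g : G) * x ^ m * (g : G)⁻¹ := rfl
  have hy5 : orderOf y = 5 := by
    have h1 : orderOf ((⟨x, mem_PP.2 hxW⟩ : PP) ^ m) = 5 := by
      rw [orderOf_pow, hxP]
      interval_cases m <;> rfl
    rw [← h1]
    exact MulEquiv.orderOf_eq (MulAut.conj g) _
  obtain ⟨e⟩ := cequiv_pow hx hm1 hm5 hy.symm
  rcases h with h | h | h
  · exact Or.inl ((noComp_one FT h204 hy5 h).good.congr e.symm)
  · rcases type_three FT h with h1 | ⟨v, hv, hvy⟩
    · exact Or.inl ((BpTab.good_of_solvable h1).congr e.symm)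
    · right
      refine ⟨⟨(g : G)⁻¹ * v * g, hv.trans (isConj_iff.2 ⟨(g : G)⁻¹, by rw [inv_inv]⟩), ?_⟩, ?_⟩
      · have h2 : (g : G)⁻¹ * v * g ∈ centralizer ({x ^ m} : Set G) := by
          rw [mem_centralizer_singleton_iff]
          have h3 : v * ((g : G) * x ^ m * (g : G)⁻¹) = (g : G) * x ^ m * (g : G)⁻¹ * v := hvy
          calc (g : G)⁻¹ * v * g * x ^ m = (g : G)⁻¹ * (v * ((g : G) * x ^ m * (g : G)⁻¹)) * g := by group
            _ = (g : G)⁻¹ * ((g : G) * x ^ m * (g : G)⁻¹ * v) * g := by rw [h3]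
            _ = _ := by group
        rw [centralizer_pow hx hm1 hm5] at h2
        exact mem_centralizer_singleton_iff.1 h2
      · have h2 := card_three (x := y) h
        rw [card_pair] at h2
        have h3 : (centralizer ({x} : Set G) ⊓ centralizer ({W0} : Set G)).map (MulAut.conj (g : G)).toMonoidHom =
            centralizer ({(y : G)} : Set G) ⊓ centralizer ({W0} : Set G) := by
          have hgW : (g : G) * W0 * (g : G)⁻¹ = W0 := by rw [mem_PP.1 g.2, mul_inv_cancel_right]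
          rw [Subgroup.map_inf _ _ _ (MulAut.conj (g : G)).injective, ← centralizer_pow hx hm1 hm5, map_centralizer,
            map_centralizer, hgW, hy]
        rw [← h3] at h2
        rwa [← Nat.card_congr ((centralizer ({x} : Set G) ⊓ centralizer ({W0} : Set G)).equivMapOfInjective
          (MulAut.conj (g : G)).toMonoidHom (MulAut.conj (g : G)).injective).toEquiv] at h2
  · exact Or.inl ((BpTab.good_of_solvable (type_two FT hy5 h)).congr e.symm)

theorem good_one (FT : ∀ (K : Type) [Group K] [Finite K], Odd (Nat.card K) → Group.IsSolvable K)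
    (h204 : ∀ (K : Type) [Group K] [Finite K] [IsSimpleGroup K], ¬ IsCyclic K → ∃ E : Subgroup K, IsKleinFour E) :
    BpTab.Good 5 ↥(centralizer ({ψ (hw w1)} : Set G)) := by
  have := finite_H0
  have hW : W0 = ψ (Cfsg.Agent.HN.Syl.a * τ) := Cfsg.Agent.HN.XWords.W0_eq
  have hx : orderOf (ψ (hw w1)) = 5 := by rw [orderOf_injective _ emb.inj, order_w1]
  have hc : Cfsg.Agent.HN.Syl.a * τ * hw w1 = hw w1 * (Cfsg.Agent.HN.Syl.a * τ) := by
    rw [mul_assoc, ← τ_comm, ← mul_assoc, a_comm, mul_assoc]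
  rcases cases_PP FT h204 hx (by rw [hW, ← map_mul, ← map_mul, hc]) with h | ⟨-, h⟩
  · exact h
  · exfalso
    have h1 : (zpowers τ ⊔ zpowers (hw wq)).map ψ ≤
        centralizer ({ψ (hw w1)} : Set G) ⊓ centralizer ({W0} : Set G) := by
      rw [map_le_iff_le_comap, sup_le_iff, zpowers_le, zpowers_le]
      constructor
      · refine ⟨mem_centralizer_singleton_iff.2 ?_, mem_centralizer_singleton_iff.2 ?_⟩
        · rw [← map_mul, ← map_mul, τ_comm]
        · rw [hW, ← map_mul, ← map_mul, ← τ_comm (Cfsg.Agent.HN.Syl.a * τ)]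
      · refine ⟨mem_centralizer_singleton_iff.2 ?_, mem_centralizer_singleton_iff.2 ?_⟩
        · rw [← map_mul, ← map_mul, q_comm]
        · have h2 : hw wq * (Cfsg.Agent.HN.Syl.a * τ) = Cfsg.Agent.HN.Syl.a * τ * hw wq := by
            rw [← mul_assoc, q_comm_a, mul_assoc, τ_comm, ← mul_assoc]
          rw [hW, ← map_mul, ← map_mul, h2]
    have h8 : 8 ∣ Nat.card ↥(zpowers τ ⊔ zpowers (hw wq) : Subgroup H0) := by
      have ht : τ ∈ zpowers τ ⊔ zpowers (hw wq) := mem_sup_left (mem_zpowers _)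
      have hq : hw wq ∈ zpowers τ ⊔ zpowers (hw wq) := mem_sup_right (mem_zpowers _)
      have h3 := mul_order_dvd (C := ↥(zpowers τ ⊔ zpowers (hw wq) : Subgroup H0)) (a := ⟨τ, ht⟩) (b := ⟨hw wq, hq⟩)
        (Subtype.ext (τ_comm _).symm)
        (inf_eq_bot_of_prime Nat.prime_two (by rw [← Subgroup.orderOf_coe]; exact order_τ) (by
          intro h
          apply τ_not_mem
          obtain ⟨k, hk⟩ := mem_zpowers_iff.1 h
          exact mem_zpowers_iff.2 ⟨k, congrArg Subtype.val hk⟩))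
      rw [← Subgroup.orderOf_coe, ← Subgroup.orderOf_coe] at h3
      change orderOf τ * orderOf (hw wq) ∣ _ at h3
      rw [order_τ, order_q] at h3
      exact h3
    have h9 := (card_dvd_of_le h1).trans h
    rw [← Nat.card_congr ((zpowers τ ⊔ zpowers (hw wq)).equivMapOfInjective ψ emb.inj).toEquiv] at h9
    have h10 := h8.trans h9
    norm_num at h10

theorem main_cases (FT : ∀ (K : Type) [Group K] [Finite K], Odd (Nat.card K) → Group.IsSolvable K)
    (h204 : ∀ (K : Type) [Group K] [Finite K] [IsSimpleGroup K], ¬ IsCyclic K → ∃ E : Subgroup K, IsKleinFour E)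
    {x u : G} (hx : orderOf x = 5) (hu : orderOf u = 2) (hux : u * x = x * u) :
    BpTab.Good 5 ↥(centralizer ({x} : Set G)) ∨
      Nonempty (↥(centralizer ({x} : Set G)) ≃* ↥(centralizer ({ψ (hw w2)} : Set G))) := by
  have : Fact (Nat.Prime 5) := ⟨Nat.prime_five⟩
  -- conjugates of `ψ τ`
  have key : ∀ v : G, IsConj (ψ τ) v → v * x = x * v → BpTab.Good 5 ↥(centralizer ({x} : Set G)) ∨
      Nonempty (↥(centralizer ({x} : Set G)) ≃* ↥(centralizer ({ψ (hw w2)} : Set G))) := by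
    intro v hv hvx
    obtain ⟨c, hc⟩ := isConj_iff.1 hv.symm
    have h1 : c * x * c⁻¹ * ψ τ = ψ τ * (c * x * c⁻¹) := by
      rw [← hc]
      calc c * x * c⁻¹ * (c * v * c⁻¹) = c * (x * v) * c⁻¹ := by group
        _ = c * (v * x) * c⁻¹ := by rw [hvx]
        _ = _ := by group
    obtain ⟨y, hy⟩ := emb.cent _ h1
    have hy5 : orderOf y = 5 := by
      rw [← orderOf_injective ψ emb.inj, hy, ← hx]
      exact MulEquiv.orderOf_eq (MulAut.conj c) x
    obtain ⟨g, m, hm1, hm5, w, hw', hg⟩ := five_conj hy5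
    have hw5 : orderOf (ψ (hw w)) = 5 := by
      rw [orderOf_injective _ emb.inj]
      rcases hw' with rfl | rfl | rfl
      · exact order_w1
      · exact order_w2
      · exact order_w3
    have h2 : (ψ g * c)⁻¹ * ψ (hw w) ^ m * ((ψ g * c)⁻¹)⁻¹ = x := by
      rw [← map_pow, ← hg, map_mul, map_mul, map_inv, hy]
      group
    obtain ⟨e⟩ := cequiv_pow hw5 hm1 hm5 h2
    rcases hw' with rfl | rfl | rfl
    · exact Or.inl ((good_one FT h204).congr e)
    · exact Or.inr ⟨e.symm⟩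
    · exact Or.inl ((BpTab.good_of_solvable (solvable_three FT)).congr e)
  rcases Classes.inv_class hu with h | h
  · exact key u h.symm hux
  · obtain ⟨c, hc⟩ := isConj_iff.1 h
    have h1 : c * x * c⁻¹ * W0 = W0 * (c * x * c⁻¹) := by
      rw [← hc]
      calc c * x * c⁻¹ * (c * u * c⁻¹) = c * (x * u) * c⁻¹ := by group
        _ = c * (u * x) * c⁻¹ := by rw [hux]
        _ = _ := by group
    have h5 : orderOf (c * x * c⁻¹) = 5 := by
      rw [← hx]
      exact MulEquiv.orderOf_eq (MulAut.conj c) x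
    rcases cases_PP FT h204 h5 h1 with h2 | ⟨⟨v, hv, hvx⟩, -⟩
    · exact Or.inl (h2.congr (cequiv c x).symm)
    · refine key (c⁻¹ * v * c) (hv.trans (isConj_iff.2 ⟨c⁻¹, by rw [inv_inv]⟩)) ?_
      calc c⁻¹ * v * c * x = c⁻¹ * (v * (c * x * c⁻¹)) * c := by group
        _ = c⁻¹ * (c * x * c⁻¹ * v) * c := by rw [hvx]
        _ = _ := by group

/-- **`Good 5 C(x)`** for `x` of order 5 -/
theorem good_five (FT : ∀ (K : Type) [Group K] [Finite K], Odd (Nat.card K) → Group.IsSolvable K)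
    (h204 : ∀ (K : Type) [Group K] [Finite K] [IsSimpleGroup K], ¬ IsCyclic K → ∃ E : Subgroup K, IsKleinFour E)
    {x : G} (hx : orderOf x = 5) : BpTab.Good 5 ↥(centralizer ({x} : Set G)) := by
  have : Fact (Nat.Prime 5) := ⟨Nat.prime_five⟩
  have : Fact (Nat.Prime 2) := ⟨Nat.prime_two⟩
  rcases Nat.even_or_odd (Nat.card ↥(centralizer ({x} : Set G))) with he | ho
  · obtain ⟨u, hu⟩ := exists_prime_orderOf_dvd_card' 2 (even_iff_two_dvd.1 he)
    rcases main_cases FT h204 hx (u := (u : G)) (by rw [Subgroup.orderOf_coe, hu])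
      (mem_centralizer_singleton_iff.1 u.2) with h | ⟨⟨e⟩⟩
    · exact h
    · exact (good_two FT h204).congr e.symm
  · exact BpTab.good_of_solvable (FT _ ho)

end Cfsg.Agent.BpSpor.HNFive

namespace Cfsg.Agent.BpSpor.HN

/-- **The row HN, `p = 5`.** -/
theorem bps_five : BpTab.BpS 5 Spor.HN :=
  bpS_of_inner CpAutHNFive.Main.center_HN (CpAutHNFive.Main.autInner Nat.prime_five (by norm_num)) fun _ hg =>
    HNFive.good_five (fun _ _ _ h => S0205.result h) (fun K _ _ _ h => S0204.result h) hg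

end Cfsg.Agent.BpSpor.HN

end

-- merged: Cfsg.Agent.BpSpor.HSRow
section

/-!
# S1332: `HS`, `p = 3` and `p = 5` (helper22)
-/

set_option autoImplicit false

namespace Cfsg.Agent.BpSpor.HSInv

open Cfsg Cfsg.Agent.BpTab

universe u

theorem row {K : Type u} [Group K] (h : Spor.IsoHS K) {p : ℕ} (hp : p = 3 ∨ p = 5) : BpS p K := by
  have D := Row.dat_hs h
  have hfin : Finite K := Nat.finite_of_card_ne_zero (by rw [D.card]; norm_num)
  have hpp : p.Prime := by rcases hp with rfl | rfl <;> norm_num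
  have hF : Fact p.Prime := ⟨hpp⟩
  have hp2 : p ≠ 2 := by rcases hp with rfl | rfl <;> norm_num
  obtain ⟨M⟩ := Cfsg.Agent.KFacts.HS.exists_mod h
  exact BdRow.bps_of_bd hp2 (center_eq_bot_of_card D.simple (by rw [D.card]; norm_num)) (D.inn p hpp hp2)
    (bd M hp)

theorem bps_three : BpS 3 Spor.HS := row ⟨MulEquiv.refl _⟩ (Or.inl rfl)

theorem bps_five : BpS 5 Spor.HS := row ⟨MulEquiv.refl _⟩ (Or.inr rfl)

end Cfsg.Agent.BpSpor.HSInv

end

-- merged: Cfsg.Agent.BpSpor.HeRowThree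
section

/-!
# S1332: `He`, `p = 3` (helper22)
-/

set_option autoImplicit false

namespace Cfsg.Agent.BpSpor.HeThree

open Cfsg Cfsg.Agent.BpTab

theorem bps_three : BpS 3 Spor.He := by
  have D := Row.dat_he (K := Spor.He) ⟨MulEquiv.refl _⟩
  have hfin : Finite Spor.He := finite_he
  have hF : Fact (Nat.Prime 3) := ⟨Nat.prime_three⟩
  exact BdRow.bps_of_bd (by norm_num) (center_eq_bot_of_card D.simple (by rw [D.card]; norm_num))
    (D.inn 3 Nat.prime_three (by norm_num)) bd

end Cfsg.Agent.BpSpor.HeThree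

end

-- merged: Cfsg.Agent.BpSpor.LowJTwo
section

/-!
# S1332, the row `J2`, `p = 3` (helper70)
-/

set_option autoImplicit false

namespace Cfsg.Agent.BpSpor.J2

open Subgroup Cfsg Cfsg.Agent.BpTab

universe u

/-- **S1332, the row `J2`, `p = 3`** -/
theorem bps_three : BpS 3 Spor.J2 := by
  have D := Row.dat_j2 (K := Spor.J2) ⟨MulEquiv.refl _⟩
  have hp : Fact (Nat.Prime 3) := ⟨Nat.prime_three⟩
  have hf : Finite Spor.J2 := Nat.finite_of_card_ne_zero (by rw [D.card]; norm_num)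
  refine RowTool.bps_of_inner (center_eq_bot_of_card D.simple (by rw [D.card]; norm_num))
    (D.inn 3 hp.out (by norm_num)) fun g hg => RowTool.good_sub _ (fun _ h64 => ?_) ?_ ?_ ?_ ?_
  · rcases CpAutTThree.JTwo.card_three hg with h1 | h1 <;> rw [h1] at h64 <;> norm_num at h64
  · intro h; exact absurd rfl h
  · intro _; rw [D.card]; norm_num
  · intro _; rw [D.card]; norm_num
  · intro r hr h11 _
    exact RowTool.no_sq 7 3 2 1 [] (D.card.trans (by norm_num)) (by simp) (by simp) r hr h11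

end Cfsg.Agent.BpSpor.J2

end

-- merged: Cfsg.Agent.BpSpor.LowRu
section

/-!
# S1332, the row `Ru`, `p = 5` (helper70)
-/

set_option autoImplicit false

namespace Cfsg.Agent.BpSpor.Ru

open Subgroup Cfsg Cfsg.Agent.BpTab

/-- **S1332, the row `Ru`, `p = 5`** -/
theorem bps_five : BpS 5 Spor.Ru := by
  have hp : Fact (Nat.Prime 5) := ⟨by norm_num⟩
  have hf := CpAutRuFive.finite_H
  have D := Row.dat_ru (K := SporadicB.RuOrder.H) ⟨RuLat.Main.equiv.symm⟩
  refine BpS.congr ?_ RuLat.Main.equiv.symm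
  refine RowTool.bps_of_inner (center_eq_bot_of_card D.simple (by rw [D.card]; norm_num))
    (D.inn 5 hp.out (by norm_num)) fun g hg => RowTool.good_sub _ (fun _ h64 => ?_) ?_ ?_ ?_ ?_
  · exact CpAutRuFive.not_dvd hg h64
  · intro _; rw [D.card]; norm_num
  · intro h; exact absurd rfl h
  · intro _; rw [D.card]; norm_num
  · intro r hr h11 _
    exact RowTool.no_sq 14 3 3 1 [13, 29] (D.card.trans (by norm_num)) (by simp; norm_num) (by simp) r hr h11

end Cfsg.Agent.BpSpor.Ru

end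

-- merged: Cfsg.Agent.BpSpor.Tits
section

/-!
# S1332: the rows of the Tits group, `p = 3, 5` (helper77)

`|C(x)| = 50` for the elements of order 5; no element of order 5 commutes with an element of order 3 (helper73), so
`|C(x)|` divides `2^11 * 3^3 * 13` for the elements of order 3.
-/

set_option autoImplicit false

namespace Cfsg.Agent.BpSpor.Tits

open Subgroup Cfsg Cfsg.Agent.BpTab Cfsg.Agent.BpSpor.RowTool

universe u

variable {X : Type u} [Group X] [Finite X] [IsSimpleGroup X]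

theorem bps_five (h : Lie.IsoTits X) : BpS 5 X := by
  have ho := CpAutTits.Row.out h
  refine bps_of_inner (CpAutTits.Row.center_bot ho) (CpAutTits.Row.autInner h (by norm_num) (by norm_num))
    fun g hg => ?_
  apply good_of_solvable
  exact S0144.result 2 5 1 2 (by norm_num) (by norm_num) (by rw [ho.cent g hg]; norm_num)

theorem bps_three (T : OrdDiv.OrderTable.{u}) (hcl : ∀ (S : Type u) [Group S] [Finite S], IsSimpleGroup S →
    IsKnownSimple' S) (h : Lie.IsoTits X) : BpS 3 X := by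
  have ho := CpAutTits.Row.out h
  refine bps_of_inner (CpAutTits.Row.center_bot ho) (CpAutTits.Row.autInner h (by norm_num) (by norm_num))
    fun g hg => ?_
  refine good_centralizer T hcl (by norm_num) hg (N := 2 ^ 11 * 3 ^ 3 * 13) (l := [(2, 11), (3, 3), (13, 1)])
    ?_ (by decide +kernel) (by decide +kernel)
  have h1 : Nat.card ↥(centralizer ({g} : Set X)) ∣ 2 ^ 11 * 3 ^ 3 * 13 * 5 ^ 2 := by
    have h2 := card_subgroup_dvd_card (centralizer ({g} : Set X))
    rw [ho.card] at h2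
    have h3 : 2 ^ 11 * 3 ^ 3 * 5 ^ 2 * 13 = 2 ^ 11 * 3 ^ 3 * 13 * 5 ^ 2 := by norm_num
    rwa [h3] at h2
  have h2 : ¬ 5 ∣ Nat.card ↥(centralizer ({g} : Set X)) := by
    intro h5
    have : Fact (Nat.Prime 5) := ⟨by norm_num⟩
    obtain ⟨y, hy⟩ := exists_prime_orderOf_dvd_card' (G := ↥(centralizer ({g} : Set X))) 5 h5
    refine ho.ncomm g (y : X) hg ?_ (mem_centralizer_singleton_iff.1 y.2).symm
    rw [← hy]
    exact orderOf_coe _
  have h3 : (Nat.card ↥(centralizer ({g} : Set X))).Coprime (5 ^ 2) :=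
    (((Nat.Prime.coprime_iff_not_dvd (by norm_num)).2 h2).symm).pow_right 2
  exact h3.dvd_of_dvd_mul_right h1

end Cfsg.Agent.BpSpor.Tits

end

-- merged: Cfsg.Agent.BpSpor.RuThreeRow
section

/-!
# S1332: `Ru`, `p = 3` (helper22)
-/

set_option autoImplicit false

namespace Cfsg.Agent.BpSpor.RuThree

open Subgroup Cfsg Cfsg.Agent.BpTab Cfsg.Agent.RuB Cfsg.Agent.RuB.Core Cfsg.Agent.RuB.Count Cfsg.Agent.RuB.NormQ
open Cfsg.Agent.RuB.NormZ Cfsg.Agent.KFacts.Ru

universe u

/-- the class 2A -/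
theorem bd_z {G : Type*} [Group G] [Finite G] (C : Core G) : Cen.Bd 3 (C.z 1) := by
  intro x hx hxz
  obtain ⟨K, hν, hμ, L, hcz⟩ := Cfsg.Agent.Ru127.Sg.exists_localData C
  have hz1 : C.z 1 ≠ 1 := fun h => one_ne_zero (C.z_eq_one h)
  have h5 := InvC.card_sig C _ Local.Zs_mem_ZZ _ (z_mem_Zs 1) hz1
  exact ⟨1, card_dvd L hz1 h5 hx hxz⟩

/-- no element of order 3 commutes with an involution of the class 2B -/
theorem bd_v {G : Type*} [Group G] [Finite G] (C : Core G) (hL : Nat.card ↥C.L = 29120) {a : A4} (ha : a ≠ 0) :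
    Cen.Bd 3 (C.v a) := by
  intro x hx hxv
  exfalso
  obtain ⟨b, l, hl, rfl⟩ := C.cent a ha x hxv
  have h1 : C.v b * l = l * C.v b := C.v_comm b l hl
  have h2 : (C.v b * l) ^ 3 = 1 := by rw [← hx]; exact pow_orderOf_eq_one _
  have h3 : C.v b * C.v b = 1 := C.v_sq b
  have h4 : C.v b * l ^ 3 = 1 := by
    have h5 : (C.v b * l) ^ 3 = C.v b ^ 3 * l ^ 3 := (Commute.mul_pow h1 3)
    rw [h5, pow_succ, pow_two, h3, one_mul] at h2
    exact h2
  have h5 : C.v b ∈ C.L := by
    rw [mul_eq_one_iff_eq_inv.1 h4]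
    exact inv_mem (pow_mem hl 3)
  have h6 : b = 0 := C.v_notin b h5
  subst h6
  have h7 : C.v 0 = 1 := by
    have h8 := C.v_add 0 0
    rw [add_zero] at h8
    exact left_eq_mul.1 h8
  rw [h7, one_mul] at hx
  have h8 : orderOf (⟨l, hl⟩ : ↥C.L) ∣ Nat.card ↥C.L := orderOf_dvd_natCard _
  rw [Subgroup.orderOf_mk, hx, hL] at h8
  norm_num at h8

theorem row {K : Type u} [Group K] (h : Spor.IsoRu K) : BpS 3 K := by
  have D := Row.dat_ru h
  have hfin : Finite K := Nat.finite_of_card_ne_zero (by rw [D.card]; norm_num)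
  have hF : Fact (Nat.Prime 3) := ⟨by norm_num⟩
  obtain ⟨C, -, hL⟩ := Cfsg.Agent.CTwoTab.Ru.exists_core_sz h
  refine BdRow.bps_of_bd (by norm_num) (center_eq_bot_of_card D.simple (by rw [D.card]; norm_num))
    (D.inn 3 (by norm_num) (by norm_num)) fun t ht => ?_
  have ht2 : t * t = 1 := by rw [← pow_two, ← ht]; exact pow_orderOf_eq_one t
  have ht1 : t ≠ 1 := by
    rintro rfl
    rw [orderOf_one] at ht
    norm_num at ht
  rcases InvC.invol_cases C ht2 ht1 with ⟨g, hg⟩ | ⟨g, a, ha, hg⟩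
  · exact (bd_z C).conj (isConj_iff.2 ⟨g, hg⟩)
  · exact (bd_v C hL ha).conj (isConj_iff.2 ⟨g, hg⟩)

theorem bps_three : BpS 3 Spor.Ru := row ⟨MulEquiv.refl _⟩

end Cfsg.Agent.BpSpor.RuThree

end

-- merged: Cfsg.Agent.BpSpor.LyFive
section

/-!
# S1332: the row `BpS 5 Ly` (helper25)

The proof of `CpAut.LyFive.comps_five` (helper89) with the stronger conclusion that `C(x) / O_{5'}(C(x))` has no
component.
-/

set_option autoImplicit false

namespace Cfsg.Agent.BpSpor.LyFive

open Subgroup Equiv Cfsg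
open Cfsg.Agent.SporRec.TwoAn Cfsg.Agent.TypeM.Two Cfsg.Agent.CpAut.Cyc Cfsg.Agent.CpAut.CycFive
open Cfsg.Agent.CpAut.LyFive Cfsg.Agent.CpAut Cfsg.Agent.CpAut.LyFiveRow Cfsg.Agent.BpTab
open Cfsg.Agent.Ly.Mat7 Cfsg.Agent.Ly.Upper Cfsg.Agent.Ly.Setup

universe u

variable {G : Type u} [Group G] [Finite G]

theorem noComp_five (FT : ∀ (K : Type u) [Group K] [Finite K], Odd (Nat.card K) → Group.IsSolvable K)
    (L : MT 11 G) (hz : ∃ z₀ t₀ w₀ : G, orderOf z₀ = 5 ∧ orderOf t₀ = 2 ∧ orderOf w₀ = 3 ∧ t₀ * z₀ = z₀ * t₀ ∧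
      w₀ * t₀ = t₀ * w₀ ∧ w₀ * z₀ = z₀ * w₀ ∧ 5 ^ 3 ∣ Nat.card (centralizer ({z₀} : Set G))) {x : G}
    (hx : orderOf x = 5) : NoComp 5 ↥(centralizer ({x} : Set G)) := by
  by_cases hev : 2 ∣ Nat.card ↥(centralizer ({x} : Set G))
  swap
  · exact NoComp.of_solvable (FT _ (by rwa [← Nat.not_even_iff_odd, even_iff_two_dvd]))
  have : Fact (Nat.Prime 2) := ⟨Nat.prime_two⟩
  obtain ⟨s, hs⟩ := exists_prime_orderOf_dvd_card' 2 hev
  have hs2 : orderOf (s : G) = 2 := by rw [Subgroup.orderOf_coe]; exact hs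
  obtain ⟨hss, hs1⟩ := MT.sq_of_orderOf hs2
  obtain ⟨L', hL'⟩ := L.exists_rebase hss hs1
  have htx : L'.t * x = x * L'.t := by
    rw [hL']
    exact mem_centralizer_singleton_iff.1 s.2
  set y : ↥(centralizer ({L'.t} : Set G)) := ⟨x, mem_centralizer_singleton_iff.2 htx.symm⟩ with hyd
  have hx5 : x ^ 5 = 1 := by rw [← hx, pow_orderOf_eq_one]
  have hx1 : x ≠ 1 := by
    rintro rfl
    rw [orderOf_one] at hx
    norm_num at hx
  have hy5 : y ^ 5 = 1 := Subtype.ext hx5
  rcases five_cases L'.K hy5 (fun e => hx1 (congrArg Subtype.val e)) with hty | hty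
  · -- a 5-cycle
    intro J hJ
    refine no_comp_of_cycle FT L' hx htx hty ?_ J hJ
    obtain ⟨z₀, t₀, w₀, hz5, ht2, hw3, htz, hwt, hwz, h125⟩ := hz
    obtain ⟨htt, ht1⟩ := MT.sq_of_orderOf ht2
    -- conjugate `t₀` to `t`
    obtain ⟨g, hg⟩ := L'.conj_of_involutions htt ht1 L'.t_mul_t L'.t_ne
    set z₁ := g * z₀ * g⁻¹ with hz₁
    set w₁ := g * w₀ * g⁻¹ with hw₁
    have htz1 : L'.t * z₁ = z₁ * L'.t := by
      rw [← hg, hz₁]
      calc g * t₀ * g⁻¹ * (g * z₀ * g⁻¹) = g * (t₀ * z₀) * g⁻¹ := by group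
        _ = g * z₀ * g⁻¹ * (g * t₀ * g⁻¹) := by rw [htz]; group
    have htw1 : w₁ * L'.t = L'.t * w₁ := by
      rw [← hg, hw₁]
      calc g * w₀ * g⁻¹ * (g * t₀ * g⁻¹) = g * (w₀ * t₀) * g⁻¹ := by group
        _ = g * t₀ * g⁻¹ * (g * w₀ * g⁻¹) := by rw [hwt]; group
    have hwz1 : w₁ * z₁ = z₁ * w₁ := by
      rw [hw₁, hz₁]
      calc g * w₀ * g⁻¹ * (g * z₀ * g⁻¹) = g * (w₀ * z₀) * g⁻¹ := by group
        _ = g * z₀ * g⁻¹ * (g * w₀ * g⁻¹) := by rw [hwz]; group
    have hz15 : z₁ ^ 5 = 1 := by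
      rw [hz₁, conj_pow, ← hz5, pow_orderOf_eq_one, mul_one, mul_inv_cancel]
    have hz11 : z₁ ≠ 1 := by
      intro e
      rw [hz₁, conj_eq_one_iff] at e
      rw [e, orderOf_one] at hz5
      norm_num at hz5
    have hw13 : orderOf w₁ = 3 := by
      rw [hw₁, ← hw3]
      exact (MulEquiv.orderOf_eq (MulAut.conj g) w₀)
    set y₁ : ↥(centralizer ({L'.t} : Set G)) := ⟨z₁, mem_centralizer_singleton_iff.2 htz1.symm⟩ with hy₁
    have hy15 : y₁ ^ 5 = 1 := Subtype.ext hz15
    have hty1 : (L'.K.π y₁).cycleType = {5} := by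
      rcases five_cases L'.K hy15 (fun e => hz11 (congrArg Subtype.val e)) with h | h
      · exact h
      · exfalso
        let w' : ↥(centralizer ({L'.t} : Set G)) := ⟨w₁, mem_centralizer_singleton_iff.2 htw1⟩
        have hw' : w' ∈ centralizer ({y₁} : Set ↥(centralizer ({L'.t} : Set G))) :=
          mem_centralizer_singleton_iff.2 (Subtype.ext hwz1)
        have h1 : orderOf (⟨w', hw'⟩ : ↥(centralizer ({y₁} : Set ↥(centralizer ({L'.t} : Set G))))) = 3 := by
          rw [← Subgroup.orderOf_coe, ← Subgroup.orderOf_coe]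
          exact hw13
        have h2 := orderOf_dvd_natCard (⟨w', hw'⟩ : ↥(centralizer ({y₁} : Set ↥(centralizer ({L'.t} : Set G)))))
        rw [h1] at h2
        have h3 := h2.trans (card_cent_five_two L'.K h)
        revert h3
        decide
    -- `x` and `z₁` are conjugate
    obtain ⟨ρ, hρ, hρc⟩ := exists_even_conj (σ := L'.K.π y) (τ := L'.K.π y₁) (by rw [hty, hty1]) (by
      rw [← (L'.K.π y).sum_cycleType, hty]
      decide)
    obtain ⟨c, hc⟩ := Cyc.exists_conj L'.K (n := 5) (by decide) hy5 hy15 hρ hρc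
    have hcx : (c : G) * x * (c : G)⁻¹ = z₁ := congrArg Subtype.val hc
    have hcz : (g⁻¹ * (c : G)) * x * (g⁻¹ * (c : G))⁻¹ = z₀ := by
      have h1 : z₀ = g⁻¹ * z₁ * g := by rw [hz₁]; group
      rw [h1, ← hcx]
      group
    have hcard : Nat.card (centralizer ({x} : Set G)) = Nat.card (centralizer ({z₀} : Set G)) := by
      have h1 : (centralizer ({x} : Set G)).map (MulAut.conj (g⁻¹ * (c : G))).toMonoidHom =
          centralizer ({z₀} : Set G) := by
        ext v
        constructor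
        · rintro ⟨a, ha, rfl⟩
          rw [SetLike.mem_coe, mem_centralizer_singleton_iff] at ha
          rw [mem_centralizer_singleton_iff, ← hcz]
          change (g⁻¹ * (c : G)) * a * (g⁻¹ * (c : G))⁻¹ * ((g⁻¹ * (c : G)) * x * (g⁻¹ * (c : G))⁻¹) =
            (g⁻¹ * (c : G)) * x * (g⁻¹ * (c : G))⁻¹ * ((g⁻¹ * (c : G)) * a * (g⁻¹ * (c : G))⁻¹)
          calc (g⁻¹ * (c : G)) * a * (g⁻¹ * (c : G))⁻¹ * ((g⁻¹ * (c : G)) * x * (g⁻¹ * (c : G))⁻¹)
              = (g⁻¹ * (c : G)) * (a * x) * (g⁻¹ * (c : G))⁻¹ := by group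
            _ = (g⁻¹ * (c : G)) * x * (g⁻¹ * (c : G))⁻¹ * ((g⁻¹ * (c : G)) * a * (g⁻¹ * (c : G))⁻¹) := by
              rw [ha]; group
        · intro hv
          rw [mem_centralizer_singleton_iff, ← hcz] at hv
          refine ⟨(g⁻¹ * (c : G))⁻¹ * v * (g⁻¹ * (c : G)), ?_, ?_⟩
          · rw [SetLike.mem_coe, mem_centralizer_singleton_iff]
            calc (g⁻¹ * (c : G))⁻¹ * v * (g⁻¹ * (c : G)) * x
                = (g⁻¹ * (c : G))⁻¹ * (v * ((g⁻¹ * (c : G)) * x * (g⁻¹ * (c : G))⁻¹)) * (g⁻¹ * (c : G)) := by group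
              _ = x * ((g⁻¹ * (c : G))⁻¹ * v * (g⁻¹ * (c : G))) := by rw [hv]; group
          · change (g⁻¹ * (c : G)) * ((g⁻¹ * (c : G))⁻¹ * v * (g⁻¹ * (c : G))) * (g⁻¹ * (c : G))⁻¹ = v
            group
      rw [← h1]
      exact (card_map_of_injective (MulAut.conj (g⁻¹ * (c : G))).injective).symm
    rw [hcard]
    exact h125
  · -- type `5^2`
    apply NoComp.of_solvable
    let t' : ↥(centralizer ({x} : Set G)) := ⟨L'.t, mem_centralizer_singleton_iff.2 htx⟩
    have ht' : orderOf t' = 2 := by rw [← Subgroup.orderOf_coe]; exact L'.orderOf_t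
    refine TwoCov.solvable_of_two FT ht' ?_
    intro g k hk hgt
    have hgt' : (g : G) * L'.t = L'.t * g := congrArg Subtype.val hgt
    have hgx : (g : G) * x = x * g := mem_centralizer_singleton_iff.1 g.2
    have hk' : (g : G) ^ 2 ^ k = 1 := by
      have h0 := congrArg Subtype.val hk
      exact h0
    rcases two_elements L'.K hty (g := ⟨(g : G), L'.mem_iff.2 hgt'⟩) (Subtype.ext hgx) (k := k)
      (Subtype.ext hk') with h | h
    · left
      have h0 : (g : G) = 1 := congrArg Subtype.val h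
      exact Subtype.ext h0
    · right
      have h0 : (g : G) = (L'.K.z : ↥(centralizer ({L'.t} : Set G))) := congrArg Subtype.val h
      exact Subtype.ext (h0.trans L'.hz)



/-- **The row `BpS 5 Ly`.** -/
theorem bpS (FT : ∀ (K : Type) [Group K] [Finite K], Odd (Nat.card K) → Group.IsSolvable K) :
    BpS 5 Cfsg.Spor.Ly := by
  have : Finite Cfsg.Spor.Ly := Nat.finite_of_card_ne_zero (by rw [card_ly]; norm_num)
  obtain ⟨L⟩ := TypeM.FactsLy.exists_mt_ly
  refine bpS_of_inner (center_eq_bot_of_simple ?_) (autInner 5) ?_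
  · intro h
    have := pw_eq cd
    rw [pw_append, pw_append, pw_append, ← mul_assoc, h.is_comm.comm (pw wc) (pw wd)] at this
    exact pw_ne z_ne (mul_eq_left.1 this.symm)
  · intro g hg
    exact (noComp_five FT L exists_data hg).good

end Cfsg.Agent.BpSpor.LyFive

end

-- merged: Cfsg.Agent.BpSpor.LyRowFive
section

/-!
# S1332: the row `BpS 5 Ly` (helper25)
-/

set_option autoImplicit false

namespace Cfsg.Agent.BpSpor.Ly

/-- **The row `BpS 5 Ly`.** -/
theorem bps_five : Cfsg.Agent.BpTab.BpS 5 Cfsg.Spor.Ly :=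
  LyFive.bpS fun _ _ _ h => Cfsg.Agent.S0205.result h

end Cfsg.Agent.BpSpor.Ly

end

-- merged: Cfsg.Agent.BpSpor.MThreeRow
section

/-!
# S1332: the row `M`, `p = 3`, from the facts on `Co1` (helper23)
-/

set_option autoImplicit false
set_option maxRecDepth 100000

namespace Cfsg.Agent.BpSpor.MThree

open Cfsg Cfsg.Agent.MonsterU Cfsg.Agent.LThree Cfsg.Agent.LThreeMB
open Cfsg.Agent.MonsterU.Ch
open Cfsg.Agent.MonsterU.Lam2 (L2)
open Cfsg.Spor (Co1)
open Cfsg.Agent.MonsterX.KSide Cfsg.Agent.MonsterX.KLift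
open Subgroup (centralizer zpowers mem_centralizer_singleton_iff)

universe u

section

variable {G : Type u} {V P W : Type*} [Group G] [AddCommGroup V] [Module ℚ V]
  [DistribMulAction G V] [SMulCommClass G ℚ V] [Group P] [AddCommGroup W] [Module ℚ W]
  {M : KS G V P W} {θ : leechLattice → P}

theorem good_congr_conj {x g y : G} [Finite G] (h : g * x * g⁻¹ = y)
    (hx : BpTab.Good 3 ↥(centralizer ({x} : Set G))) : BpTab.Good 3 ↥(centralizer ({y} : Set G)) := by
  have : Fact (Nat.Prime 3) := ⟨Nat.prime_three⟩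
  obtain ⟨⟨e⟩, -⟩ := exists_XX_equiv h
  exact hx.congr e

/-- **`x` of order 3 in `C(z)`.** -/
theorem good_cent [Finite G] [IsSimpleGroup G] (L : Lift M θ) (hc : KChart.Cent M) (I : CoOne)
    (ht : TrNe M.z (KChart.pi hc)) (hp : HasPair M.z (KChart.pi hc)) (hG : Nat.card G ∣ nM)
    {x : centralizer ({M.z} : Set G)} (hx : orderOf x = 3) :
    BpTab.Good 3 ↥(centralizer ({(x : G)} : Set G)) := by
  have h3 : Fact (Nat.Prime 3) := ⟨Nat.prime_three⟩
  have h := KChart.chart L hc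
  have hxG : orderOf (x : G) = 3 := by rw [Subgroup.orderOf_coe, hx]
  have zero : ∀ {y : centralizer ({M.z} : Set G)}, orderOf y = 3 → fr (KChart.pi hc y) = 1 →
      BpTab.Good 3 ↥(centralizer ({(y : G)} : Set G)) := fun {y} hy hfr =>
    (dat_zero L hc ht hy hfr (I.suz _ (orderOf_pi h hy) hfr)).good ((Subgroup.card_subgroup_dvd_card _).trans hG)
  rcases I.ranks _ (orderOf_pi h hx) with hfr | hfr | hfr | hfr
  · exact zero hx hfr
  · obtain ⟨x₀, u, g, hx₀, hfr₀, huz, hux, hne, hg⟩ := hp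
    obtain ⟨k, hk⟩ := conj_six h ht I.ranks I.six (fun x hx h2 => ⟨(good_of_inputs.{u} h I hx h2).simple,
      (good_of_inputs.{u} h I hx h2).nc⟩) hx₀ hfr₀ huz hux hne hg hx hfr
    have hk' : k⁻¹ * (x₀ : G) * k⁻¹⁻¹ = x := by rw [← hk]; group
    exact good_congr_conj hk' (zero hx₀ hfr₀)
  · obtain ⟨e⟩ := LThreeB.isoTh_of_inputs h I hx hfr
    have hs := Cfsg.Agent.S1700.result
    refine Co1.good_of_XX hxG (BpTab.pPrimeCore_eq_bot_of_simple ((MulEquiv.isSimpleGroup_congr e).2 hs.1) ?_)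
    rw [Nat.card_congr e.toEquiv, hs.2]
    norm_num
  · obtain ⟨e⟩ := LThreeB.isoFi_of_inputs h I hx hfr
    have hs := Cfsg.Agent.S1698.result
    refine Co1.good_of_XX hxG (BpTab.pPrimeCore_eq_bot_of_simple ((MulEquiv.isSimpleGroup_congr e).2 hs.1) ?_)
    rw [Nat.card_congr e.toEquiv, hs.2]
    norm_num

end

open Cfsg.Agent.MonsterX Cfsg.Agent.MonsterX.InstData Cfsg.Agent.MonsterX.MainPack
open Cfsg.Agent.MonsterP Cfsg.Agent.MonsterN

theorem card_model : Nat.card ↥InstData.M.G = nM := by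
  obtain ⟨f⟩ := Cfsg.Agent.MonsterP.Equiv.equiv
  rw [← Nat.card_congr f.toEquiv]
  exact Cfsg.Agent.MonsterP.Equiv.isM.2

theorem good_model (I : CoOne) {x : ↥InstData.M.G} (hx : orderOf x = 3) :
    BpTab.Good 3 ↥(centralizer ({x} : Set ↥InstData.M.G)) := by
  have := LThreeMB.Row.finite_model
  have := LThreeMB.Row.simple_model
  by_cases he : Odd (Nat.card ↥(centralizer ({x} : Set ↥InstData.M.G)))
  · exact BpTab.good_of_solvable (LThreeMB.Row.ft _ he)
  · obtain ⟨g, hg⟩ := LThreeM.FiRow.exists_z_of_even hx he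
    have h1 : (g⁻¹ * x * g) * KDone.K.z = KDone.K.z * (g⁻¹ * x * g) := by
      calc (g⁻¹ * x * g) * KDone.K.z = g⁻¹ * (x * (g * KDone.K.z * g⁻¹)) * g := by group
        _ = g⁻¹ * ((g * KDone.K.z * g⁻¹) * x) * g := by rw [hg]
        _ = KDone.K.z * (g⁻¹ * x * g) := by group
    let x' : centralizer ({KDone.K.z} : Set ↥InstData.M.G) := ⟨g⁻¹ * x * g, mem_centralizer_singleton_iff.2 h1⟩
    have h3 : g * (x' : ↥InstData.M.G) * g⁻¹ = x := by
      show g * (g⁻¹ * x * g) * g⁻¹ = x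
      group
    have hx' : orderOf x' = 3 := by
      rw [← Subgroup.orderOf_coe, ← hx, ← h3]
      exact (orderOf_injective (MulAut.conj g).toMonoidHom (MulAut.conj g).injective (x' : ↥InstData.M.G)).symm
    exact good_congr_conj h3 (good_cent KDone.lft LThreeMB.Row.cent I
      (KPair.trNe KDone.lft LThreeMB.Row.cent (LThreeMBTr.traceNe KDone.lft LThreeMBTr.TensK.tens))
      (KPair.hasPair KDone.lft LThreeMB.Row.cent LThreeMB.Row.second COct.octPair) (by rw [card_model]) hx')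

/-- **Row `M`, `p = 3`.** -/
theorem bps_three_of (I : CoOne) : BpTab.BpS 3 Spor.Monster := by
  have h3 : Fact (Nat.Prime 3) := ⟨Nat.prime_three⟩
  have hfin : Finite Spor.Monster := Nat.finite_of_card_ne_zero (by
    rw [Cfsg.Agent.MonsterP.Equiv.isM.2]
    norm_num)
  obtain ⟨f⟩ := Cfsg.Agent.MonsterP.Equiv.equiv
  refine bpS_of_inner (center_eq_bot_of_card Cfsg.Agent.MonsterP.Equiv.isM.1 (by
    rw [Cfsg.Agent.MonsterP.Equiv.isM.2]; norm_num)) (Inn.m ⟨MulEquiv.refl _⟩ 3 Nat.prime_three (by norm_num))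
    fun g hg => ?_
  have h1 : orderOf (f g) = 3 := by rw [MulEquiv.orderOf_eq, hg]
  have e : ↥(centralizer ({g} : Set Spor.Monster)) ≃* ↥(centralizer ({f g} : Set ↥InstData.M.G)) := by
    refine ((centralizer ({g} : Set Spor.Monster)).equivMapOfInjective f.toMonoidHom f.injective).trans
      (MulEquiv.subgroupCongr ?_)
    ext y
    rw [Subgroup.mem_map, mem_centralizer_singleton_iff]
    constructor
    · rintro ⟨c, hc, rfl⟩
      rw [mem_centralizer_singleton_iff] at hc
      show f c * f g = f g * f c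
      rw [← map_mul, hc, map_mul]
    · intro hy
      refine ⟨f.symm y, ?_, f.apply_symm_apply y⟩
      rw [mem_centralizer_singleton_iff]
      apply f.injective
      rw [map_mul, map_mul, f.apply_symm_apply, hy]
  have := LThreeMB.Row.finite_model
  exact (good_model I h1).congr e.symm

end Cfsg.Agent.BpSpor.MThree

end

-- merged: Cfsg.Agent.BpSpor.CoOneFive
section

/-!
# S1332: the row `Co1`, `p = 5`, from the facts on the elements of order five (helper18)

* `bps_five_of` : the row from the three fixed ranks and the conjugacy of the elements of fixed rank 4 and 8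
  (helper89), `C(s) / ⟨s⟩ ≅ J2` for fixed rank 0 (helper49) and the absence of components for an element of fixed rank 4
  (helper67); the element of fixed rank 8 is helper72's.
-/

set_option autoImplicit false

namespace Cfsg.Agent.BpSpor.Co1

open Subgroup Cfsg Cfsg.Agent.BpTab Cfsg.Agent.Lib Cfsg.Agent.LThreeMB
open Cfsg.Spor (Co1)

/-- `Good p` of the centralizers of conjugate elements -/
theorem good_conj {p : ℕ} [Fact p.Prime] {s t : Co1} (h : ∃ g : Co1, g * s * g⁻¹ = t)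
    (hs : Good p ↥(centralizer ({s} : Set Co1))) : Good p ↥(centralizer ({t} : Set Co1)) := by
  have hfin : Finite Co1 := CpAutBig.CoOneSeven.finite_co1
  obtain ⟨g, rfl⟩ := h
  have e : ↥(centralizer ({s} : Set Co1)) ≃* ↥(centralizer ({g * s * g⁻¹} : Set Co1)) :=
    ((centralizer ({s} : Set Co1)).equivMapOfInjective _ (MulAut.conj g).injective).trans
      (MulEquiv.subgroupCongr (CpAutBig.CoZero.map_centralizer g s))
  exact hs.congr e

/-- **Row `Co1`, `p = 5`**, from the facts on the elements of order five. -/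
theorem bps_five_of (hr : ∀ s : Co1, orderOf s = 5 → fr s = 1 ∨ fr s = 2 ^ 4 ∨ fr s = 2 ^ 8)
    (c4 : MFive.ClassOf 5 (2 ^ 4)) (c8 : MFive.ClassOf 5 (2 ^ 8))
    (h0 : ∀ s : Co1, orderOf s = 5 → fr s = 1 → Spor.IsoJ2 (XX s))
    (h4 : ∃ s : Co1, orderOf s = 5 ∧ fr s = 2 ^ 4 ∧
      ∀ L : Subgroup (↥(centralizer ({s} : Set Co1)) ⧸ pPrimeCore 5 ↥(centralizer ({s} : Set Co1))), ¬ IsComponent L) :
    BpS 5 Co1 := by
  have hfin : Finite Co1 := CpAutBig.CoOneSeven.finite_co1
  have : Fact (Nat.Prime 5) := ⟨by norm_num⟩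
  refine Transfer.bps_of_inner CpAutBig.CoOneSeven.center_co1 (CpAutBig.CoOneSeven.autInner 5) fun s hs => ?_
  rcases hr s hs with h | h | h
  · obtain ⟨e⟩ := h0 s hs h
    refine good_of_XX hs (BpTab.pPrimeCore_eq_bot_of_simple ((MulEquiv.isSimpleGroup_congr e).2 S1620.result.1) ?_)
    rw [Nat.card_congr e.toEquiv, S1619.result.2.2.2]
    norm_num
  · obtain ⟨t, ht, hft, hL⟩ := h4
    exact good_conj (c4 t s ht hs hft h) (good_of_noComp hL)
  · refine good_conj (c8 MFiveHN.Cent.xx s MFiveHN.Cent.order_x hs MFiveHN.Inst.fr_xx h)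
      (good_of_XX MFiveHN.Cent.order_x ?_)
    have hfX : Finite (XX MFiveHN.Cent.xx) := Nat.finite_of_card_ne_zero (by rw [MFiveHN.Cent.quo.1]; norm_num)
    rcases MFiveHN.Cent.quo.2 _ (Cores.pPrimeCore_normal 5) with h1 | h1
    · exact h1
    · exfalso
      have h2 := Cores.pPrimeCore_coprime (G := XX MFiveHN.Cent.xx) 5
      have h3 : 5 ∣ Nat.card ↥(pPrimeCore 5 (XX MFiveHN.Cent.xx)) := Dvd.dvd.trans (by norm_num) h1
      have h4 := Nat.eq_one_of_dvd_coprimes h2 h3 dvd_rfl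
      norm_num at h4

end Cfsg.Agent.BpSpor.Co1

end

-- merged: Cfsg.Agent.BpSpor.CoOneRows
section

/-!
# S1332: the rows `Co1`, `p = 3` and `p = 5`, with the classes and the fixed ranks plugged in (helper18)

* `six` : the element of order three of fixed rank 6 (helper46, helper53);
* `bps_three_coOne` : the row `p = 3` from `LThreeMB.CoOne` alone;
* `bps_five_coFive` : the row `p = 5` from `C(s) / ⟨s⟩ ≅ J2` (fixed rank 0) and one element of fixed rank 4 whose
  centralizer has no components modulo the core.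
-/

set_option autoImplicit false

namespace Cfsg.Agent.BpSpor.Co1

open Subgroup Cfsg Cfsg.Agent.BpTab Cfsg.Agent.Lib Cfsg.Agent.LThreeMB
open Cfsg.Spor (Co1)

/-- the element of order three of fixed rank 6 -/
theorem six : ∃ s : Co1, orderOf s = 3 ∧ fr s = 2 ^ 6 ∧
    ∀ L : Subgroup (↥(centralizer ({s} : Set Co1)) ⧸ pPrimeCore 3 ↥(centralizer ({s} : Set Co1))), ¬ IsComponent L := by
  refine ⟨QuotientGroup.mk LThreeCo1.Class.c6, ?_, LThreeCo1.Ranks.fr_c6, LThreeCo1Six.Main.noComp_pr⟩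
  have h3 : (QuotientGroup.mk LThreeCo1.Class.c6 : Co1) ^ 3 = 1 := by
    rw [← QuotientGroup.mk_pow, ← LThreeCo1.Class.order_c6, pow_orderOf_eq_one]
    rfl
  have : Fact (Nat.Prime 3) := ⟨Nat.prime_three⟩
  refine orderOf_eq_prime h3 fun h1 => ?_
  have h4 := pow_card_eq_one' (G := Subgroup.center Co0)
    (x := ⟨LThreeCo1.Class.c6, (QuotientGroup.eq_one_iff _).1 h1⟩)
  rw [LThreeCo1Six.Main.card_center] at h4
  have h5 : orderOf LThreeCo1.Class.c6 ∣ 2 := orderOf_dvd_of_pow_eq_one (congrArg Subtype.val h4)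
  rw [LThreeCo1.Class.order_c6] at h5
  norm_num at h5

/-- **Row `Co1`, `p = 3`**, from `LThreeMB.CoOne`. -/
theorem bps_three_coOne (I : CoOne) : BpS 3 Co1 := bps_three_of I six

/-- **Row `Co1`, `p = 5`**, from the centralizers of fixed rank 0 and 4. -/
theorem bps_five_coFive (h0 : ∀ s : Co1, orderOf s = 5 → fr s = 1 → Spor.IsoJ2 (XX s))
    (h4 : ∃ s : Co1, orderOf s = 5 ∧ fr s = 2 ^ 4 ∧
      ∀ L : Subgroup (↥(centralizer ({s} : Set Co1)) ⧸ pPrimeCore 5 ↥(centralizer ({s} : Set Co1))), ¬ IsComponent L) :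
    BpS 5 Co1 :=
  bps_five_of CoFive.Ranks.ranks (CoFive.Ranks.classOf _) (CoFive.Ranks.classOf _) h0 h4

end Cfsg.Agent.BpSpor.Co1

end

-- merged: Cfsg.Agent.BpSpor.CoOneFin
section

/-!
# S1332: the row `Co1`, `p = 5`, from the centralizer of fixed rank 0 (helper18)
-/

set_option autoImplicit false

namespace Cfsg.Agent.BpSpor.Co1

open Subgroup Cfsg Cfsg.Agent.BpTab Cfsg.Agent.Lib Cfsg.Agent.LThreeMB
open Cfsg.Spor (Co1)

/-- the image in `Co1` of an element of order five of `Co0` has order five -/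
theorem order_mk_five {g : Co0} (hg : orderOf g = 5) : orderOf (QuotientGroup.mk g : Co1) = 5 := by
  have : Fact (Nat.Prime 5) := ⟨Nat.prime_five⟩
  refine orderOf_eq_prime ?_ fun h1 => ?_
  · rw [← QuotientGroup.mk_pow, ← hg, pow_orderOf_eq_one]
    rfl
  · have h5 := orderOf_dvd_of_pow_eq_one (CoFive.Ranks.sq_of_center ((QuotientGroup.eq_one_iff g).1 h1))
    rw [hg] at h5
    norm_num at h5

/-- **Row `Co1`, `p = 5`**, from `C(s) / ⟨s⟩ ≅ J2` for fixed rank 0. -/
theorem bps_five_zero (h0 : ∀ s : Co1, orderOf s = 5 → fr s = 1 → Spor.IsoJ2 (XX s)) : BpS 5 Co1 :=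
  bps_five_coFive h0 ⟨QuotientGroup.mk CoFive.Class.r4, order_mk_five CoFive.Class.order_r4, CoFive.Ranks.fr_r4,
    CoFiveC.Main.noComp_mk⟩

end Cfsg.Agent.BpSpor.Co1

end

-- merged: Cfsg.Agent.BpSpor.CoOneDone
section

/-!
# S1332: the rows `Co1`, `p = 3, 5`, without hypotheses (helper18)
-/

set_option autoImplicit false

namespace Cfsg.Agent.BpSpor.Co1

open Cfsg Cfsg.Agent.BpTab

/-- **Row `Co1`, `p = 3`.** -/
theorem bps_three : BpS 3 Spor.Co1 := bps_three_coOne LThreeMB.CoOneFin.coOne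

/-- **Row `Co1`, `p = 5`.** -/
theorem bps_five : BpS 5 Spor.Co1 := bps_five_zero fun _ hs h => MFive.JTwo.isoJ2 hs h

end Cfsg.Agent.BpSpor.Co1

end

-- merged: Cfsg.Agent.BpSpor.BThreeCases
section

/-!
# S1332: `C_M(x) ∩ C_M(t)`, `x` of order 3 and fixed rank 8 or 12, `t` not conjugate to `z` (helper23)

* `false_of_th` : fixed rank 8 (`C(x)/⟨x⟩ ≅ Th`, one class of involutions): `t` is conjugate to `z`;
* `good_fi` : fixed rank 12 (`C(x)/⟨x⟩ ≅ Fi24'`): the image of `t` is a product of two commuting transpositions, the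
  centralizer is `2.Fi22` by a group of order at most 2;
* `good_inf` : `Good 3 (C(x) ∩ C(t))` in both cases.
-/

set_option autoImplicit false

namespace Cfsg.Agent.BpSpor.BThree.Cases

open scoped commutatorElement
open Subgroup Cfsg Cfsg.Agent.LThree Cfsg.Agent.LThreeMB Cfsg.Agent.MonsterU Cfsg.Agent.MonsterU.Ch
open Cfsg.Agent.MonsterU.Lam2 (L2 IsType)
open Cfsg.Spor (Co1)
open Cfsg.Agent.LThreeB (XT mem_XT conj_comm' conjXT infEquiv ser_tt card_centralizer_congr dvd_pair)

universe u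

/-! ### `Fi24'` -/

open Cfsg.Agent.R08 Cfsg.Agent.R08.FiTwentyFour in
/-- products of two commuting transpositions -/
theorem good_pair {a b : Spor.Fi24} (P : Cfsg.Agent.R08.TetFi24A.At a b) {t : Spor.Fi24'}
    (ht : (t : Spor.Fi24) = a * b) : BpTab.Good 3 ↥(centralizer ({t} : Set Spor.Fi24')) := by
  have : Fact (Nat.Prime 3) := ⟨Nat.prime_three⟩
  have := finite_Fi24
  have hf4 : Finite Spor.Fi24' := inferInstance
  have hf22 : Finite Spor.Fi22 := Nat.finite_of_card_ne_zero (by rw [Cfsg.Agent.S1696.result.2]; norm_num)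
  have hcm : ∀ x ∈ centralizer ({t} : Set Spor.Fi24'), ∀ y ∈ centralizer ({t} : Set Spor.Fi24'),
      ⁅x, y⁆ ∈ CTwoTab.FiTF.N a b := by
    intro x hx y hy
    rw [CTwoTab.FiTF.mem_N]
    have h := CTwoTab.FiTF.comm_fix (CTwoTab.FiTF.fix_or_swap P ht hx) (CTwoTab.FiTF.fix_or_swap P ht hy)
    have e : ((⁅x, y⁆ : Spor.Fi24') : Spor.Fi24) = ⁅(x : Spor.Fi24), (y : Spor.Fi24)⁆ := by
      rw [commutatorElement_def, commutatorElement_def]
      push_cast
      rfl
    rw [mem_Cab, e]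
    refine ⟨?_, h.1, h.2⟩
    rw [← e]
    exact mem_commutator_iff.1 (⁅x, y⁆ : Spor.Fi24').2
  let C := centralizer ({t} : Set Spor.Fi24')
  let N : Subgroup ↥C := (CTwoTab.FiTF.N a b).subgroupOf C
  have hN : N.Normal := ⟨fun x hx c => by
    have h1 : c * x * c⁻¹ = ⁅c, x⁆ * x := by rw [commutatorElement_def]; group
    rw [h1]
    exact N.mul_mem (mem_subgroupOf.2 (hcm c c.2 x x.2)) hx⟩
  let e0 : ↥N ≃* ↥(Cab a b) := (subgroupOfEquivOfLe (CTwoTab.FiTF.N_le ht)).trans (CTwoTab.FiTF.eN a b)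
  have hCab : BpTab.Good 3 ↥(Cab a b) := by
    refine (BpTab.good_of_simple Cfsg.Agent.S1696.result.1 : BpTab.Good 3 Spor.Fi22).of_surjective (f := P.π)
      P.lift.ext.surj ?_
    exact (CTwoTab.FiTF.ker_le P).trans (center_le_centralizer _)
  refine (hCab.congr e0.symm).of_solvable_quotient (N := N) ?_
  refine Group.isSolvable_of_comm fun x y => ?_
  obtain ⟨x, rfl⟩ := QuotientGroup.mk'_surjective N x
  obtain ⟨y, rfl⟩ := QuotientGroup.mk'_surjective N y
  rw [← commutatorElement_eq_one_iff_mul_comm, ← map_commutatorElement]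
  exact (QuotientGroup.eq_one_iff _).2 (mem_subgroupOf.2 (hcm x x.2 y y.2))

/-- **`Fi24'`**: `s` with `13` prime to `|C(s)|`, `t` not conjugate to `s`. -/
theorem good_fi24 {X : Type u} [Group X] (h : Spor.IsoFi24' X) {s t : X} (hs : orderOf s = 2)
    (h13 : ¬ 13 ∣ Nat.card ↥(centralizer ({s} : Set X))) (ht : orderOf t = 2) (hn : ¬ IsConj t s) :
    BpTab.Good 3 ↥(centralizer ({t} : Set X)) := by
  have : Fact (Nat.Prime 3) := ⟨Nat.prime_three⟩
  have := Cfsg.Agent.R08.FiTwentyFour.finite_Fi24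
  have hf4 : Finite Spor.Fi24' := inferInstance
  obtain ⟨e⟩ := h
  have hfX : Finite X := Finite.of_equiv _ e.symm.toEquiv
  have hes : orderOf (e s) = 2 := by rw [MulEquiv.orderOf_eq, hs]
  have het : orderOf (e t) = 2 := by rw [MulEquiv.orderOf_eq, ht]
  obtain ⟨g, hg⟩ : ∃ g : Spor.Fi24', e s = g * CTwoTab.FiTF.z0 * g⁻¹ := by
    rcases CTwoTab.FiTF.classes (e s) hes with ⟨a, b, P, h1⟩ | h1
    · exfalso
      apply h13
      rw [card_centralizer_congr e]
      exact dvd_pair P h1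
    · exact h1
  have hgood : BpTab.Good 3 ↥(centralizer ({e t} : Set Spor.Fi24')) := by
    rcases CTwoTab.FiTF.classes (e t) het with ⟨a, b, P, h1⟩ | ⟨k, hk⟩
    · exact good_pair P h1
    · exfalso
      apply hn
      have h1 : IsConj (e t) (e s) := isConj_iff.2 ⟨g * k⁻¹, by rw [hk, hg]; group⟩
      obtain ⟨c, hc⟩ := isConj_iff.1 h1
      exact isConj_iff.2 ⟨e.symm c, e.injective (by
        rw [map_mul, map_mul, map_inv, e.apply_symm_apply, hc])⟩
  have e1 : ↥(centralizer ({t} : Set X)) ≃* ↥(centralizer ({e t} : Set Spor.Fi24')) := by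
    refine ((centralizer ({t} : Set X)).equivMapOfInjective e.toMonoidHom e.injective).trans
      (MulEquiv.subgroupCongr ?_)
    ext y
    rw [mem_map, mem_centralizer_singleton_iff]
    constructor
    · rintro ⟨c, hc, rfl⟩
      rw [mem_centralizer_singleton_iff] at hc
      show e c * e t = e t * e c
      rw [← map_mul, hc, map_mul]
    · intro hy
      refine ⟨e.symm y, mem_centralizer_singleton_iff.2 (e.injective ?_), e.apply_symm_apply y⟩
      rw [map_mul, map_mul, e.apply_symm_apply, hy]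
  exact hgood.congr e1.symm

/-! ### The group `C(x) / ⟨x⟩` -/

variable {G : Type u} [Group G]

/-- an element of `C(x)` -/
abbrev lf {x t : G} (htx : t * x = x * t) : ↥(centralizer ({x} : Set G)) := ⟨t, mem_centralizer_singleton_iff.2 htx⟩

/-- conjugacy in `C(x)/⟨x⟩` of images of involutions -/
theorem conj_of_isConj {x s t : G} (hx : orderOf x = 3) (hs : orderOf s = 2) (ht : orderOf t = 2)
    (hsx : s * x = x * s) (htx : t * x = x * t)
    (h : IsConj (QuotientGroup.mk' (Zx x) (lf htx)) (QuotientGroup.mk' (Zx x) (lf hsx))) :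
    ∃ g : G, g * t * g⁻¹ = s := by
  obtain ⟨c, hc⟩ := isConj_iff.1 h
  obtain ⟨c, rfl⟩ := QuotientGroup.mk'_surjective (Zx x) c
  rw [← map_inv, ← map_mul, ← map_mul] at hc
  have h1 : (lf hsx)⁻¹ * (c * lf htx * c⁻¹) ∈ Zx x := by
    refine (QuotientGroup.eq_one_iff _).1 ?_
    have h2 : QuotientGroup.mk' (Zx x) ((lf hsx)⁻¹ * (c * lf htx * c⁻¹)) = 1 := by
      rw [map_mul, hc, map_inv, inv_mul_cancel]
    exact h2
  obtain ⟨i, hi⟩ := Subgroup.mem_zpowers_iff.1 h1
  have hi' : (x : G) ^ i = s⁻¹ * ((c : G) * t * (c : G)⁻¹) := by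
    have h2 := congrArg (fun y : ↥(centralizer ({x} : Set G)) => (y : G)) hi
    exact h2
  have hcx : (c : G) * x = x * c := mem_centralizer_singleton_iff.1 c.2
  have hs2 : s * s = 1 := by rw [← pow_two, ← hs, pow_orderOf_eq_one]
  have ht2 : t * t = 1 := by rw [← pow_two, ← ht, pow_orderOf_eq_one]
  have hsi : s⁻¹ = s := inv_eq_of_mul_eq_one_left hs2
  have h3 : (c : G) * t * (c : G)⁻¹ = s * x ^ i := by rw [hi', ← mul_assoc, mul_inv_cancel, one_mul]
  have hsxi : s * x ^ i = x ^ i * s := (Commute.zpow_right (show Commute s x from hsx) i).eq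
  have h4 : (x ^ i) * (x ^ i) = 1 := by
    calc (x ^ i) * (x ^ i) = (s * s) * (x ^ i * x ^ i) := by rw [hs2, one_mul]
      _ = s * (s * x ^ i) * x ^ i := by group
      _ = s * (x ^ i * s) * x ^ i := by rw [hsxi]
      _ = (s * x ^ i) * (s * x ^ i) := by group
      _ = ((c : G) * t * (c : G)⁻¹) * ((c : G) * t * (c : G)⁻¹) := by rw [h3]
      _ = (c : G) * (t * t) * (c : G)⁻¹ := by group
      _ = 1 := by rw [ht2]; group
  have h5 : (x ^ i) ^ 3 = 1 := by
    rw [← zpow_natCast, ← zpow_mul, mul_comm, zpow_mul, zpow_natCast, ← hx, pow_orderOf_eq_one, one_zpow]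
  have h6 : x ^ i = 1 := by
    calc x ^ i = (x ^ i) * ((x ^ i) * (x ^ i)) := by rw [h4, mul_one]
      _ = (x ^ i) ^ 3 := by rw [pow_succ, pow_two, mul_assoc]
      _ = 1 := h5
  exact ⟨c, by rw [h3, h6, mul_one]⟩

/-- the image of an involution of `C(x)` -/
theorem orderOf_mk_lf [Finite G] {x t : G} (hx : orderOf x = 3) (ht : orderOf t = 2) (htx : t * x = x * t) :
    orderOf (QuotientGroup.mk' (Zx x) (lf htx)) = 2 := by
  have hc : (Nat.card ↥(Zx x)).Coprime 2 := by
    rw [LThreeB.card_Zx hx]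
    norm_num
  refine Red.orderOf_mk Nat.prime_two (Zx x) hc ?_
  rw [← ht, ← Subgroup.orderOf_coe]

/-- `Good 3 (C(x) ∩ C(t))` from the centralizer of the image of `t` in `C(x)/⟨x⟩`. -/
theorem good_of_quot [Finite G] {x t : G} (hx : orderOf x = 3) (ht : orderOf t = 2) (htx : t * x = x * t)
    (h : BpTab.Good 3 ↥(centralizer ({QuotientGroup.mk' (Zx x) (lf htx)} : Set (XX x)))) :
    BpTab.Good 3 ↥(XT x t) := by
  have : Fact (Nat.Prime 3) := ⟨Nat.prime_three⟩
  have hc : (Nat.card ↥(Zx x)).Coprime 2 := by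
    rw [LThreeB.card_Zx hx]
    norm_num
  have ho : orderOf (lf htx) = 2 := by rw [← ht, ← Subgroup.orderOf_coe]
  have h1 := Red.centralizer_mk Nat.prime_two (Zx x) hc ho
  let C := centralizer ({lf htx} : Set ↥(centralizer ({x} : Set G)))
  let f : ↥C →* ↥(C.map (QuotientGroup.mk' (Zx x))) := (QuotientGroup.mk' (Zx x)).subgroupMap C
  have hf : Function.Surjective f := (QuotientGroup.mk' (Zx x)).subgroupMap_surjective C
  have h2 : BpTab.Good 3 ↥(C.map (QuotientGroup.mk' (Zx x))) := h.congr (MulEquiv.subgroupCongr h1)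
  have h3 : BpTab.Good 3 ↥C := by
    refine h2.of_surjective hf ?_
    refine le_trans ?_ (center_le_centralizer _)
    intro y hy
    have hy1 : ((y : ↥C) : ↥(centralizer ({x} : Set G))) ∈ Zx x :=
      (QuotientGroup.eq_one_iff _).1 (congrArg Subtype.val (MonoidHom.mem_ker.1 hy))
    obtain ⟨i, hi⟩ := Subgroup.mem_zpowers_iff.1 hy1
    rw [mem_center_iff]
    intro g
    apply Subtype.ext
    apply Subtype.ext
    have hi' : x ^ i = (((y : ↥C) : ↥(centralizer ({x} : Set G))) : G) := by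
      have h4 := congrArg (fun y : ↥(centralizer ({x} : Set G)) => (y : G)) hi
      exact h4
    show (((g : ↥C) : ↥(centralizer ({x} : Set G))) : G) * (((y : ↥C) : ↥(centralizer ({x} : Set G))) : G) =
      (((y : ↥C) : ↥(centralizer ({x} : Set G))) : G) * (((g : ↥C) : ↥(centralizer ({x} : Set G))) : G)
    rw [← hi']
    exact (Commute.zpow_right (show Commute ((((g : ↥C) : ↥(centralizer ({x} : Set G))) : G)) x from
      mem_centralizer_singleton_iff.1 (g : ↥(centralizer ({x} : Set G))).2) i).eq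
  exact h3.congr (infEquiv htx)

/-! ### The two cases -/

variable {Q : Subgroup G} {z : G} {eta : G → L2} {pi : Subgroup.centralizer ({z} : Set G) →* Co1}

/-- **Fixed rank 8.** -/
theorem exists_of_th [Finite G] (hz : orderOf z = 2) {x : Subgroup.centralizer ({z} : Set G)} (hx : orderOf x = 3)
    (h : Spor.IsoTh (XX (x : G))) {t : G} (ht : orderOf t = 2) (htx : t * (x : G) = x * t) :
    ∃ g : G, g * t * g⁻¹ = z := by
  have hxG : orderOf (x : G) = 3 := by rw [Subgroup.orderOf_coe, hx]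
  have hzx : z * (x : G) = x * z := (mem_centralizer_singleton_iff.1 x.2).symm
  obtain ⟨e⟩ := h
  refine conj_of_isConj hxG hz ht hzx htx ?_
  have h1 : IsConj (e (QuotientGroup.mk' (Zx (x : G)) (lf htx))) (e (QuotientGroup.mk' (Zx (x : G)) (lf hzx))) :=
    MonsterX.ThOneClass.oneClass _ _ (by rw [MulEquiv.orderOf_eq, orderOf_mk_lf hxG ht htx])
      (by rw [MulEquiv.orderOf_eq, orderOf_mk_lf hxG hz hzx])
  obtain ⟨c, hc⟩ := isConj_iff.1 h1
  exact isConj_iff.2 ⟨e.symm c, e.injective (by rw [map_mul, map_mul, map_inv, e.apply_symm_apply, hc])⟩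

/-- **Fixed rank 12.** -/
theorem good_fi [Finite G] [IsSimpleGroup G] (h : Chart Q z eta pi) (I : CoOne)
    {x : Subgroup.centralizer ({z} : Set G)} (hx : orderOf x = 3) (hfr : fr (pi x) = 2 ^ 12)
    {t : G} (ht : orderOf t = 2) (htx : t * (x : G) = x * t) (hn : ∀ g : G, g * t * g⁻¹ ≠ z) :
    BpTab.Good 3 ↥(XT (x : G) t) := by
  have : Fact (Nat.Prime 3) := ⟨Nat.prime_three⟩
  obtain ⟨s, hs, hfs, hT, h4⟩ := I.psu
  obtain ⟨x', hx', hs', c, hc⟩ := exists_conj_to h hx hs (by rw [hfr]; exact I.twelve) (by rw [hfs, hfr])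
  subst hs'
  obtain ⟨h1, -, h3⟩ := ser_tt.{u, u} h hx' hfs hT
  have hi := iso_fi24 h hx' hfs (by rw [hfs]; exact I.twelve) hT h4
  have hz : orderOf z = 2 := LargeExtra.Base.orderOf_z h.large
  have hxG : orderOf (x' : G) = 3 := by rw [Subgroup.orderOf_coe, hx']
  have hzx : z * (x' : G) = x' * z := (mem_centralizer_singleton_iff.1 x'.2).symm
  have key : ∀ t' : G, orderOf t' = 2 → (∀ g : G, g * t' * g⁻¹ ≠ z) → (htx' : t' * (x' : G) = x' * t') →
      BpTab.Good 3 ↥(XT (x' : G) t') := by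
    intro t' ht' hn' htx'
    refine good_of_quot hxG ht' htx' (good_fi24 hi h1 h3 (orderOf_mk_lf hxG ht' htx') ?_)
    intro hcon
    obtain ⟨g, hg⟩ := conj_of_isConj hxG hz ht' hzx htx' hcon
    exact hn' g hg
  have e1 : c * (c⁻¹ * t * c) * c⁻¹ = t := by group
  have htx' : (c⁻¹ * t * c) * (x' : G) = x' * (c⁻¹ * t * c) := by
    have h5 := conj_comm' (g := c⁻¹) htx
    rw [inv_inv] at h5
    have e2 : c⁻¹ * (x : G) * c = x' := by rw [← hc]; group
    rwa [e2] at h5
  have ht' : orderOf (c⁻¹ * t * c) = 2 := by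
    rw [← ht]
    conv_rhs => rw [← e1]
    exact (orderOf_injective (MulAut.conj c).toMonoidHom (MulAut.conj c).injective (c⁻¹ * t * c)).symm
  have h5 := key (c⁻¹ * t * c) ht' (fun g hg => hn (g * c⁻¹) (by rw [← hg]; group)) htx'
  have e3 := conjXT c (x' : G) (c⁻¹ * t * c)
  rw [hc, e1] at e3
  exact h5.congr e3

/-- **`C(x) ∩ C(t)`**, `x` of order 3 in `C(z)` of fixed rank 8 or 12, `t` not conjugate to `z`. -/
theorem good_inf [Finite G] [IsSimpleGroup G] (h : Chart Q z eta pi) (I : CoOne)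
    {x : Subgroup.centralizer ({z} : Set G)} (hx : orderOf x = 3) (hfr : fr (pi x) = 2 ^ 8 ∨ fr (pi x) = 2 ^ 12)
    {t : G} (ht : orderOf t = 2) (htx : t * (x : G) = x * t) (hn : ∀ g : G, g * t * g⁻¹ ≠ z) :
    BpTab.Good 3 ↥(XT (x : G) t) := by
  rcases hfr with hfr | hfr
  · obtain ⟨g, hg⟩ := exists_of_th (LargeExtra.Base.orderOf_z h.large) hx (LThreeB.isoTh_of_inputs h I hx hfr) ht htx
    exact absurd hg (hn g)
  · exact good_fi h I hx hfr ht htx hn

end Cfsg.Agent.BpSpor.BThree.Cases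

end

-- merged: Cfsg.Agent.BpSpor.BThreeRow
section

/-!
# S1332: the row `B`, `p = 3` (helper46)
-/

set_option autoImplicit false
set_option maxRecDepth 100000

namespace Cfsg.Agent.BpSpor.BThree

open Cfsg Cfsg.Agent.MonsterU Cfsg.Agent.LThree Cfsg.Agent.LThreeMB Cfsg.Agent.LThreeB
open Cfsg.Agent.MonsterU.Ch
open Cfsg.Agent.MonsterU.Lam2 (L2)
open Cfsg.Spor (Co1)
open Cfsg.Agent.MonsterX.KSide Cfsg.Agent.MonsterX.KLift
open Subgroup (centralizer zpowers mem_centralizer_singleton_iff mem_centralizer_iff)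

universe u

section

variable {G : Type u} {V P W : Type*} [Group G] [AddCommGroup V] [Module ℚ V]
  [DistribMulAction G V] [SMulCommClass G ℚ V] [Group P] [AddCommGroup W] [Module ℚ W]
  {M : KS G V P W} {θ : leechLattice → P}

/-- **`C(x) ∩ C(t)`**, `x` in `C(z)`. -/
theorem good_of_mem (FT : ∀ (K : Type u) [Group K] [Finite K], Odd (Nat.card K) → Group.IsSolvable K) [Finite G]
    [IsSimpleGroup G] (L : Lift M θ) (hc : KChart.Cent M) (I : CoOne) (ht : TrNe M.z (KChart.pi hc))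
    (hp : HasPair M.z (KChart.pi hc)) {x : centralizer ({M.z} : Set G)}
    (hx : orderOf x = 3) {t : G} (hto : orderOf t = 2) (htx : t * (x : G) = x * t) (hn : ∀ g, g * t * g⁻¹ ≠ M.z) :
    BpTab.Good 3 ↥(XT (x : G) t) := by
  have h := KChart.chart L hc
  rcases I.ranks _ (orderOf_pi h hx) with hfr | hfr | hfr
  · exact good_zero FT L hc I ht hp hx hfr hto htx hn
  · obtain ⟨x₀, u, g, hx₀, hfr₀, huz, hux, hne, hg⟩ := id hp
    obtain ⟨k, hk⟩ := conj_six h ht I.ranks I.six (fun x hx h2 => ⟨(good_of_inputs.{u} h I hx h2).simple,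
      (good_of_inputs.{u} h I hx h2).nc⟩) hx₀ hfr₀ huz hux hne hg hx hfr
    have h2 : (k * t * k⁻¹) * (x₀ : G) = x₀ * (k * t * k⁻¹) := by
      rw [← hk]
      exact conj_comm' htx
    have h3 : orderOf (k * t * k⁻¹) = 2 := by
      rw [← hto]
      exact orderOf_injective (MulAut.conj k).toMonoidHom (MulAut.conj k).injective t
    refine good_conj (g := k⁻¹) (x := (x₀ : G)) (t := k * t * k⁻¹) ?_ ?_
      (good_zero FT L hc I ht hp hx₀ hfr₀ h3 h2 ?_)
    · rw [← hk]; group
    · group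
    · intro g hg
      apply hn (g * k)
      rw [← hg]
      group
  · exact Cases.good_inf h I hx hfr hto htx hn

/-- **`C(x) ∩ C(t)`**, for `x` commuting with a conjugate of `z`. -/
theorem good_in (FT : ∀ (K : Type u) [Group K] [Finite K], Odd (Nat.card K) → Group.IsSolvable K) [Finite G]
    [IsSimpleGroup G] (L : Lift M θ) (hc : KChart.Cent M) (I : CoOne) (ht : TrNe M.z (KChart.pi hc))
    (hp : HasPair M.z (KChart.pi hc)) {x t : G} (hx : orderOf x = 3)
    (hto : orderOf t = 2) (hxt : x * t = t * x) (hn : ∀ g, g * t * g⁻¹ ≠ M.z)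
    (hex : ∃ g : G, (g * M.z * g⁻¹) * x = x * (g * M.z * g⁻¹)) : BpTab.Good 3 ↥(XT x t) := by
  obtain ⟨g, hg⟩ := hex
  have h1 : (g⁻¹ * x * g) * M.z = M.z * (g⁻¹ * x * g) := by
    calc (g⁻¹ * x * g) * M.z = g⁻¹ * (x * (g * M.z * g⁻¹)) * g := by group
      _ = g⁻¹ * ((g * M.z * g⁻¹) * x) * g := by rw [hg]
      _ = M.z * (g⁻¹ * x * g) := by group
  let x' : centralizer ({M.z} : Set G) := ⟨g⁻¹ * x * g, mem_centralizer_singleton_iff.2 h1⟩
  have h3 : g * (x' : G) * g⁻¹ = x := by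
    show g * (g⁻¹ * x * g) * g⁻¹ = x
    group
  have hx' : orderOf x' = 3 := by
    rw [← Subgroup.orderOf_coe, ← hx, ← h3]
    exact (orderOf_injective (MulAut.conj g).toMonoidHom (MulAut.conj g).injective (x' : G)).symm
  have h4 : (g⁻¹ * t * g) * (x' : G) = x' * (g⁻¹ * t * g) := by
    have h5 := conj_comm' (g := g⁻¹) hxt.symm
    rw [inv_inv] at h5
    exact h5
  have h5 : orderOf (g⁻¹ * t * g) = 2 := by
    rw [← hto]
    have h6 := MulEquiv.orderOf_eq (MulAut.conj g⁻¹) t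
    rw [MulAut.conj_apply, inv_inv] at h6
    exact h6
  refine good_conj h3 (by group) (good_of_mem FT L hc I ht hp hx' h5 h4 ?_)
  intro d hd
  refine hn (d * g⁻¹) ?_
  rw [← hd]
  group

end

open Cfsg.Agent.MonsterX Cfsg.Agent.MonsterX.InstData Cfsg.Agent.MonsterX.MainPack
open Cfsg.Agent.MonsterP Cfsg.Agent.MonsterN
open Cfsg.Agent.MonsterX.MainBasic Cfsg.Agent.MonsterX.MainSimple Cfsg.Agent.MonsterX.Model
open Cfsg.Agent.CpAutBFive

/-- **Row `B`, `p = 3`.** -/
theorem bps_three_of (I : CoOne) : BpTab.BpS 3 Spor.BabyMonster := by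
  have hfin : Finite ↥InstData.M.G := MFive.Row.finite_model
  have hs : IsSimpleGroup ↥InstData.M.G := MFive.Row.simple_model
  refine BCover.bps_of Nat.prime_three (by norm_num) fun x v hx hv hxv => ?_
  obtain ⟨g, hg, -⟩ := LThreeM.FiRow.exists_z_in (by rw [← hx, pow_orderOf_eq_one]) hv hxv
  exact good_in MFive.Row.FT KDone.lft MFive.Row.hc I
    (KPair.trNe KDone.lft MFive.Row.hc (LThreeMBTr.traceNe KDone.lft LThreeMBTr.TensK.tens))
    (KPair.hasPair KDone.lft MFive.Row.hc LThreeB.Row.second COct.octPair) hx (RowB.orderOf_t hv) hxv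
    (RowB.not_conj hv) ⟨g, hg⟩

end Cfsg.Agent.BpSpor.BThree

end

-- merged: Cfsg.Agent.BpSpor.SuzFive
section

/-!
# S1332, the row `Suz`, `p = 5` (helper70)

`x` of order 5: `|C(t) ∩ C(x)|` divides `32 · 5` for all involutions `t` commuting with `x`.
-/

set_option autoImplicit false
set_option maxRecDepth 100000

namespace Cfsg.Agent.BpSpor.SuzFive

open Subgroup Cfsg Cfsg.Spor Cfsg.Agent.BpTab
open Cfsg.Agent.SuzThree.Basic Cfsg.Agent.SuzThree.CentA Cfsg.Agent.SuzThree.QZero Cfsg.Agent.KFacts.SuzR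
  Cfsg.Agent.KFacts.Codes Cfsg.Agent.KFacts.SuzLFour Cfsg.Agent.KFacts.SuzTwoB

/-! ### the elements of square 1 of `Q0` -/

theorem card_codes : Nat.card {c : Fin 128 // mulc BB 6 c c = 0} = 56 := by
  rw [Nat.card_eq_fintype_card]
  decide +kernel

theorem card_sqs_Q0 : Nat.card ↥(sqs Q0) = 56 := by
  rw [← card_codes]
  symm
  have hsq : ∀ c < 128, (cod 6 z0 xx c * cod 6 z0 xx c = 1 ↔ mulc BB 6 c c = 0) := by
    intro c hc
    have hlt : mulc BB 6 c c < 2 ^ 7 := by
      revert c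
      decide +kernel
    rw [cod_mul rels tri]
    constructor
    · intro h
      rw [← cod_zero (n := 6) (z := z0) (x := xx)] at h
      exact cod_injOn rels tri nondeg z_ne hlt (by norm_num) h
    · intro h
      rw [h, cod_zero]
  refine Nat.card_congr (Equiv.ofBijective (fun c => (⟨cod 6 z0 xx c.1, by
      rw [Q0_eq]; exact cod_mem c.1, (hsq c.1 c.1.2).2 c.2⟩ : ↥(sqs Q0))) ⟨?_, ?_⟩)
  · intro a b hab
    have h1 : cod 6 z0 xx a.1 = cod 6 z0 xx b.1 := congrArg (fun y : ↥(sqs Q0) => (y : Suz)) hab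
    exact Subtype.ext (Fin.ext (cod_injOn rels tri nondeg z_ne a.1.2 b.1.2 h1))
  · rintro ⟨y, hy, hyy⟩
    have hy' := hy
    rw [Q0_eq] at hy'
    obtain ⟨c, hc, rfl⟩ := (mem_RG rels tri).1 hy'
    exact ⟨⟨⟨c, hc⟩, (hsq c hc).1 hyy⟩, rfl⟩

/-! ### the class 2A -/

theorem bd_z0 : Cen.Bd 5 z0 := by
  intro x hx hxz
  have hfin := CTwoTab.Suz.finSuz
  have h2 : Fact (Nat.Prime 2) := ⟨Nat.prime_two⟩
  have h3 : Fact (Nat.Prime 3) := ⟨Nat.prime_three⟩
  have hQ : Nat.card ↥Q0 = 2 ^ 7 := card_R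
  set D := centralizer ({z0} : Set Suz) ⊓ centralizer ({x} : Set Suz) with hD
  have hDz : ∀ d ∈ D, d * z0 = z0 * d := fun d hd => mem_centralizer_singleton_iff.1 hd.1
  have hDx : ∀ d ∈ D, d * x = x * d := fun d hd => mem_centralizer_singleton_iff.1 hd.2
  have h3D : ¬ 3 ∣ Nat.card ↥D := by
    intro h
    obtain ⟨c, hc⟩ := exists_prime_orderOf_dvd_card' 3 h
    exact not_three KFacts.SuzLarge.large hQ card_sqs_Q0 hx hxz (c := (c : Suz))
      (by rw [Subgroup.orderOf_coe]; exact hc) (hDz c c.2) (hDx c c.2)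
  have h64 : ¬ 2 ^ 6 ∣ Nat.card ↥D := by
    intro h
    obtain ⟨T, hT⟩ := Sylow.exists_subgroup_card_pow_prime 2 h
    have h1 := card_two KFacts.SuzLarge.large hQ hx hxz (T := T.map D.subtype)
      (IsPGroup.of_card (n := 6) (by rw [card_map_of_injective (subtype_injective _), hT]))
      (by rintro _ ⟨t, -, rfl⟩; exact hDz t t.2) (by rintro _ ⟨t, -, rfl⟩; exact hDx t t.2)
    rw [card_map_of_injective (subtype_injective _), hT] at h1
    norm_num at h1
  have hd : Nat.card ↥D ∣ 2 ^ 13 * 5 * 3 ^ 4 := by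
    have h1 : Nat.card ↥D ∣ Nat.card ↥(centralizer ({z0} : Set Suz)) := card_dvd_of_le inf_le_left
    have h4 : Nat.card ↥(centralizer ({z0} : Set Suz)) = 3317760 := KFacts.SuzCent.card_C1
    rw [h4] at h1
    norm_num
    exact h1
  have hd2 : Nat.card ↥D ∣ 2 ^ 13 * 5 := by
    refine Nat.Coprime.dvd_of_dvd_mul_right ?_ hd
    exact Nat.Coprime.pow_right 4 ((Nat.Prime.coprime_iff_not_dvd Nat.prime_three).2 h3D).symm
  obtain ⟨a, b, ha, hb, hab⟩ := (Nat.dvd_mul).1 hd2
  obtain ⟨i, hi, rfl⟩ := (Nat.dvd_prime_pow Nat.prime_two).1 ha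
  refine ⟨1, ?_⟩
  rw [← hab, pow_one]
  refine Nat.mul_dvd_mul ?_ hb
  have hi5 : i ≤ 5 := by
    by_contra hlt
    exact h64 (by rw [← hab]; exact (pow_dvd_pow 2 (by omega)).mul_right b)
  exact pow_dvd_pow 2 hi5

/-! ### the class 2B -/

theorem card_L_inf {x : Suz} (hx : orderOf x = 5) (hxL : x ∈ L) :
    Nat.card ↥(L ⊓ centralizer ({x} : Set Suz)) ∣ 5 := by
  have hfin := CTwoTab.Suz.finSuz
  let e := CTwoTab.SuzPlane.equiv
  have hfin2 : Finite CTwoTab.SuzPlane.PSL3 := Finite.of_equiv _ e.toEquiv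
  have h2 := Cen.card_inf_dvd (C := L) (N := (⊥ : Subgroup Suz)) e.toMonoidHom (fun c hc => by
    have h3 : e c = 1 := hc
    have h4 : c = 1 := e.injective (by rw [h3, map_one])
    rw [h4]
    exact one_mem _) ⟨x, hxL⟩
  have h3 : Nat.card ↥((⊥ : Subgroup Suz) ⊓ centralizer ({x} : Set Suz)) = 1 := by
    rw [bot_inf_eq, card_bot]
  rw [h3, one_mul] at h2
  have ho : orderOf (e ⟨x, hxL⟩) = 5 := by
    rw [MulEquiv.orderOf_eq, ← Subgroup.orderOf_coe]
    exact hx
  exact h2.trans (dvd_of_eq (LFour.card_five ho))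

theorem sq_mem {G : Type*} [Group G] {A : Subgroup G} {x : G} (hx : orderOf x = 5) (h : x * x ∈ A) : x ∈ A := by
  have h2 : x = (x * x) ^ 3 := by
    have h3 : x ^ 5 = 1 := by rw [← hx, pow_orderOf_eq_one]
    calc x = x ^ 5 * x := by rw [h3, one_mul]
      _ = (x * x) ^ 3 := by rw [← pow_two, ← pow_mul, ← pow_succ]
  rw [h2]
  exact A.pow_mem h _

theorem bd_e0 : Cen.Bd 5 e0 := by
  intro x hx hxe
  have hfin := CTwoTab.Suz.finSuz
  have hCE : ∀ c d : Suz, c ∈ CE → d ∈ CE → c ∈ VL ∨ d ∈ VL ∨ c * d ∈ VL := by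
    intro c d hc hd
    by_cases h1 : c ∈ VL
    · exact Or.inl h1
    by_cases h2 : d ∈ VL
    · exact Or.inr (Or.inl h2)
    right; right
    have h3 := (mul_mem_iff_of_index_two idx.1 (a := (⟨c, hc⟩ : ↥CE)) (b := ⟨d, hd⟩)).2
      ⟨fun h => absurd (mem_subgroupOf.1 h) h1, fun h => absurd (mem_subgroupOf.1 h) h2⟩
    exact mem_subgroupOf.1 h3
  have hxC : x ∈ CE := mem_CE.2 hxe
  have hxVL : x ∈ VL := by
    refine sq_mem hx ?_
    rcases hCE x x hxC hxC with h | h | h
    · exact VL.mul_mem h h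
    · exact VL.mul_mem h h
    · exact h
  have hxL : x ∈ L := by
    refine sq_mem hx ?_
    obtain ⟨v, hv, l, hl, rfl⟩ := mem_VL.1 hxVL
    have h1 : v * l = l * v := V_comm v hv l hl
    have h2 : v * v = 1 := by
      have := CTwoTab.Suz.sq_V hv
      rwa [pow_one, pow_two] at this
    have h3 : v * l * (v * l) = l * l := by
      calc v * l * (v * l) = v * l * (l * v) := by rw [h1]
        _ = v * (l * l) * v := by group
        _ = v * (v * (l * l)) := by rw [mul_assoc, V_comm v hv _ (L.mul_mem hl hl)]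
        _ = l * l := by rw [← mul_assoc, h2, one_mul]
    rw [h3]
    exact L.mul_mem hl hl
  set D := centralizer ({e0} : Set Suz) ⊓ centralizer ({x} : Set Suz) with hD
  have h1 := Cen.card_of_two D VL fun c hc d hd => hCE c d hc.1 hd.1
  have h2 : Nat.card ↥(D ⊓ VL) ∣ 4 * 5 := by
    have hVx : ∀ v ∈ V, v * x = x * v := fun v hv => V_comm v hv x hxL
    have hle : ∀ (v : ↥V) (l : ↥(L ⊓ centralizer ({x} : Set Suz))), (v : Suz) * l ∈ D ⊓ VL := by
      intro v l
      have h3 : (v : Suz) * l ∈ VL := ⟨v, v.2, l, l.2.1, rfl⟩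
      refine ⟨⟨VL_le h3, mem_centralizer_singleton_iff.2 ?_⟩, h3⟩
      rw [mul_assoc, mem_centralizer_singleton_iff.1 l.2.2, ← mul_assoc, hVx v v.2, mul_assoc]
    let f : ↥V × ↥(L ⊓ centralizer ({x} : Set Suz)) →* ↥(D ⊓ VL) :=
      { toFun := fun a => ⟨(a.1 : Suz) * a.2, hle a.1 a.2⟩
        map_one' := Subtype.ext (by simp)
        map_mul' := fun a b => Subtype.ext (by
          change ((a.1 * b.1 : ↥V) : Suz) * ((a.2 * b.2 : ↥(L ⊓ centralizer ({x} : Set Suz))) : Suz) =
            (a.1 : Suz) * a.2 * ((b.1 : Suz) * b.2)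
          rw [Subgroup.coe_mul, Subgroup.coe_mul]
          have h4 : (b.1 : Suz) * a.2 = a.2 * b.1 := V_comm b.1 b.1.2 a.2 a.2.2.1
          calc (a.1 : Suz) * b.1 * (a.2 * b.2) = a.1 * (b.1 * a.2) * b.2 := by group
            _ = a.1 * a.2 * (b.1 * b.2) := by rw [h4]; group) }
    have hf : Function.Surjective f := by
      rintro ⟨d, hd1, hd2⟩
      obtain ⟨v, hv, l, hl, rfl⟩ := mem_VL.1 hd2
      have h4 := mem_centralizer_singleton_iff.1 hd1.2
      have h5 : l * x = x * l := by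
        have h6 : v * (l * x) = v * (x * l) := by
          calc v * (l * x) = v * l * x := by group
            _ = x * (v * l) := h4
            _ = (x * v) * l := by group
            _ = v * (x * l) := by rw [← hVx v hv]; group
        exact mul_left_cancel h6
      exact ⟨(⟨v, hv⟩, ⟨l, hl, mem_centralizer_singleton_iff.2 h5⟩), rfl⟩
    have h3 := card_dvd_of_surjective f hf
    rw [Nat.card_prod, card_V] at h3
    exact h3.trans (Nat.mul_dvd_mul_left 4 (card_L_inf hx hxL))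
  exact ⟨1, (h1.trans (Nat.mul_dvd_mul_left 2 h2)).trans (by norm_num)⟩

/-! ### the row -/

theorem bd {t : Suz} (ht : orderOf t = 2) : Cen.Bd 5 t := by
  have htt : t * t = 1 := by rw [← pow_two, ← ht, pow_orderOf_eq_one]
  have ht1 : t ≠ 1 := by
    rintro rfl
    rw [orderOf_one] at ht
    omega
  rcases CTwoTab.Suz.classes htt ht1 with h | h
  · exact bd_z0.conj h
  · exact bd_e0.conj h

/-- **S1332, the row `Suz`, `p = 5`** -/
theorem bps_five : BpS 5 Cfsg.Spor.Suz := by
  have D := Row.dat_suz (K := Cfsg.Spor.Suz) ⟨MulEquiv.refl _⟩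
  have hp : Fact (Nat.Prime 5) := ⟨by norm_num⟩
  have hf : Finite Cfsg.Spor.Suz := Nat.finite_of_card_ne_zero (by rw [D.card]; norm_num)
  refine bpS_of_inner (center_eq_bot_of_card D.simple (by rw [D.card]; norm_num))
    (D.inn 5 hp.out (by norm_num)) fun x hx => ?_
  refine Inv.good_of_inv (fun K _ _ h => S0205.result h)
    (Cen.not_dvd_of_bd hp.out (by norm_num) hx fun t ht => bd ht) fun t ht q hq hqd => ?_
  have ht' : orderOf (t : Cfsg.Spor.Suz) = 2 := by rw [Subgroup.orderOf_coe]; exact ht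
  obtain ⟨n, hn⟩ := bd ht' x hx (mem_centralizer_singleton_iff.1 t.2).symm
  rw [Cen.card_cent_sub] at hqd
  rcases hq.dvd_mul.1 (hqd.trans hn) with h | h
  · left
    rw [show 32 = 2 ^ 5 by norm_num] at h
    exact (Nat.prime_dvd_prime_iff_eq hq Nat.prime_two).1 (hq.dvd_of_dvd_pow h)
  · right
    exact (Nat.prime_dvd_prime_iff_eq hq hp.out).1 (hq.dvd_of_dvd_pow h)

end Cfsg.Agent.BpSpor.SuzFive

end

-- merged: Cfsg.Agent.BpSpor.ThRow
section

/-!
# S1332: the rows `BpS p Th`, `p = 3, 5, 7` (helper25)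
-/

set_option autoImplicit false
set_option maxRecDepth 100000

namespace Cfsg.Agent.BpSpor.Th

open Subgroup Cfsg
open Cfsg.Agent.BpTab Cfsg.Agent.CpAut
open Cfsg.Agent.Th.Base Cfsg.Agent.Th.Word Cfsg.Agent.Th.KOracle
  Cfsg.Agent.Th.COracleDef Cfsg.Agent.Th.IndexUpper
open Cfsg.Agent.CpAutTh.Data Cfsg.Agent.CpAutTh.Local Cfsg.Agent.CpAutTh.Mid
open Cfsg.Agent.KFacts.Th.Struct

theorem hone : ∀ u : Spor.Th, orderOf u = 2 → ∃ g : Spor.Th, g * u * g⁻¹ = gTh 1 := by
  intro u hu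
  exact isConj_iff.1 (MonsterX.ThOneClass.oneClass u (gTh 1) hu MonsterX.ThOneClass.orderOf_a)

theorem center_bot : center Spor.Th = ⊥ := by
  have hs : IsSimpleGroup Spor.Th := Th.Main1700.isTh.1
  apply CpAut.center_eq_bot_of_simple
  intro h
  have h1 : Nat.card Spor.Th = 90745943887872000 := KFacts.Th.Main.ctx.card
  have h2 : centralizer ({gTh 1} : Set Spor.Th) = ⊤ := by
    rw [eq_top_iff]
    intro g _
    exact mem_centralizer_singleton_iff.2 (h.is_comm.comm _ _)
  have h3 : Nat.card ↥(centralizer ({gTh 1} : Set Spor.Th)) = 92897280 := by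
    rw [KFacts.Th.Main.ctx.cent, KFacts.Th.Main.ctx.cardC]
  rw [h2, card_top, h1] at h3
  norm_num at h3

theorem autInner (p : ℕ) : AutInner p Spor.Th := fun x _ => KFacts.Th.Main.inner x

/-- elements commuting with an involution, or odd order -/
theorem good_of_pair {p : ℕ} [hp : Fact p.Prime] {x : Spor.Th}
    (h : ∀ s : Spor.Th, orderOf s = 2 → s * x = x * s → Good p ↥(centralizer ({x} : Set Spor.Th))) :
    Good p ↥(centralizer ({x} : Set Spor.Th)) := by
  have := KFacts.Th.Main.finite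
  have h2F : Fact (Nat.Prime 2) := ⟨Nat.prime_two⟩
  by_cases hev : 2 ∣ Nat.card ↥(centralizer ({x} : Set Spor.Th))
  swap
  · exact good_of_solvable (S0205.result (by rwa [← Nat.not_even_iff_odd, even_iff_two_dvd]))
  obtain ⟨u, hu⟩ := exists_prime_orderOf_dvd_card' 2 hev
  exact h u (by rw [Subgroup.orderOf_coe]; exact hu) (mem_centralizer_singleton_iff.1 u.2)

/-- **The row Th, `p = 5`.** -/
theorem bps_five : BpS 5 Spor.Th := by
  have := KFacts.Th.Main.finite
  have hp : Fact (Nat.Prime 5) := ⟨Nat.prime_five⟩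
  obtain ⟨f, F⟩ := CpAutTh.Local.exists_epi KFacts.Th.Main.ctx
  refine bpS_of_inner center_bot (autInner 5) fun x hx => good_of_pair fun s hs hsx => ?_
  obtain ⟨g, -, h2⟩ := exists_pair KFacts.Th.Main.ctx hone hx hs hsx (P := fun z => z = ev gTh X5) (fun y hy => by
    obtain ⟨c, hc⟩ := exists_rep_five KFacts.Th.Main.ctx F hy
    exact ⟨c, congrArg Subtype.val hc⟩)
  refine good_of_conj (u := ev gTh X5) (v := x) (c := g⁻¹) (by rw [← h2]; group)
    (ThCent.good_X5 KFacts.Th.Main.ctx F fun _ _ _ h => S0205.result h)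

/-- **The row Th, `p = 7`.** -/
theorem bps_seven : BpS 7 Spor.Th := by
  have := KFacts.Th.Main.finite
  have hp : Fact (Nat.Prime 7) := ⟨by norm_num⟩
  obtain ⟨f, F⟩ := CpAutTh.Local.exists_epi KFacts.Th.Main.ctx
  refine bpS_of_inner center_bot (autInner 7) fun x hx => good_of_pair fun s hs hsx => ?_
  obtain ⟨g, -, h2⟩ := exists_pair KFacts.Th.Main.ctx hone hx hs hsx (P := fun z => z = ev gTh X7) (fun y hy => by
    obtain ⟨c, hc⟩ := exists_rep_seven KFacts.Th.Main.ctx F hy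
    exact ⟨c, congrArg Subtype.val hc⟩)
  refine good_of_conj (u := ev gTh X7) (v := x) (c := g⁻¹) (by rw [← h2]; group)
    (ThThree.good_X7 KFacts.Th.Main.ctx F hone)

/-- **The row Th, `p = 3`.** -/
theorem bps_three : BpS 3 Spor.Th := by
  have := KFacts.Th.Main.finite
  have hp : Fact (Nat.Prime 3) := ⟨Nat.prime_three⟩
  obtain ⟨f, F⟩ := CpAutTh.Local.exists_epi KFacts.Th.Main.ctx
  refine bpS_of_inner center_bot (autInner 3) fun x hx => good_of_pair fun s hs hsx => ?_
  obtain ⟨g, -, h2⟩ := exists_pair KFacts.Th.Main.ctx hone hx hs hsx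
    (P := fun z => z = ev gTh X3 ∨ z = ev gTh X33 ∨ z = ev gTh X333) (fun y hy => by
      obtain ⟨c, hc⟩ := exists_rep_three KFacts.Th.Main.ctx F hy
      refine ⟨c, ?_⟩
      rcases hc with hc | hc | hc
      · exact Or.inl (congrArg Subtype.val hc)
      · exact Or.inr (Or.inl (congrArg Subtype.val hc))
      · exact Or.inr (Or.inr (congrArg Subtype.val hc)))
  rcases h2 with h2 | h2 | h2
  · exact good_of_conj (u := ev gTh X3) (v := x) (c := g⁻¹) (by rw [← h2]; group)
      (ThThree.good_X3 KFacts.Th.Main.ctx F)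
  · exact good_of_conj (u := ev gTh X33) (v := x) (c := g⁻¹) (by rw [← h2]; group)
      (ThThree.good_X33 KFacts.Th.Main.ctx F hone)
  · exact good_of_conj (u := ev gTh X333) (v := x) (c := g⁻¹) (by rw [← h2]; group)
      (ThCent.good_X333 KFacts.Th.Main.ctx F fun _ _ _ h => S0205.result h)

end Cfsg.Agent.BpSpor.Th

end

-- merged: Cfsg.Agent.CpAutLy.Bp
section

/-!
# S1332: the row `BpS 3 Ly` (helper67)
-/

set_option autoImplicit false

namespace Cfsg.Agent.CpAutLy.Bp

open Subgroup Cfsg Cfsg.Agent.CpAut Cfsg.Agent.BpTab Cfsg.Agent.BpSpor Cfsg.Agent.CpAutLy.Base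
  Cfsg.Agent.CpAutLy.McLThree

theorem good_three (FT : ∀ (K : Type) [Group K] [Finite K], Odd (Nat.card K) → Group.IsSolvable K)
    (hS : AllKnown.{0}) (T : OrdDiv.OrderTable.{0}) {x : Cfsg.Spor.Ly} (hx : orderOf x = 3) :
    Good 3 ↥(centralizer ({x} : Set Cfsg.Spor.Ly)) := by
  have : Fact (Nat.Prime 3) := ⟨Nat.prime_three⟩
  have hfin : Finite Cfsg.Spor.Ly := Cfsg.Agent.Ly.Setup.finite_ly
  rcases Row.dichotomy FT hS T hx with ⟨x₀, g, h₀, hg⟩ | h
  · obtain ⟨-, hs, -, -⟩ := TypeM.FactsMcL.facts h₀.quot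
    have h1 : Good 3 (↥(centralizer ({x₀} : Set Cfsg.Spor.Ly)) ⧸ center ↥(centralizer ({x₀} : Set Cfsg.Spor.Ly))) :=
      good_of_simple hs
    exact (Good.of_central h1 le_rfl).congr (centEquiv hg).symm
  · exact NoComp.good h

theorem bpS_three (FT : ∀ (K : Type) [Group K] [Finite K], Odd (Nat.card K) → Group.IsSolvable K)
    (hS : AllKnown.{0}) (T : OrdDiv.OrderTable.{0}) : BpS 3 Cfsg.Spor.Ly := by
  have hs : IsSimpleGroup Cfsg.Spor.Ly := Cfsg.Agent.Ly.Setup.isSimple_ly
  refine bpS_of_inner (center_eq_bot_of_simple ?_) (LyFiveRow.autInner 3) (fun x hx => good_three FT hS T hx)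
  intro hc
  obtain ⟨L⟩ := TypeM.FactsLy.exists_mt_ly
  obtain ⟨a, b, hab⟩ := TypeM.OutLyFin.not_comm (by norm_num) L
  exact hab (hc.is_comm.comm a b)

end Cfsg.Agent.CpAutLy.Bp

end

-- merged: Cfsg.Agent.BpSpor.AllPairs
section

/-!
# S1332: the 54 sporadic (and Tits) pairs (helper5)
-/

set_option autoImplicit false

namespace Cfsg.Agent.BpSpor.AllPairs

open Cfsg Cfsg.Agent.BpTab

theorem isoTits_self : Lie.IsoTits Lie.TitsGroup := by
  refine Nonempty.intro ?_
  exact MulEquiv.refl Lie.TitsGroup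

theorem fin_tits : Finite Lie.TitsGroup :=
  Nat.finite_of_card_ne_zero (by rw [(Row.dat_tits isoTits_self).card]; norm_num)

theorem tits {p : ℕ} (h : ∀ [Finite Lie.TitsGroup] [IsSimpleGroup Lie.TitsGroup], BpS p Lie.TitsGroup) :
    BpS p Lie.TitsGroup := by
  have := fin_tits
  have : IsSimpleGroup Lie.TitsGroup := (Row.dat_tits isoTits_self).simple
  exact h

theorem hJ : CpAutBFive.Closed.HJ := fun _ hs h => MFive.JTwo.isoJ2 hs h

theorem hHe : BpRankZero.MRow.HeSix := fun x hx hfr =>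
  BpRankZero.MSix.isoHe_of hx hfr (CpAutMSeven.SixRow.heHyp x hx hfr)

theorem ft : ∀ (K : Type) [Group K] [Finite K], Odd (Nat.card K) → Group.IsSolvable K :=
  fun _ _ _ h => S0205.result h

/-- all pairs -/
theorem pairs (hS : ∀ (G : Type) [Group G] [Finite G] [IsSimpleGroup G], IsKnownSimple' G)
    (hF : BpS 3 Spor.Fi24') : Main.Pairs where
  m11_3 := Mathieu.bps_m11
  m12_3 := Mathieu.bps_m12
  m22_3 := Mathieu.bps_m22
  m23_3 := Mathieu.bps_m23
  m24_3 := MathieuB.bps_m24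
  j2_3 := J2.bps_three
  j2_5 := SmallFive.j2_five
  j3_3 := fun F _ _ ω hF hω => JThree.bps ⟨F, _, _, ω, hF, hω, ⟨MulEquiv.refl _⟩⟩
  j4_3 := J4.bps_three
  j4_11 := JFour.bps_eleven
  co1_3 := Co1.bps_three
  co1_5 := Co1.bps_five
  co1_7 := Co1.bps_seven
  co2_3 := Co2.bps_three
  co2_5 := Co2.bps_five
  co3_3 := Co3.bps_three
  co3_5 := Co3.bps_five OrdDiv.table (fun _ _ _ _ => hS _)
  mcl_3 := McL.bps_three ft hS OrdDiv.table
  mcl_5 := McL.bps_five
  hs_3 := HSInv.bps_three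
  hs_5 := HSInv.bps_five
  suz_3 := SuzThree.bps_three
  suz_5 := SuzFive.bps_five
  he_3 := HeThree.bps_three
  he_5 := SmallFive.he_five
  he_7 := SmallFive.he_seven
  ru_3 := RuThree.bps_three
  ru_5 := Ru.bps_five
  on_3 := ONanThree.bps_three
  on_7 := ONan.bps_seven
  ly_3 := CpAutLy.Bp.bpS_three ft hS OrdDiv.table
  ly_5 := Ly.bps_five
  fi22_3 := FiTT.bps_three OrdDiv.table hS
  fi22_5 := FiTT.bps_five
  fi23_3 := Fi23.bps_three
  fi23_5 := Fi23.bps_five
  fi24_3 := hF
  fi24_5 := FiTF.bps_five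
  fi24_7 := Fi24.bps_seven ft
  hn_3 := HN.bps_three
  hn_5 := HN.bps_five
  th_3 := Th.bps_three
  th_5 := Th.bps_five
  th_7 := Th.bps_seven
  b_3 := BThree.bps_three_of LThreeMB.CoOneFin.coOne
  b_5 := M5.bps_five_b hJ
  b_7 := BpMon.BSeven.bps_of_he hHe
  m_3 := MThree.bps_three_of LThreeMB.CoOneFin.coOne
  m_5 := M5.bps_five_m hJ
  m_7 := BpRankZero.MRow.bps_seven_of hHe
  m_11 := M.bps_eleven
  m_13 := BpMon.Thirteen.bps_thirteen hS
  tits_3 := tits (Tits.bps_three OrdDiv.table (fun _ _ _ _ => hS _) isoTits_self)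
  tits_5 := tits (Tits.bps_five isoTits_self)

end Cfsg.Agent.BpSpor.AllPairs

end

-- merged: Cfsg.Agent.LThreeFi24N.EmptyT
section

/-!
# Elements of order 3 of `Fi24'` commuting with no transposition: involutions and elements of order 5 (helper48)

* `invol` : the involutions commuting with `x` are conjugate to `z`;
* `no_five`, `five` : `5` does not divide `|C(x)|`.
-/

set_option autoImplicit false
set_option maxRecDepth 100000

namespace Cfsg.Agent.LThreeFi24N.EmptyT

open Subgroup Cfsg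
open Cfsg.Agent.R08.FiTwentyFour (L)
open Cfsg.Spor (Fi24 Fi24')
open Cfsg.Agent.CTwoTab.FiTF (z0 classes coe_z0)
open Cfsg.Agent.LThreeFi24.SNine (x3)
open Cfsg.Agent.LThreeFi24N (cases_of_five comm_word x3_eq x2_eq x2l gmem letters_x1)

/-- the involutions commuting with `x` are conjugate to `z0` -/
theorem exists_z0 {x t : Fi24'} (hx : orderOf x = 3) (hD : ∀ d ∈ L, d * (x : Fi24) ≠ (x : Fi24) * d)
    (ht : orderOf t = 2) (hxt : t * x = x * t) : ∃ g : Fi24', t = g * z0 * g⁻¹ := by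
  rcases classes t ht with ⟨a, b, P, hab⟩ | h
  · exfalso
    have h1 : (x : Fi24) * (a * b) * (x : Fi24)⁻¹ = a * b := by
      rw [mul_inv_eq_iff_eq_mul, ← hab]
      exact (congrArg Subtype.val hxt).symm
    have h2 := (OddHalf.D4.Spor.FiTF.fix_of_odd P.ha P.hb P.ab P.ne h1 (by
      rw [Subgroup.orderOf_coe, hx]; decide)).1
    exact hD a P.ha (by
      have h3 : (x : Fi24) * a = a * x := h2
      exact h3.symm)
  · exact h

/-- **(INVOL)** -/
theorem invol {x t : Fi24'} (hx : orderOf x = 3) (he : ∀ d ∈ L, d * (x : Fi24) ≠ (x : Fi24) * d)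
    (ht : orderOf t = 2) (hxt : t * x = x * t) :
    ∃ g : Fi24', (g : Fi24) * (t : Fi24) * (g : Fi24)⁻¹ = KFacts.FiTF.Defs.z := by
  obtain ⟨g, hg⟩ := exists_z0 hx he ht hxt
  refine ⟨g⁻¹, ?_⟩
  have h1 : g⁻¹ * t * (g⁻¹)⁻¹ = z0 := by rw [hg]; group
  have h2 := congrArg Subtype.val h1
  exact h2

/-- no element of order 5 commutes with `x` -/
theorem no_five {x y : Fi24'} (hx : orderOf x = 3) (hD : ∀ d ∈ L, d * (x : Fi24) ≠ (x : Fi24) * d)
    (hy : orderOf y = 5) (h : y * x = x * y) : False := by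
  have hxo : orderOf (x : Fi24) = 3 := by rw [Subgroup.orderOf_coe, hx]
  have hyo : orderOf (y : Fi24) = 5 := by rw [Subgroup.orderOf_coe, hy]
  obtain ⟨t, ht⟩ := cases_of_five hxo hyo (congrArg Subtype.val h)
  have key : ∀ (x0 d : Fi24), d ∈ L → d * x0 = x0 * d → t * (x : Fi24) * t⁻¹ = x0 → False := by
    intro x0 d hd hdx htx
    refine hD (t⁻¹ * d * t⁻¹⁻¹) (Cfsg.Agent.R08.FiTwentyFour.conj hd _) ?_
    rw [inv_inv]
    have e : (x : Fi24) = t⁻¹ * x0 * t := by rw [← htx]; group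
    rw [e]
    calc t⁻¹ * d * t * (t⁻¹ * x0 * t) = t⁻¹ * (d * x0) * t := by group
      _ = t⁻¹ * (x0 * d) * t := by rw [hdx]
      _ = t⁻¹ * x0 * t * (t⁻¹ * d * t) := by group
  have x3l : Cfsg.Agent.Fischer.Fi24Rep.gen .l * x3 = x3 * Cfsg.Agent.Fischer.Fi24Rep.gen .l := by
    rw [x3_eq]
    exact comm_word (by decide +kernel)
  rcases ht with ht | ht | ht
  · exact key _ _ (gmem .l) (letters_x1 (x := .l) (by simp)).1 ht
  · exact key _ _ (gmem .l) (by rw [x2_eq]; exact x2l) ht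
  · exact key _ _ (gmem .l) x3l ht

/-- **(FIVE)** -/
theorem five {x : Fi24'} (hx : orderOf x = 3) (he : ∀ d ∈ L, d * (x : Fi24) ≠ (x : Fi24) * d) :
    ¬ 5 ∣ Nat.card ↥(centralizer ({x} : Set Fi24')) := by
  have hfin := Cfsg.Agent.R08.FiTwentyFour.finite_Fi24
  intro hd
  have : Fact (Nat.Prime 5) := ⟨by norm_num⟩
  obtain ⟨y, hy⟩ := exists_prime_orderOf_dvd_card' 5 hd
  exact no_five hx he (y := (y : Fi24')) (by rw [Subgroup.orderOf_coe, hy]) (mem_centralizer_singleton_iff.1 y.2)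

end Cfsg.Agent.LThreeFi24N.EmptyT

end

-- merged: Cfsg.Agent.LThreeFi24N.GoodE
section

/-!
# Groups all of whose involutions act freely on `O_{3'}` (helper48)
-/

set_option autoImplicit false

namespace Cfsg.Agent.LThreeFi24N

open Subgroup Cfsg Cfsg.Agent.BpTab

universe u

/-- `O = O_{p'}(H)`; every involution has a solvable centralizer, and acts without fixed points on `O`: `O = 1` or `H` is
solvable -/
theorem good_of_free {p : ℕ} {H : Type u} [Group H] [Finite H]
    (FT : ∀ (A : Type u) [Group A] [Finite A], Odd (Nat.card A) → Group.IsSolvable A)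
    (h1 : ∀ t : H, orderOf t = 2 → Group.IsSolvable ↥(centralizer ({t} : Set H)))
    (h2 : ∀ t : H, orderOf t = 2 → ∀ u ∈ pPrimeCore p H, u * t = t * u → u = 1) : Good p H := by
  by_cases hO : pPrimeCore p H = ⊥
  · exact good_of_core hO
  apply good_of_solvable
  by_cases hH : Odd (Nat.card H)
  · exact FT H hH
  have hN := Lib.Cores.pPrimeCore_normal (G := H) p
  have : Fact (Nat.Prime 2) := ⟨Nat.prime_two⟩
  obtain ⟨t, ht⟩ := exists_prime_orderOf_dvd_card' 2 (even_iff_two_dvd.1 (Nat.not_odd_iff_even.1 hH))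
  set O := pPrimeCore p H with hOdef
  let C : Subgroup H := centralizer (O : Set H)
  have hC : C.Normal := inferInstance
  have hCodd : Odd (Nat.card ↥C) := by
    by_contra hcon
    obtain ⟨⟨c, hc⟩, hc2⟩ := exists_prime_orderOf_dvd_card' 2 (even_iff_two_dvd.1 (Nat.not_odd_iff_even.1 hcon))
    rw [Subgroup.orderOf_mk] at hc2
    apply hO
    rw [eq_bot_iff]
    intro u hu
    exact mem_bot.2 (h2 c hc2 u hu (mem_centralizer_iff.1 hc u hu))
  have sq : ∀ s : H, orderOf s = 2 → s * s = 1 := fun s hs => by rw [← pow_two, ← hs, pow_orderOf_eq_one]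
  have hinv : ∀ s : H, orderOf s = 2 → ∀ u ∈ O, s * u * s⁻¹ = u⁻¹ := fun s hs =>
    MThirteen.inverts (sq s hs) (fun g hg => hN.conj_mem g hg s)
      (fun g hg h => h2 s hs g hg (mul_inv_eq_iff_eq_mul.1 h).symm)
  have hcs : Group.IsSolvable ↥C := FT ↥C hCodd
  have hts := h1 t ht
  have hq : Group.IsSolvable (H ⧸ C) := by
    refine Group.isSolvable_of_surjective (f := (QuotientGroup.mk' C).comp (centralizer ({t} : Set H)).subtype) ?_
    intro a
    obtain ⟨h, rfl⟩ := QuotientGroup.mk'_surjective C a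
    have hs : orderOf (h * t * h⁻¹) = 2 := by rw [← ht]; exact MulEquiv.orderOf_eq (MulAut.conj h) t
    have hst : (h * t * h⁻¹) * t ∈ C := by
      refine mem_centralizer_iff.2 fun u hu => ?_
      have hu' : u ∈ O := hu
      have e1 := hinv t ht u hu'
      have e2 := hinv _ hs _ (O.inv_mem hu')
      rw [inv_inv] at e2
      have e3 : ((h * t * h⁻¹) * t) * u * ((h * t * h⁻¹) * t)⁻¹ = u := by
        calc ((h * t * h⁻¹) * t) * u * ((h * t * h⁻¹) * t)⁻¹ = (h * t * h⁻¹) * (t * u * t⁻¹) * (h * t * h⁻¹)⁻¹ := by group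
          _ = u := by rw [e1, e2]
      exact (mul_inv_eq_iff_eq_mul.1 e3).symm
    have hod : Odd (orderOf ((h * t * h⁻¹) * t)) := by
      have h3 : orderOf (⟨_, hst⟩ : ↥C) ∣ Nat.card ↥C := orderOf_dvd_natCard _
      rw [Subgroup.orderOf_mk] at h3
      exact Odd.of_dvd_nat hCodd h3
    obtain ⟨c, hc, hct⟩ := MThirteen.conj_of_odd (sq _ hs) (sq t ht) hod
    have hcC : c ∈ C := (zpowers_le.2 hst) hc
    refine ⟨⟨c⁻¹ * h, ?_⟩, ?_⟩
    · rw [mem_centralizer_singleton_iff]
      have e4 : h * t = c * t * c⁻¹ * h := by rw [hct]; group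
      calc c⁻¹ * h * t = c⁻¹ * (h * t) := by group
        _ = c⁻¹ * (c * t * c⁻¹ * h) := by rw [e4]
        _ = t * (c⁻¹ * h) := by group
    · change QuotientGroup.mk' C (c⁻¹ * h) = QuotientGroup.mk' C h
      rw [map_mul, map_inv, show QuotientGroup.mk' C c = 1 from (QuotientGroup.eq_one_iff c).2 hcC]
      simp
  exact Group.isSolvable_of_ker_le_range C.subtype (QuotientGroup.mk' C) (by rw [QuotientGroup.ker_mk', range_subtype])

end Cfsg.Agent.LThreeFi24N

end

-- merged: Cfsg.Agent.LThreeFi24N.GoodF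
section

/-!
# `Good 3 (C(x))`, `x ∈ Fi24'` of order 3 commuting with no transposition (helper48)
-/

set_option autoImplicit false
set_option maxRecDepth 100000

namespace Cfsg.Agent.LThreeFi24N

open Subgroup Cfsg Cfsg.Agent.BpTab Cfsg.Agent.BpSpor Cfsg.Agent.OrdDiv Cfsg.Agent.CpAut
open Cfsg.Agent.R08.FiTwentyFour (L facts)
open Cfsg.Spor (Fi24 Fi24')
open Cfsg.Agent.KFacts.FiTF Cfsg.Agent.KFacts.FiTF.Defs
open Cfsg.Agent.R08.TetTwo (IsTet Mate)
open Cfsg.Agent.CTwoTab.FiTF (z0)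
open Cfsg.Agent.LThreeFi24N.EmptyT (exists_z0 no_five)
open Cfsg.Agent.PreUniq.FiTF

/-- an element of order 3 of `Zc` commutes with a transposition -/
theorem exists_of_Zc {x : Fi24} (h3 : x ^ 3 = 1) (hx : x ∈ Z.Zc) : ∃ d ∈ L, d * x = x * d := by
  have hfin := Cfsg.Agent.R08.FiTwentyFour.finite_Fi24
  have hF := Z.small x hx
  have hT := Order.hT
  set a := D 0 0
  set b := D 0 1
  set c := D 0 2
  set d := D 0 3
  let A : Set Fi24 := {a, b, c, d}
  have key : ∀ {e f g h : Fi24}, IsTet L z e f g h → x * e * x⁻¹ = e ∨ x * e * x⁻¹ = f ∨ x * e * x⁻¹ = g ∨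
      x * e * x⁻¹ = h := by
    intro e f g h hT'
    rcases hF e ⟨hT'.ha, hT'.comm_a⟩ with h1 | h1
    · exact Or.inl h1
    · exact Or.inr (hT'.mate_cases Tet.tr h1)
  have hA : ∀ e ∈ A, x * e * x⁻¹ ∈ A := by
    rintro e (rfl | rfl | rfl | rfl)
    · rcases key hT with h | h | h | h <;> rw [h] <;> simp [A]
    · rcases key hT.sw12 with h | h | h | h <;> rw [h] <;> simp [A]
    · rcases key hT.sw13 with h | h | h | h <;> rw [h] <;> simp [A]
    · rcases key hT.sw14 with h | h | h | h <;> rw [h] <;> simp [A]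
  have hc : A.ncard = 4 := by
    change Set.ncard (insert a (insert b (insert c (Set.singleton d)))) = 4
    rw [Set.ncard_insert_of_notMem, Set.ncard_insert_of_notMem, Set.ncard_insert_of_notMem]
    · change ({d} : Set Fi24).ncard + 1 + 1 + 1 = 4
      rw [Set.ncard_singleton]
    · exact hT.ncd
    · rintro (h | h)
      · exact hT.nbc h
      · exact hT.nbd h
    · rintro (h | h | h)
      · exact hT.nab h
      · exact hT.nac h
      · exact hT.nad h
  obtain ⟨e, he, hxe⟩ := Cfsg.Agent.LThreeFi24.Red24.exists_fixed h3 A hA (by rw [hc]; norm_num)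
  refine ⟨e, ?_, hxe.symm⟩
  rcases he with rfl | rfl | rfl | rfl
  · exact hT.ha
  · exact hT.hb
  · exact hT.hc
  · exact hT.hd

section

variable (T : OrderTable.{0}) (hA : AllKnown.{0})

include T hA

/-- `C(x) ∩ C(t)` is a `{2, 3}`-group -/
theorem primes_ct {x t y : Fi24'} (hx : orderOf x = 3) (hD : ∀ d ∈ L, d * (x : Fi24) ≠ x * d) (ht : orderOf t = 2)
    (hxt : x * t = t * x) {r : ℕ} (hr : r.Prime) (hr5 : 5 ≤ r) (hy : orderOf y = r) (hyx : y * x = x * y)
    (hyt : y * t = t * y) : False := by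
  obtain ⟨g, rfl⟩ := exists_z0 hx hD ht hxt.symm
  have back : ∀ a b : Spor.Fi24', a * (g * b * g⁻¹) = g * b * g⁻¹ * a → g⁻¹ * a * g * b = b * (g⁻¹ * a * g) := by
    intro a b h
    calc g⁻¹ * a * g * b = g⁻¹ * (a * (g * b * g⁻¹)) * g := by group
      _ = g⁻¹ * (g * b * g⁻¹ * a) * g := by rw [h]
      _ = b * (g⁻¹ * a * g) := by group
  have back2 : ∀ a b : Spor.Fi24', a * b = b * a → g⁻¹ * a * g * (g⁻¹ * b * g) = g⁻¹ * b * g * (g⁻¹ * a * g) := by
    intro a b h
    calc g⁻¹ * a * g * (g⁻¹ * b * g) = g⁻¹ * (a * b) * g := by group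
      _ = g⁻¹ * (b * a) * g := by rw [h]
      _ = g⁻¹ * b * g * (g⁻¹ * a * g) := by group
  have ho' : ∀ a : Spor.Fi24', orderOf (g⁻¹ * a * g) = orderOf a := by
    intro a
    have : g⁻¹ * a * g = MulAut.conj g⁻¹ a := by rw [MulAut.conj_apply, inv_inv]
    rw [this]
    exact MulEquiv.orderOf_eq _ _
  have hrc : r ∣ 160526499840 := by
    rw [← Z.card_CK_eq, ← hy, ← ho']
    have h1 : g⁻¹ * y * g ∈ centralizer ({z0} : Set Spor.Fi24') :=
      mem_centralizer_singleton_iff.2 (back _ _ hyt)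
    have h2 := orderOf_dvd_natCard (⟨_, h1⟩ : ↥(centralizer ({z0} : Set Spor.Fi24')))
    rw [orderOf_mk] at h2
    exact h2
  have hr57 : r = 5 ∨ r = 7 := by
    rw [show (160526499840 : ℕ) = 2 ^ 21 * 3 ^ 7 * (5 * 7) by norm_num] at hrc
    rcases (hr.dvd_mul).1 hrc with h1 | h1
    · rcases (hr.dvd_mul).1 h1 with h2 | h2
      · have := Nat.le_of_dvd (by norm_num) (hr.dvd_of_dvd_pow h2); omega
      · have := Nat.le_of_dvd (by norm_num) (hr.dvd_of_dvd_pow h2); omega
    · rcases (hr.dvd_mul).1 h1 with h2 | h2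
      · exact Or.inl ((Nat.prime_dvd_prime_iff_eq hr (by norm_num)).1 h2)
      · exact Or.inr ((Nat.prime_dvd_prime_iff_eq hr (by norm_num)).1 h2)
  rcases hr57 with rfl | rfl
  · exact no_five hx hD hy hyx
  · have hx3 : x ^ 3 = 1 := by rw [← hx, pow_orderOf_eq_one]
    have hf3 : (g⁻¹ * x * g) ^ 3 = 1 := by
      have : g⁻¹ * x * g = g⁻¹ * x * g⁻¹⁻¹ := by rw [inv_inv]
      rw [this, conj_pow, hx3]; group
    have hfZ : ((g⁻¹ * x * g : Spor.Fi24') : Fi24) ∉ Z.Zc := by
      intro h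
      obtain ⟨d, hd, hc⟩ := exists_of_Zc (congrArg Subtype.val hf3) h
      refine hD ((g : Fi24) * d * (g : Fi24)⁻¹) (Cfsg.Agent.R08.FiTwentyFour.conj hd _) ?_
      have hc' : d * ((g : Fi24)⁻¹ * x * g) = ((g : Fi24)⁻¹ * x * g) * d := hc
      calc (g : Fi24) * d * (g : Fi24)⁻¹ * x = g * (d * ((g : Fi24)⁻¹ * x * g)) * (g : Fi24)⁻¹ := by group
        _ = g * (((g : Fi24)⁻¹ * x * g) * d) * (g : Fi24)⁻¹ := by rw [hc']
        _ = x * (g * d * (g : Fi24)⁻¹) := by group
    refine Z.not_seven T hA (f := ((g⁻¹ * x * g : Spor.Fi24') : Spor.Fi24))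
      (y := ((g⁻¹ * y * g : Spor.Fi24') : Spor.Fi24)) (congrArg Subtype.val hf3) (g⁻¹ * x * g).2
      (congrArg Subtype.val (back _ _ hxt)) hfZ ?_ (g⁻¹ * y * g).2
      (congrArg Subtype.val (back _ _ hyt)) (congrArg Subtype.val (back2 _ _ hyx))
    rw [Subgroup.orderOf_coe, ho', hy]

/-- **the elements commuting with no transposition** -/
theorem good_of_empty (FT : ∀ (A : Type) [Group A] [Finite A], Odd (Nat.card A) → Group.IsSolvable A) {x : Fi24'}
    (hx : orderOf x = 3) (hD : ∀ d ∈ L, d * (x : Fi24) ≠ x * d)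
    (hI : Cfsg.Agent.LThreeFi24.EmptyAbs.Inv ↥(centralizer ({x} : Set Fi24'))) :
    Good 3 ↥(centralizer ({x} : Set Fi24')) := by
  have hfin := Cfsg.Agent.R08.FiTwentyFour.finite_Fi24
  have hodd := Cfsg.Agent.LThreeFi24.EmptyAbs.odd_core hI
  have key : ∀ (t : ↥(centralizer ({x} : Set Fi24'))), orderOf t = 2 → ∀ (y : ↥(centralizer ({x} : Set Fi24'))) (r : ℕ),
      r.Prime → 5 ≤ r → orderOf y = r → y * t = t * y → False := by
    intro t ht y r hr hr5 hy hyt
    refine primes_ct T hA (x := x) (t := (t : Fi24')) (y := (y : Fi24')) hx hD (by rw [Subgroup.orderOf_coe, ht])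
      (mem_centralizer_singleton_iff.1 t.2).symm hr hr5 (by rw [Subgroup.orderOf_coe, hy])
      (mem_centralizer_singleton_iff.1 y.2) (congrArg Subtype.val hyt)
  refine good_of_free FT ?_ ?_
  · intro t ht
    apply LThreeFi24.Comp.solvable_of_primes
    intro r hr hd
    by_contra hcon
    push Not at hcon
    have hr5 : 5 ≤ r := by
      have h4 := hr.two_le
      have h6 : r ≠ 4 := by rintro rfl; revert hr; decide
      omega
    have : Fact r.Prime := ⟨hr⟩
    obtain ⟨y, hy⟩ := exists_prime_orderOf_dvd_card' r hd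
    exact key t ht y r hr hr5 (by rw [Subgroup.orderOf_coe, hy]) (mem_centralizer_singleton_iff.1 y.2)
  · intro t ht u hu hut
    by_contra hu1
    set O := pPrimeCore 3 ↥(centralizer ({x} : Set Fi24')) with hO
    have hou : orderOf u ∣ Nat.card ↥O := by
      have := orderOf_dvd_natCard (⟨u, hu⟩ : ↥O)
      rwa [Subgroup.orderOf_mk] at this
    have hne : orderOf u ≠ 1 := fun h => hu1 (orderOf_eq_one_iff.1 h)
    obtain ⟨r, hr, hrd⟩ := Nat.exists_prime_and_dvd hne
    have hr2 : r ≠ 2 := by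
      rintro rfl
      exact (Nat.not_even_iff_odd.2 hodd) (even_iff_two_dvd.2 (hrd.trans hou))
    have hr3 : r ≠ 3 := by
      rintro rfl
      exact (Nat.Prime.coprime_iff_not_dvd Nat.prime_three).1
        (Lib.Cores.pPrimeCore_coprime (G := ↥(centralizer ({x} : Set Fi24'))) 3).symm (hrd.trans hou)
    have hr5 : 5 ≤ r := by
      have h4 := hr.two_le
      have h6 : r ≠ 4 := by rintro rfl; revert hr; decide
      omega
    obtain ⟨n, hn⟩ := LThreeFi24.CompB.exists_pow_prime hr hrd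
    refine key t ht (u ^ n) r hr hr5 hn ?_
    have hc : Commute u t := hut
    exact (hc.pow_left n).eq

end

end Cfsg.Agent.LThreeFi24N

end

-- merged: Cfsg.Agent.BpSpor.FiTFThree
section

/-!
# S1332, row `(Fi24', 3)` (helper48)

Modulo `Inv (C(x))` (helper40) for the elements `x` of order 3 commuting with no transposition.
-/

set_option autoImplicit false

namespace Cfsg.Agent.BpSpor.FiTF

open Subgroup Cfsg Cfsg.Agent.BpTab Cfsg.Agent.OrdDiv Cfsg.Agent.CpAut
open Cfsg.Agent.R08.FiTwentyFour (L)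
open Cfsg.Spor (Fi24)

/-- **Row `(Fi24', 3)`**, from the local condition on the centralizers of the elements commuting with no transposition. -/
theorem bps_three_of (T : OrderTable.{0}) (hA : AllKnown.{0})
    (FT : ∀ (A : Type) [Group A] [Finite A], Odd (Nat.card A) → Group.IsSolvable A)
    (hI : ∀ x : Spor.Fi24', orderOf x = 3 → (∀ d ∈ L, d * (x : Fi24) ≠ (x : Fi24) * d) →
      LThreeFi24.EmptyAbs.Inv ↥(centralizer ({x} : Set Spor.Fi24'))) : BpS 3 Spor.Fi24' := by
  have hfin := Cfsg.Agent.R08.FiTwentyFour.finite_Fi24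
  have hs : IsSimpleGroup Spor.Fi24' := Cfsg.Agent.S1698.result.1
  have hc : center Spor.Fi24' = ⊥ := center_eq_bot_of_card hs (by
    rw [Cfsg.Agent.S1698.result.2]
    norm_num)
  refine bpS_of_inner hc (Inn.fi24 ⟨MulEquiv.refl _⟩ 3 Nat.prime_three (by norm_num)) ?_
  intro x hx
  by_cases h : ∃ d ∈ L, d * (x : Fi24) = (x : Fi24) * d
  · obtain ⟨d, hd, hdx⟩ := h
    exact LThreeFi24N.good_of_nonempty hx hd hdx
  · push Not at h
    exact LThreeFi24N.good_of_empty T hA FT hx h (hI x hx h)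

end Cfsg.Agent.BpSpor.FiTF

end

-- merged: Cfsg.Agent.BpTab.Spor
section

/-!
# S1332: all sporadic pairs from S0000
-/

set_option autoImplicit false

namespace Cfsg.Agent.BpTab.Spor

open Cfsg Cfsg.Agent.BpTab

/-- **All sporadic pairs**, from S0000. -/
theorem pairs (hS : ∀ (G : Type) [Group G] [Finite G] [IsSimpleGroup G], IsKnownSimple' G) : BpSpor.Main.Pairs :=
  BpSpor.AllPairs.pairs hS (BpSpor.FiTF.bps_three_of OrdDiv.table hS (fun _ _ _ h => S0205.result h)
    fun _ hx he => LThreeFi24.EmptyInv.inv_of OrdDiv.table hS (LThreeFi24.EmptyDat.exists_dat OrdDiv.table hS) hx he)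

end Cfsg.Agent.BpTab.Spor

end
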